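import Mathlib
import Cfsg.Agent.H29.Lab

/-!
# Word identities for Fischer's theorem (helper29)

`fth` (fourth point of a `D₄`), `th` (transport between `vrel`-classes), `zeta` (centre of an affine plane).
-/

set_option autoImplicit false
set_option maxRecDepth 100000
set_option linter.unusedVariables false

namespace H29

open Cfsg Subgroup

variable {G : Type*} [Group G]

theorem w_F_a {a b d c : G} (sa : a * a = 1) (sb : b * b = 1) (sd : d * d = 1) (sc : c * c = 1)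
    (h1 : a * c * a = c * a * c)
    (h2 : b * c * b = c * b * c)
    (h3 : d * c * d = c * d * c)
    (h4 : a * b = b * a)
    (h5 : a * d = d * a)
    (h6 : b * d = d * b) :
    a * c * a * b * d * c * d * b * a * c = c * a * b * d * c * d * b * a * c * a :=
  H29.Word.eq_of_check (g := [a, b, d, c]) (by simp [sa, sb, sd, sc])
    (R := [([0,3,0],[3,0,3]), ([1,3,1],[3,1,3]), ([2,3,2],[3,2,3]), ([0,1],[1,0]), ([0,2],[2,0]), ([1,2],[2,1])])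
    ⟨h1,
     h2,
     h3,
     h4,
     h5,
     h6,
     trivial⟩
    [([0,1],[(0,6)],[]),([0,2],[(0,10)],[]),([1,2],[(0,14)],[]),([0,3,0],[(0,6)],[]),([1,3,1],[(0,10)],[]),
      ([2,3,2],[(0,14)],[]),([3,0,3,1,3],[(2,2)],[(0,4)]),([3,2,3,1,3],[(2,4),(1,8)],[(0,2),(2,8)]),
      ([3,0,1,3,1,2,3,1],[(3,0)],[(0,2),(4,4),(6,10)]),([3,0,1,2,3,1,2,3,0,3],[(7,10),(6,14),(5,16)],[(0,0),(7,14),
      (6,16)])]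
    [0,3,0,1,2,3,2,1,0,3] [3,0,1,2,3,2,1,0,3,0] [(6,14),(7,16),(6,18)] [(5,14),(6,16),(5,18),(0,0)] (by decide +kernel)

theorem w_F_invol {a b d c : G} (sa : a * a = 1) (sb : b * b = 1) (sd : d * d = 1) (sc : c * c = 1)
    (h1 : a * c * a = c * a * c)
    (h2 : b * c * b = c * b * c)
    (h3 : d * c * d = c * d * c)
    (h4 : a * b = b * a)
    (h5 : a * d = d * a)
    (h6 : b * d = d * b) :
    c * a * b * c * a * b * d * c * d * b * a * c * c * c * a * b * d * c * d * b * a * c * b * a * c = d :=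
  H29.Word.eq_of_check (g := [a, b, d, c]) (by simp [sa, sb, sd, sc])
    (R := [([0,3,0],[3,0,3]), ([1,3,1],[3,1,3]), ([2,3,2],[3,2,3]), ([0,1],[1,0]), ([0,2],[2,0]), ([1,2],[2,1])])
    ⟨h1,
     h2,
     h3,
     h4,
     h5,
     h6,
     trivial⟩
    [([0,1],[(0,6)],[]),([0,2],[(0,10)],[]),([1,2],[(0,14)],[]),([0,3,0],[(0,6)],[]),([1,3,1],[(0,10)],[]),
      ([2,3,2],[(0,14)],[]),([3,1,3,0,3],[(2,4),(1,10)],[(0,2),(2,10)]),([3,0,3,1,3],[(2,4)],[(0,6)])]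
    [3,0,1,3,0,1,2,3,2,1,0,3,3,3,0,1,2,3,2,1,0,3,1,0,3] [2] [(0,2),(1,0),(0,14),(5,4),(7,14),(6,2),(5,10),(5,0),(4,12),(2,4),(4,12),(5,10),(7,4),(3,0),(2,12),(1,14),(2,2),(1,10)] [] (by decide +kernel)

theorem w_F_braid {a b d c : G} (sa : a * a = 1) (sb : b * b = 1) (sd : d * d = 1) (sc : c * c = 1)
    (h1 : a * c * a = c * a * c)
    (h2 : b * c * b = c * b * c)
    (h3 : d * c * d = c * d * c)
    (h4 : a * b = b * a)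
    (h5 : a * d = d * a)
    (h6 : b * d = d * b) :
    a * b * d * c * d * b * a * c * a * b * d * c * d * b * a = c * a * b * d * c * d * b * a * c :=
  H29.Word.eq_of_check (g := [a, b, d, c]) (by simp [sa, sb, sd, sc])
    (R := [([0,3,0],[3,0,3]), ([1,3,1],[3,1,3]), ([2,3,2],[3,2,3]), ([0,1],[1,0]), ([0,2],[2,0]), ([1,2],[2,1])])
    ⟨h1,
     h2,
     h3,
     h4,
     h5,
     h6,
     trivial⟩
    [([0,1],[(0,6)],[]),([0,2],[(0,10)],[]),([1,2],[(0,14)],[]),([0,3,0],[(0,6)],[]),([1,3,1],[(0,10)],[]),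
      ([2,3,2],[(0,14)],[]),([3,1,3,0,3],[(2,4),(1,10)],[(0,2),(2,10)]),([3,0,3,1,3],[(2,4)],[(0,6)]),
      ([3,2,3,0,3],[(2,8),(1,12)],[(0,4),(2,12)]),([3,2,3,1,3],[(2,8),(1,12)],[(0,6),(2,12)]),
      ([3,0,2,3,0,1,3,0],[(3,6),(2,14)],[(0,2),(4,10),(3,14),(6,18)]),([3,0,1,3,0,2,3,0],[(3,4)],[(0,8),(4,10),
      (6,18)]),([3,0,1,3,1,2,3,1],[(3,4)],[(0,8),(4,12),(6,18)]),([3,0,1,2,3,0,1,3,2,3],[(7,14)],[(0,4)]),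
      ([3,0,1,2,3,0,2,3,1,3],[(7,18),(6,22)],[(0,4),(7,22)]),([3,0,1,2,3,1,2,3,0,3],[(7,22),(6,26),(5,28)],[(0,4),
      (7,26),(6,28)])]
    [0,1,2,3,2,1,0,3,0,1,2,3,2,1,0] [3,0,1,2,3,2,1,0,3] [(4,26),(5,28),(4,30),(3,4),(2,2),(1,0)] [(5,26),(6,28),(5,30)] (by decide +kernel)

theorem w_g_swap {a b c : G} (sa : a * a = 1) (sb : b * b = 1) (sc : c * c = 1)
    (h1 : a * c * a = c * a * c)
    (h2 : b * c * b = c * b * c)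
    (h4 : a * b = b * a) :
    c * a * b * c * a * c * b * a * c = b :=
  H29.Word.eq_of_check (g := [a, b, c]) (by simp [sa, sb, sc])
    (R := [([0,2,0],[2,0,2]), ([1,2,1],[2,1,2]), ([0,1],[1,0])])
    ⟨h1,
     h2,
     h4,
     trivial⟩
    [([0,1],[(0,4)],[]),([0,2,0],[(0,2)],[]),([1,2,1],[(0,6)],[])]
    [2,0,1,2,0,2,1,0,2] [1] [(3,2),(2,4),(0,0),(2,4)] [] (by decide +kernel)

theorem w_th_th {m b y : G} (sm : m * m = 1) (sb : b * b = 1) (sy : y * y = 1)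
    (h1 : m * b * m = b * m * b)
    (h2 : y * b * y = b * y * b)
    (h3 : m * y = y * m) :
    b * m * y * b * y * m * m * m * y * b * y * m * b = y :=
  H29.Word.eq_of_check (g := [m, b, y]) (by simp [sm, sb, sy])
    (R := [([0,1,0],[1,0,1]), ([2,1,2],[1,2,1]), ([0,2],[2,0])])
    ⟨h1,
     h2,
     h3,
     trivial⟩
    [([0,2],[(0,4)],[]),([0,1,0],[(0,2)],[]),([2,1,2],[],[(0,6)])]
    [1,0,2,1,2,0,0,0,2,1,2,0,1] [2] [(2,0),(0,2),(6,0),(4,2),(3,4),(6,2),(5,4),(2,0),(1,4)] [] (by decide +kernel)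

theorem w_th_conj {m b y : G} (sm : m * m = 1) (sb : b * b = 1) (sy : y * y = 1)
    (h1 : m * b * m = b * m * b)
    (h2 : m * y * m = y * m * y)
    (h3 : b * y = y * b) :
    b * y * m * b * m * y * b = m * y * m :=
  H29.Word.eq_of_check (g := [m, b, y]) (by simp [sm, sb, sy])
    (R := [([0,1,0],[1,0,1]), ([0,2,0],[2,0,2]), ([1,2],[2,1])])
    ⟨h1,
     h2,
     h3,
     trivial⟩
    [([1,2],[(0,4)],[]),([0,1,0],[(0,2)],[]),([0,2,0],[(0,6)],[])]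
    [1,2,0,1,0,2,1] [0,2,0] [(5,4),(3,2),(1,4),(0,0)] [] (by decide +kernel)

theorem w_hol_flat {m b x y : G} (sm : m * m = 1) (sb : b * b = 1) (sx : x * x = 1) (sy : y * y = 1)
    (h1 : m * b * m = b * m * b)
    (h2 : x * b * x = b * x * b)
    (h3 : y * b * y = b * y * b)
    (h4 : m * x = x * m)
    (h5 : m * y = y * m)
    (h6 : x * y = y * x) :
    b * x * b * b * m * y * b * y * m * b * x * b * m * y * b * y * m * b * m * b * m * y * b * y * m * b * x * b * m * y * b * y * m * b * b * x * b = y :=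
  H29.Word.eq_of_check (g := [m, b, x, y]) (by simp [sm, sb, sx, sy])
    (R := [([0,1,0],[1,0,1]), ([2,1,2],[1,2,1]), ([3,1,3],[1,3,1]), ([0,2],[2,0]), ([0,3],[3,0]), ([2,3],[3,2])])
    ⟨h1,
     h2,
     h3,
     h4,
     h5,
     h6,
     trivial⟩
    [([0,2],[(0,6)],[]),([0,3],[(0,10)],[]),([2,3],[(0,14)],[]),([0,1,0],[(0,6)],[]),([2,1,2],[],[(0,10)]),
      ([3,1,3],[],[(0,14)]),([2,1,2,0],[(2,10)],[(0,2)]),([3,2,1,2],[(1,4)],[(0,8)]),([3,1,3,0],[(2,12)],[(0,4)]),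
      ([3,1,0,3,2],[(3,12)],[(0,0)])]
    [1,2,1,1,0,3,1,3,0,1,2,1,0,3,1,3,0,1,0,1,0,3,1,3,0,1,2,1,0,3,1,3,0,1,1,2,1] [3] [(1,18),(3,8),(5,12),(4,16),(11,8),(9,12),(8,18),(5,4),(2,6),(0,12),(8,18),(6,0),(4,12),(3,18),(9,12),(5,0),(3,12),(2,18),(11,16),(12,4),(9,6),(7,12),(6,16),(13,18),(11,0),(9,12),(8,18),(5,4),(3,10),(1,12),(6,18),(4,0),(6,6),(4,12),(3,16),(2,18),(6,12),(5,18),(2,4),(3,18),(1,0),(3,18)] [] (by decide +kernel)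

theorem w_zeta_d {d a x : G} (sd : d * d = 1) (sa : a * a = 1) (sx : x * x = 1)
    (h1 : d * a * d = a * d * a)
    (h2 : d * x * d = x * d * x)
    (h3 : a * x * a = x * a * x)
    (h4 : d * a * d * x * d * a * d = x * d * a * d * x) :
    d * d * a * x * d * a * x = d * a * x * d * a * x * d :=
  H29.Word.eq_of_check (g := [d, a, x]) (by simp [sd, sa, sx])
    (R := [([0,1,0],[1,0,1]), ([0,2,0],[2,0,2]), ([1,2,1],[2,1,2]), ([0,1,0,2,0,1,0],[2,0,1,0,2])])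
    ⟨h1,
     h2,
     h3,
     h4,
     trivial⟩
    [([0,1,0],[(0,0)],[]),([0,2,0],[(0,4)],[]),([1,2,1],[(0,8)],[]),([2,0,2,1,2],[(2,0)],[(0,2)]),
      ([0,1,0,2,0,1],[(0,14)],[]),([2,0,1,2,1,0,1],[(4,8)],[(0,2)]),([2,0,1,0,2,0,2],[(0,2)],[(4,8)]),
      ([0,0,1,0,2,0,1,2],[(0,22)],[(1,0)]),([1,0,2,0,1,2,1],[(0,0)],[(2,8)]),([0,0,2,0,1,2,0,1],[(0,26)],[(1,0)]),
      ([2,0,1,2,0,1,0],[(0,0)],[(0,8),(1,0)])]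
    [0,0,1,2,0,1,2] [0,1,2,0,1,2,0] [] [(0,0)] (by decide +kernel)

theorem w_zeta_a {d a x : G} (sd : d * d = 1) (sa : a * a = 1) (sx : x * x = 1)
    (h1 : d * a * d = a * d * a)
    (h2 : d * x * d = x * d * x)
    (h3 : a * x * a = x * a * x)
    (h4 : d * a * d * x * d * a * d = x * d * a * d * x) :
    a * d * a * x * d * a * x = d * a * x * d * a * x * a :=
  H29.Word.eq_of_check (g := [d, a, x]) (by simp [sd, sa, sx])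
    (R := [([0,1,0],[1,0,1]), ([0,2,0],[2,0,2]), ([1,2,1],[2,1,2])])
    ⟨h1,
     h2,
     h3,
     trivial⟩
    [([0,1,0],[(0,0)],[]),([0,2,0],[(0,4)],[]),([1,2,1],[(0,8)],[]),([2,0,2,1,2],[(2,0)],[(0,2)])]
    [1,0,1,2,0,1,2] [0,1,2,0,1,2,1] [(0,6)] [(2,0)] (by decide +kernel)

theorem w_zeta_x {d a x : G} (sd : d * d = 1) (sa : a * a = 1) (sx : x * x = 1)
    (h1 : d * a * d = a * d * a)
    (h2 : d * x * d = x * d * x)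
    (h3 : a * x * a = x * a * x)
    (h4 : d * a * d * x * d * a * d = x * d * a * d * x) :
    x * d * a * x * d * a * x = d * a * x * d * a * x * x :=
  H29.Word.eq_of_check (g := [d, a, x]) (by simp [sd, sa, sx])
    (R := [([0,2,0],[2,0,2]), ([1,2,1],[2,1,2]), ([0,1,0,2,0,1,0],[2,0,1,0,2])])
    ⟨h2,
     h3,
     h4,
     trivial⟩
    [([0,2,0],[(0,0)],[]),([1,2,1],[(0,4)],[]),([2,0,2,1,2],[(2,0)],[(0,2)]),([0,1,0,2,0,1],[(0,10)],[]),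
      ([2,0,1,0,2,0,2],[(0,0)],[(4,6)]),([0,0,1,0,2,0,1,2],[(0,16)],[(1,0)]),([1,0,2,0,1,2,1],[(0,0)],[(2,6)]),
      ([0,0,2,0,1,2,0,1],[(0,20)],[(1,0)])]
    [2,0,1,2,0,1,2] [0,1,2,0,1,2,2] [(0,0)] [] (by decide +kernel)

theorem w_zeta_one {d a x m : G} (sd : d * d = 1) (sa : a * a = 1) (sx : x * x = 1) (sm : m * m = 1)
    (h1 : d * a * d = a * d * a)
    (h2 : d * x * d = x * d * x)
    (h3 : a * x * a = x * a * x)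
    (h4 : d * a * d * x * d * a * d = x * d * a * d * x)
    (h5 : d * m = m * d)
    (h6 : a * m = m * a)
    (h7 : x * m * x = m * x * m)
    (h8 : m * d * a * x * d * a * x * m * x * a * d * x * a * d = d * a * x * d * a * x * m * x * a * d * x * a * d * m) :
    d = a :=
  H29.Word.eq_of_check (g := [d, a, x, m]) (by simp [sd, sa, sx, sm])
    (R := [([0,1,0],[1,0,1]), ([0,2,0],[2,0,2]), ([1,2,1],[2,1,2]), ([0,1,0,2,0,1,0],[2,0,1,0,2]), ([0,3],[3,0]), ([1,3],[3,1]), ([2,3,2],[3,2,3]), ([3,0,1,2,0,1,2,3,2,1,0,2,1,0],[0,1,2,0,1,2,3,2,1,0,2,1,0,3])])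
    ⟨h1,
     h2,
     h3,
     h4,
     h5,
     h6,
     h7,
     h8,
     trivial⟩
    [([0,3],[(0,8)],[]),([1,3],[(0,12)],[]),([0,1,0],[(0,4)],[]),([0,2,0],[(0,8)],[]),([1,2,1],[(0,12)],[]),
      ([2,3,2],[(0,22)],[]),([3,2,3,0],[(2,10)],[(0,0)]),([3,2,3,1],[(2,10)],[(0,2)]),([2,1,2,0,2],[(2,8)],[(0,6)]),
      ([2,0,2,1,2],[(2,8)],[(0,10)]),([3,2,0,3,1],[(3,16)],[(0,6)]),([3,2,1,3,0],[(3,20)],[(0,6)]),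
      ([0,1,0,2,0,1],[(0,30)],[]),([2,0,1,0,2],[(0,0)],[]),([0,0,1,0,2,0,1,0],[(0,44)],[(1,0)]),
      ([3,2,0,1,3,2,3],[(4,18)],[(0,8)]),([3,2,1,0,3,2,3],[(4,20)],[(0,8)]),([2,0,1,0,2,0,2],[(0,8)],[(4,26)]),
      ([0,0,1,0,2,0,1,2],[(0,52)],[(1,0)]),([1,0,2,0,1,0,1],[(0,8)],[(4,32)]),([0,0,2,0,1,0,2,1],[(0,56)],[(1,0)]),
      ([2,1,0,2,0,1,0],[(0,24)],[(1,12),(0,34)]),([1,2,1,0,2,1],[],[(0,0),(1,26)]),([1,1,2,1,0,2,1],[(1,0),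
      (0,40)],[(0,62)]),([0,0,1,0,2,1,0,2],[(0,64)],[(1,0)]),([3,1,0,2,0,1,2],[(0,46),(1,48)],[(1,12),(0,48)]),
      ([3,1,2,1,0,2,1],[(0,48)],[(1,6),(0,50),(1,48)]),([3,2,0,1,2,3,2,0,2],[(6,46),(5,52)],[(0,22),(6,52)]),
      ([1,0,3,2,0,1,2,3,2],[(2,24)],[(0,4)]),([1,0,2,3,2,0,1,2,3,1],[(8,54),(4,38),(3,56)],[(0,0)]),
      ([3,2,1,0,2,3,2,0,1,2,1],[(0,26),(6,58),(2,42),(1,56),(7,56),(1,6),(3,26),(9,56)],[(6,40),(5,58),(1,42),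
      (0,56),(1,26),(7,58),(3,42),(2,56),(8,56),(2,6),(4,26)]),([2,0,1,2,3,2,1,0,2,1],[],[(0,0)]),
      ([2,1,0,2,0,3,2,0,1,2,3],[(1,4)],[(0,46),(2,6)]),([3,0,1,2,0,1,2,3,2,1,0,2,1,0],[(0,64),(1,62),(2,34),(8,62),
      (4,46),(3,64),(9,64),(2,0),(3,10),(1,58)],[(0,80),(2,2),(6,48),(5,62),(1,46)]),([2,0,3,2,0,1,2,0,3],[],[(0,0),
      (4,34)]),([2,0,3,2,0,1,2,0],[],[(0,0)]),([2,0,3,2,0,1,2],[(0,0),(4,54),(3,68)],[]),([2,0,3,2,1,0],[],[(0,0)]),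
      ([2,2,0,3,2,1,0],[(0,92)],[(1,0)]),([0,0,3,2,1,0],[(0,94)],[(1,0)]),([3,3,2,1,0],[(0,96)],[(1,0)]),
      ([2,1,0,2,0],[(0,0)],[(0,64),(1,0)]),([1,0,2,1,0,2],[(2,2),(0,46),(1,0)],[(0,34),(1,2),(1,64)]),
      ([2,1],[(0,4)],[]),([1,0,2,0,1,0],[(2,0)],[(0,58),(1,0),(1,78)]),([2,0,1,0,2,1],[(0,48),(1,0),(1,8)],[(0,2),
      (0,80)]),([0,1,2,0,1,2],[(0,6)],[(1,0)]),([2,0,1,2,1],[(0,74),(1,0)],[(0,0)])]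
    [0] [1] [] [(0,0)] (by decide +kernel)

theorem w_zeta_eight {d a x e : G} (sd : d * d = 1) (sa : a * a = 1) (sx : x * x = 1) (se : e * e = 1)
    (h1 : d * a * d = a * d * a)
    (h2 : d * x * d = x * d * x)
    (h3 : a * x * a = x * a * x)
    (h4 : d * a * d * x * d * a * d = x * d * a * d * x)
    (h5 : d * e = e * d)
    (g0 : a * e * a = e * a * e)
    (g1 : x * e * x = e * x * e)
    (g2 : a * x * a * e * a * x * a = e * a * x * a * e)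
    (g3 : a * d * x * d * a * e * a * d * x * d * a = e * a * d * x * d * a * e) :
    e * d * a * x * d * a * x * e * x * a * d * x * a * d = d * a * x * d * a * x * e * x * a * d * x * a * d * e :=
  H29.Word.eq_of_check (g := [d, a, x, e]) (by simp [sd, sa, sx, se])
    (R := [([0,1,0],[1,0,1]), ([0,2,0],[2,0,2]), ([1,2,1],[2,1,2]), ([0,1,0,2,0,1,0],[2,0,1,0,2]), ([0,3],[3,0]), ([1,3,1],[3,1,3]), ([2,3,2],[3,2,3]), ([1,2,1,3,1,2,1],[3,1,2,1,3]), ([1,0,2,0,1,3,1,0,2,0,1],[3,1,0,2,0,1,3])])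
    ⟨h1,
     h2,
     h3,
     h4,
     h5,
     g0,
     g1,
     g2,
     g3,
     trivial⟩
    [([0,3],[(0,8)],[]),([0,1,0],[(0,2)],[]),([0,2,0],[(0,6)],[]),([1,2,1],[(0,10)],[]),([1,3,1],[(0,18)],[]),
      ([2,3,2],[(0,22)],[]),([3,2,3,0],[(2,10)],[(0,0)]),([2,1,2,0,2],[(2,8)],[(0,6)]),
      ([2,0,2,1,2],[(2,8)],[(0,10)]),([3,2,3,1,3],[(2,8)],[(0,6)]),([3,1,3,2,3],[(2,8)],[(0,10)]),
      ([0,1,0,2,0,1],[(0,28)],[]),([2,0,1,0,2],[(0,0)],[]),([1,2,1,3,1,2],[(0,40)],[]),([3,1,2,1,3],[(0,0)],[]),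
      ([3,2,0,3,1,3],[(3,20)],[(0,16)]),([0,0,1,0,2,0,1,0],[(0,50)],[(1,6)]),([1,1,2,1,3,1,2,1],[(0,52)],[(1,4)]),
      ([2,0,1,2,1,0,1],[(4,32)],[(0,18)]),([3,1,2,3,2,1,2],[(4,30)],[(0,16)]),([2,0,1,0,2,0,2],[(0,16)],[(4,34)]),
      ([0,0,1,0,2,0,1,2],[(0,60)],[(1,0)]),([3,1,2,1,3,1,3],[(0,16)],[(4,34)]),([1,1,2,1,3,1,2,3],[(0,64)],[(1,0)]),
      ([1,0,2,0,1,0,1],[(0,14)],[(4,44)]),([0,0,2,0,1,0,2,1],[(0,68)],[(1,0)]),([2,1,0,2,0,1,0],[(0,36)],[(1,18),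
      (0,46)]),([1,1,2,1,0,2,1,0],[(0,72)],[(1,0)]),([2,1,3,1,2,1,2],[(0,20)],[(4,48)]),
      ([1,1,3,1,2,1,3,2],[(0,76)],[(1,0)]),([3,2,1,3,1,2,1],[(0,40)],[(1,24),(0,50)]),([2,3,2,1,3,2],[],[(0,0),
      (1,42)]),([2,2,3,2,1,3,2],[(1,0),(0,56)],[(0,82)]),([2,2,3,2,1,3,2,1],[(0,84)],[(1,4)]),
      ([1,1,2,1,3,2,1,3],[(0,86)],[(1,2)]),([1,0,2,0,1,2,1],[(0,26)],[(2,52)]),([0,0,2,0,1,2,0,1],[(0,90)],[(1,0)]),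
      ([2,0,1,2,0,1,0],[(0,0)],[(0,36),(1,0)]),([0,1,2,0,1,2],[(0,0)],[]),([2,1,3,1,2,3,2],[(0,30)],[(2,56)]),
      ([1,1,3,1,2,3,1,2],[(0,98)],[(1,0)]),([3,1,2,3,1,2,1],[(0,0)],[(0,42),(1,0)]),([1,2,3,1,2,3],[(0,0)],[]),
      ([2,1,3,2,1,3,0],[(5,84)],[(0,16)]),([3,2,1,3,1,2,3,2],[(3,66),(0,76),(2,80)],[(0,68),(0,24),(3,80)]),
      ([2,0,2,1,3,1,2,3],[(2,42)],[(0,84)]),([3,2,1,3,2,1,0,1],[(5,88)],[(0,24),(0,22)]),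
      ([2,0,2,3,1,2,3,1],[(2,8)],[(0,88)]),([2,0,2,3,1,2,1,3],[(2,6)],[(0,90)]),([1,0,2,0,1,3,1,0,2],[(0,114)],[]),
      ([3,1,0,2,0,1,3,1],[(0,0)],[]),([3,2,0,3,1,2,1,3,2],[(0,88),(2,84),(1,100)],[(3,42),(1,84),(0,100)]),
      ([3,2,0,1,3,1,2,3,1],[(0,72),(5,92)],[(1,12),(0,102),(1,72),(6,92)]),
      ([1,1,0,2,0,1,3,1,0,2,0],[(1,4)],[(0,124)]),([3,1,3,1,0,2,0,1,3,1],[(1,0),(0,106),(1,76),(6,106)],[(0,98),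
      (1,106),(2,76)]),([0,0,2,3,2,0,1,0,3,2,0],[(0,128)],[(1,0)]),([2,3,2,0,1,0,3,2,0,2],[(0,0)],[(7,106),
      (6,110)]),([0,0,1,0,2,3,2,0,1,3,2],[(0,132)],[(1,0)]),([1,0,2,3,2,0,1,3,2,3],[(7,104)],[(0,0),(6,102)]),
      ([2,1,2,3,2,0,1,2,3,2,1],[(0,110)],[(2,12),(1,0),(0,112),(1,14)]),([1,2,1,3,2,0,1,2,3,2],[(0,0),(7,116)],[]),
      ([3,3,2,0,1,2,3,2,0,1,0],[(1,0),(0,62),(5,118)],[(0,140)]),([1,1,2,1,3,2,0,1,2,3,2,1],[(0,142)],[(1,4)]),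
      ([1,2,1,3,2,0,1,0,2,3],[(0,2)],[]),([2,1,3,2,0,1,2,3,2,1,2],[(0,2)],[(8,120),(3,30),(2,126),(3,114),(5,110),
      (4,126),(0,112)]),([1,1,3,2,0,1,2,3,2,1,0,2],[(0,148)],[(1,0)]),([3,3,2,0,1,2,3,2,1,0,2],[(1,0)],[(0,150)]),
      ([3,2,1,0,2,3,2,0,1,2],[],[(0,0)]),([2,0,1,2,3,2,0,1,0,2,1],[(5,84),(4,134)],[(0,8)]),
      ([2,0,1,2,0,3,1,0,2,1],[(0,0)],[]),([1,1,2,1,3,2,0,1,0,2,3,1,0],[(0,158)],[(1,0),(0,62)]),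
      ([2,1,3,2,0,1,0,2,3,1],[(0,0)],[]),([0,0,1,2,0,1,2,3,1,0,2,1,0],[(0,162)],[(1,0)]),
      ([2,1,3,2,1,0,3,1,2,3,1,2],[(6,64),(4,142)],[(0,58)]),([2,1,3,2,0,1,0,2,3,1,2],[],[(0,0),(5,52),(4,146),
      (5,134),(1,12)]),([2,1,3,2,0,1,0,2,3,1,2,3],[(0,2)],[(0,0)])]
    [3,0,1,2,0,1,2,3,2,1,0,2,1,0] [0,1,2,0,1,2,3,2,1,0,2,1,0,3] [(0,150),(8,96),(2,6),(1,150),(0,58),(0,0)] [(7,96),(1,6),(0,2)] (by decide +kernel)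

theorem w_hol_fpf {m b c y : G} (sm : m * m = 1) (sb : b * b = 1) (sc : c * c = 1) (sy : y * y = 1)
    (h1 : m * b * m = b * m * b)
    (h2 : m * c * m = c * m * c)
    (h3 : b * c * b = c * b * c)
    (h4 : m * b * m * c * m * b * m = c * m * b * m * c)
    (h5 : m * y = y * m)
    (g0 : b * y * b = y * b * y)
    (g1 : c * y * c = y * c * y)
    (g2 : b * c * b * y * b * c * b = y * b * c * b * y)
    (g3 : b * m * c * m * b * y * b * m * c * m * b = y * b * m * c * m * b * y)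
    (h6 : c * b * m * y * b * y * m * c * m * y * b * y * m * b * m * b * m * y * b * y * m * c * m * y * b * y * m * b * c = y) :
    y = m :=
  H29.Word.eq_of_check (g := [m, b, c, y]) (by simp [sm, sb, sc, sy])
    (R := [([0,1,0],[1,0,1]), ([0,2,0],[2,0,2]), ([1,2,1],[2,1,2]), ([0,1,0,2,0,1,0],[2,0,1,0,2]), ([0,3],[3,0]), ([1,3,1],[3,1,3]), ([2,3,2],[3,2,3]), ([1,2,1,3,1,2,1],[3,1,2,1,3]), ([1,0,2,0,1,3,1,0,2,0,1],[3,1,0,2,0,1,3]), ([2,1,0,3,1,3,0,2,0,3,1,3,0,1,0,1,0,3,1,3,0,2,0,3,1,3,0,1,2],[3])])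
    ⟨h1,
     h2,
     h3,
     h4,
     h5,
     g0,
     g1,
     g2,
     g3,
     h6,
     trivial⟩
    [([0,3],[(0,8)],[]),([0,1,0],[(0,2)],[]),([0,2,0],[(0,6)],[]),([1,2,1],[(0,10)],[]),([1,3,1],[(0,18)],[]),
      ([2,3,2],[(0,22)],[]),([3,1,3,0],[(2,10)],[(0,2)]),([3,2,3,0],[(2,12)],[(0,2)]),
      ([2,1,2,0,2],[(2,10)],[(0,8)]),([2,0,2,1,2],[(2,10)],[(0,12)]),([3,2,3,1,3],[(2,10)],[(0,8)]),
      ([3,1,3,2,3],[(2,10)],[(0,12)]),([0,1,0,2,0,1],[(0,30)],[]),([2,0,1,0,2],[(0,0)],[]),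
      ([1,2,1,3,1,2],[(0,42)],[]),([3,1,2,1,3],[(0,0)],[]),([3,1,0,3,2,3],[(3,20)],[(0,18)]),
      ([3,2,0,3,1,3],[(3,24)],[(0,18)]),([0,0,1,0,2,0,1,0],[(0,56)],[(1,8)]),([1,1,2,1,3,1,2,1],[(0,58)],[(1,6)]),
      ([2,0,1,2,1,0,1],[(4,36)],[(0,20)]),([3,2,1,3,1,0,1],[(4,38),(3,40)],[(0,20),(4,40)]),
      ([3,1,2,3,2,0,2],[(4,38),(3,42)],[(0,20),(4,42)]),([3,1,2,3,2,1,2],[(4,38)],[(0,22)]),
      ([2,0,1,0,2,0,2],[(0,22)],[(4,42)]),([0,0,1,0,2,0,1,2],[(0,70)],[(1,0)]),([3,1,2,1,3,1,3],[(0,22)],[(4,42)]),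
      ([1,1,2,1,3,1,2,3],[(0,74)],[(1,0)]),([1,0,2,0,1,0,1],[(0,18)],[(4,52)]),([0,0,2,0,1,0,2,1],[(0,78)],[(1,0)]),
      ([2,1,0,2,0,1,0],[(0,42)],[(1,22),(0,54)]),([1,2,1,0,2,1],[],[(0,0),(1,44)]),([1,1,2,1,0,2,1],[(1,0),
      (0,60)],[(0,84)]),([1,1,2,1,0,2,1,0],[(0,86)],[(1,4)]),([0,0,1,0,2,1,0,2],[(0,88)],[(1,2)]),
      ([2,1,3,1,2,1,2],[(0,30)],[(4,62)]),([1,1,3,1,2,1,3,2],[(0,92)],[(1,0)]),([3,2,1,3,1,2,1],[(0,52)],[(1,34),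
      (0,64)]),([2,3,2,1,3,2],[],[(0,0),(1,54)]),([2,2,3,2,1,3,2],[(1,0),(0,70)],[(0,98)]),
      ([2,2,3,2,1,3,2,1],[(0,100)],[(1,4)]),([1,1,2,1,3,2,1,3],[(0,102)],[(1,2)]),
      ([1,0,2,0,1,2,1],[(0,32)],[(2,64)]),([0,0,2,0,1,2,0,1],[(0,106)],[(1,0)]),([2,0,1,2,0,1,0],[(0,0)],[(0,46),
      (1,0)]),([0,1,2,0,1,2],[(0,0)],[]),([2,1,3,1,2,3,0],[(5,90)],[(0,36)]),([2,1,3,1,2,3,2],[(0,38)],[(2,70)]),
      ([1,1,3,1,2,3,1,2],[(0,116)],[(1,0)]),([3,1,2,3,1,2,1],[(0,0)],[(0,50),(1,0)]),([1,2,3,1,2,3],[(0,0)],[]),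
      ([2,1,3,2,1,3,0],[(5,100)],[(0,18)]),([2,1,0,2,0,1,2,1],[(3,84),(0,96),(2,100)],[(0,86),(0,40),(3,100)]),
      ([3,2,1,3,1,2,3,2],[(3,82),(0,94),(2,98)],[(0,84),(0,28),(3,98)]),([2,3,1,2,1,3,0],[(5,106)],[(0,0)]),
      ([3,1,2,1,3,1,0,1],[(5,106),(4,108)],[(0,80)]),([3,1,0,2,3,2,1,2],[(5,104)],[(0,78)]),
      ([3,2,0,1,3,1,0,1],[(5,110),(4,112)],[(0,78),(5,112)]),([2,1,3,1,2,1,0,1],[(5,112)],[(0,76),(5,114)]),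
      ([2,0,2,1,3,1,2,1],[(2,78)],[(0,112)]),([2,0,2,1,3,1,2,3],[(2,64)],[(0,114)]),([3,1,2,1,3,2,0,2],[(5,116),
      (4,120)],[(0,48)]),([2,3,2,1,3,2,0,2],[(5,118),(4,122)],[(0,46),(5,122)]),
      ([2,0,2,3,2,1,3,2],[(2,48)],[(0,120)]),([3,2,1,3,2,1,0,1],[(5,124)],[(0,46),(0,44)]),
      ([2,0,2,1,3,2,1,3],[(2,46)],[(0,124)]),([3,1,2,3,1,2,0,2],[(5,126)],[(0,34),(5,130)]),
      ([2,3,1,2,3,1,0,1],[(5,130),(4,132)],[(0,32),(5,132)]),([2,0,2,3,1,2,3,1],[(2,34)],[(0,130)]),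
      ([2,0,2,3,1,2,1,3],[(2,30)],[(0,132)]),([1,0,2,0,1,3,1,0,2],[(0,156)],[]),([3,1,0,2,0,1,3,1],[(0,0)],[]),
      ([3,1,0,3,1,2,1,3,1],[(0,130),(2,140),(1,142)],[(3,114),(1,140),(0,142)]),([2,1,3,1,2,1,0,2,1],[(3,82),
      (2,144)],[(0,106),(5,144)]),([3,2,0,3,1,2,1,3,2],[(0,132),(2,128),(1,146)],[(3,74),(1,128),(0,146)]),
      ([3,2,0,3,2,1,3,2,1],[(0,134),(2,144),(1,148)],[(3,68),(1,144),(0,148)]),([3,1,0,3,1,2,3,1,2],[(0,138),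
      (2,148),(1,150)],[(3,54),(1,148),(0,150)]),([3,2,0,3,1,2,3,1,2],[(0,138)],[(3,56),(1,16),(0,152),(1,138)]),
      ([2,1,3,2,1,0,3,1,3],[(6,146),(4,152)],[(0,52)]),([2,3,1,2,1,0,3,1,3],[(6,148),(4,154)],[(0,48),(5,154)]),
      ([3,1,2,1,0,3,1,0,3],[(5,146),(3,156)],[(0,48)]),([3,1,0,2,3,1,2,1,3],[(0,48)],[(3,54),(1,158),(0,160),
      (1,48)]),([2,1,3,1,2,0,1,0,2],[(3,58),(2,162)],[(0,46)]),([2,1,0,3,1,2,0,1],[(0,0)],[]),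
      ([2,0,1,3,1,2,1,3,0],[(7,166)],[(0,48)]),([3,2,0,1,3,1,2,1,3],[(0,134)],[(1,50),(0,168),(1,134)]),
      ([3,2,0,1,3,1,2,3,1],[(0,136),(5,160)],[(1,50),(0,170),(1,136),(6,160)]),
      ([2,0,1,2,3,2,1,3,0],[(7,172)],[(0,46)]),([2,3,1,2,0,3,1,0,3],[(5,162)],[(0,40),(6,166)]),
      ([1,1,0,2,0,1,3,1,0,2,0],[(1,34)],[(0,198)]),([1,3,1,0,2,0,1,3],[(0,0)],[]),
      ([1,1,3,1,2,1,0,3,1,2,0],[(0,202)],[(1,14)]),([0,0,2,0,1,3,1,0,2,0,1],[(0,204)],[(1,2)]),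
      ([3,1,2,3,2,0,1,0,2,1],[(4,126),(3,184)],[(0,162),(4,184)]),([2,0,1,0,2,1,3,1,2,1],[(0,128)],[(4,148),
      (2,184)]),([0,0,1,0,2,1,0,3,1,2,1],[(0,210)],[(1,0)]),([2,0,1,0,2,1,3,1,2,3],[(0,132)],[(4,136),(2,188)]),
      ([0,0,1,0,2,1,0,3,1,2,3],[(0,214)],[(1,0)]),([1,2,1,0,2,1,3,1,2,1],[(4,156),(2,192)],[(0,132)]),
      ([1,2,1,0,2,1,3,1,2,3],[(4,142),(2,194)],[(0,134)]),([3,1,2,3,2,1,0,2,1,0],[(4,132),(4,130),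
      (3,198)],[(0,176)]),([3,1,2,0,3,2,1,0,2],[],[(0,0),(8,198),(1,68)]),([2,1,3,1,2,1,0,2,1,0],[(0,164),
      (5,202)],[(4,136),(2,202)]),([1,1,3,1,2,1,0,3,2,1,0],[(0,226)],[(1,0)]),([3,2,1,3,2,1,0,2,1,0],[(4,140),
      (0,186),(4,206)],[(0,126),(0,124),(5,202),(4,206)]),([2,2,3,2,1,0,3,2,1,0,2],[(0,230)],[(1,0),(0,106),(5,204),
      (4,208)]),([2,0,1,0,2,1,3,2,1,3],[(0,152)],[(4,128),(2,208)]),([0,0,1,0,2,1,0,3,2,1,3],[(0,234)],[(1,0)]),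
      ([3,2,1,3,1,2,0,1,2,0],[(4,124),(3,214)],[(0,194),(0,138),(5,214)]),([3,2,1,0,3,1,2,0,1],[],[(0,0),(8,212),
      (2,174)]),([3,1,0,2,3,1,2,1,0,1],[(7,216)],[(0,106)]),([3,2,1,3,2,0,1,0,2,1],[(4,162),(3,220),
      (0,178)],[(0,92),(5,202),(4,220)]),([2,2,3,2,1,0,3,1,2,1,0],[(0,244)],[(1,0),(0,120),(5,218),(4,222),
      (6,216)]),([2,0,1,3,2,1,3,2,0,2],[(7,220),(6,224)],[(0,94),(7,224)]),
      ([1,0,2,0,1,2,3,1,2,1],[(0,176)],[(2,88)]),([0,0,2,0,1,2,0,3,1,2,1],[(0,250)],[(1,0)]),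
      ([3,1,0,2,0,1,3,1,0,1],[(0,90)],[(7,228),(6,230),(1,194),(0,230)]),
      ([1,1,0,2,0,1,3,1,0,2,1],[(1,0)],[(0,254)]),([3,1,0,2,0,1,3,1,0,3],[(0,94)],[(6,222)]),
      ([1,1,0,2,0,1,3,1,0,2,3],[(1,0)],[(0,258)]),([1,3,1,0,2,0,3,1],[(0,0),(8,238)],[]),
      ([0,0,2,0,1,3,1,0,2,0,3],[(0,262)],[(1,0)]),([3,2,0,1,3,1,2,1,0,3],[(0,208)],[(1,74),(0,242),(1,208)]),
      ([3,1,3,1,0,2,0,1,3,1],[(1,66),(0,244),(1,210),(6,244)],[(0,236),(1,244),(2,210)]),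
      ([0,2,3,2,0,1,0,3,2],[(0,0),(7,246)],[]),([1,0,2,3,2,0,1,0],[(0,0),(7,238)],[]),
      ([0,0,2,3,2,0,1,0,3,2,0],[(0,272)],[(1,4)]),([0,0,2,3,2,0,1,0,2,3,2],[(0,274)],[(1,2)]),
      ([2,0,1,3,1,0,2,0,1,2],[(4,204),(3,254)],[(0,70)]),([2,0,1,0,3,2,0,1,2],[(0,0)],[]),
      ([1,0,2,1,0,3,2,1,3,0],[(8,258)],[(0,44)]),([1,0,3,2,0,1,0,2,3,1],[],[(0,26)]),
      ([1,3,1,0,2,0,3,1,0,1],[(0,24)],[(7,260),(6,262)]),([0,0,2,0,1,3,1,0,2,3,1],[(0,286)],[(1,0)]),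
      ([2,3,2,0,1,0,3,2,0,2],[(0,14)],[(7,262),(6,266)]),([0,0,1,0,2,3,2,0,1,3,2],[(0,290)],[(1,0)]),
      ([0,0,1,3,1,0,2,0,1,3,2,0],[(0,292)],[(1,12)]),([2,0,1,3,1,0,2,3,1,3],[(7,264)],[(0,6),(6,260)]),
      ([2,0,1,3,1,0,2,1,3],[(0,0),(8,272),(7,274)],[]),([1,0,2,3,2,0,1,3,2,3],[(7,266)],[(0,6),(6,262)]),
      ([0,1,3,1,0,2,1,0,3,1],[(0,2),(8,278)],[]),([0,0,1,3,1,0,2,1,0,3,1,0],[(0,302)],[(1,4)]),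
      ([3,2,0,1,3,1,2,1,0,2,1],[(5,220),(4,282)],[(0,248)]),([3,2,0,1,3,1,0,2,1,0,2],[(5,216),(4,284)],[(0,250),
      (5,284)]),([1,2,0,1,0,2,1,3,1,2,1],[(5,248),(3,284)],[(0,182),(4,284)]),
      ([1,2,1,0,3,1,2,1,3,0],[(8,288)],[(0,0)]),([1,2,0,1,0,2,1,3,1,2,3],[(5,236),(3,288)],[(0,186),(4,288)]),
      ([1,2,0,1,0,2,1,3,2,1,3],[(5,210),(3,290)],[(0,188),(4,290)]),([3,2,0,3,1,0,2,3,1,2,1],[(0,280)],[(3,182),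
      (0,260),(5,294),(6,284),(0,40),(7,292)]),([2,3,2,0,1,0,2,3,1,2],[],[(0,0)]),
      ([2,2,3,2,0,1,0,2,3,1,2],[(1,0)],[(0,320)]),([2,2,3,2,0,1,0,2,3,1,2,1],[(0,322)],[(1,4)]),
      ([3,3,2,0,1,0,2,3,1,2,1],[(1,0)],[(0,324)]),([3,2,0,1,0,2,3,2,1,0],[],[(0,0),(7,298)]),
      ([3,2,0,1,0,2,3,2,1],[],[(0,0)]),([3,1,0,3,1,2,1,0,3,2,0],[(0,296),(2,306),(1,308)],[(3,186),(1,306),
      (0,308)]),([3,2,0,3,1,2,1,0,3,2,0],[(0,296),(2,292),(1,310)],[(3,188),(1,292),(0,310)]),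
      ([3,2,0,3,2,1,3,2,0,1,0],[(0,298),(2,308),(1,312)],[(3,184),(1,182),(0,312),(8,312)]),
      ([2,0,1,2,3,1,2,1,0,2,1],[(0,176),(7,314)],[(5,252),(4,314),(0,84),(8,314)]),
      ([0,0,2,0,3,1,2,1,0,3,2,1],[(0,338)],[(1,0)]),([1,0,2,0,1,3,1,0,2,0,2],[(0,176)],[(8,314)]),
      ([2,1,2,0,3,2,0,1,3,2,1],[(2,170)],[(0,314)]),([2,1,2,3,2,0,1,2,3,1,2],[(2,168)],[(0,316)]),
      ([2,1,2,0,1,3,1,2,1,0,3],[(0,318),(2,322)],[(2,156),(0,308),(0,262)]),([2,0,1,3,1,2,1,0,3,1,3],[(8,318),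
      (6,324)],[(0,158),(7,324)]),([2,0,1,3,1,2,1,0,3,2,3],[(8,318)],[(0,160)]),
      ([2,3,2,0,1,2,3,2,1,0,1],[(8,328)],[(0,158)]),([2,1,2,3,2,0,1,2,3,2,1],[(0,326)],[(2,160),(1,54),(0,328),
      (1,184)]),([1,2,1,3,2,0,1,2,3,2],[(0,0),(7,332)],[]),([2,3,2,0,1,2,3,2,0,1,0],[(0,4)],[(1,0),(0,330)]),
      ([3,2,0,1,2,3,2,0,1],[(0,2)],[]),([3,3,2,0,1,2,3,2,0,1,0],[(1,4),(0,268),(5,338)],[(0,362)]),
      ([1,1,2,1,3,2,0,1,2,3,2,1],[(0,364)],[(1,8)]),([0,0,2,3,2,0,1,2,3,2,0,1],[(0,366)],[(1,6)]),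
      ([2,2,3,2,0,1,2,3,2,0,1],[(1,0)],[(0,368)]),([1,1,2,1,3,2,0,1,2,3,2,0],[(0,370)],[(1,8)]),
      ([1,2,1,3,2,0,1,0,2,3],[(0,8)],[]),([2,2,0,1,2,3,2,0,1,0,2],[(1,0),(0,346)],[(0,374)]),
      ([2,0,1,2,3,2,0,1,2,3],[(0,6)],[]),([3,1,2,3,2,0,1,0,2,3],[(0,334),(4,356)],[(1,2),(0,356),(1,334),(5,356)]),
      ([1,1,3,1,2,0,3,1,0,2,3],[(1,0),(0,356)],[(0,380)]),([0,1,0,3,1,2,0,3,1,0],[(0,0),(4,328)],[]),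
      ([3,1,2,0,1,3,1,0,2],[(0,0),(7,350)],[]),([0,0,1,0,3,1,2,0,3,1,0,2],[(0,386)],[(1,4)]),
      ([0,0,1,0,3,1,2,0,1,3,1,0],[(0,388)],[(1,2)]),([2,0,1,2,3,2,1,0,3,1,3],[(8,360),(6,366)],[(0,194)]),
      ([3,2,1,3,1,0,2,0,1,3,1],[(0,350),(4,370),(0,246),(6,350)],[(2,192),(1,366),(0,370),(1,350),(5,370),(1,246)]),
      ([1,2,3,2,1,0,2,3,2,1],[],[(0,0),(7,362)]),([1,1,2,3,2,1,0,2,3,2,1],[(1,0),(0,372)],[(0,396)]),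
      ([1,1,2,3,2,1,0,2,3,2,1,3],[(0,398)],[(1,4),(0,374)]),([2,2,3,2,1,0,2,3,2,1,3],[(1,0)],[(0,400)]),
      ([0,1,0,2,3,2,1,0,2,3],[(0,4),(7,374)],[]),([2,2,3,2,1,0,2,3,1,2,1],[(1,0)],[(0,404)]),
      ([2,0,2,0,1,3,1,0,2,0,1],[(2,200)],[(0,380)]),([2,1,3,1,0,2,0,1,3,0],[(8,386),(3,350),(2,386)],[(0,0),(4,350),
      (3,386)]),([3,2,1,3,1,0,2,0,1,3],[(0,368),(4,388),(0,264)],[(1,2),(0,388),(1,368),(5,388),(1,264)]),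
      ([1,1,2,3,2,1,0,3,2,1,3],[(1,0),(0,388)],[(0,412)]),([0,0,1,0,2,3,2,1,0,3,2,1],[(0,414)],[(1,0)]),
      ([2,1,2,0,1,3,1,0,2,0,1],[(2,210),(1,392)],[(0,388),(2,392)]),([2,1,0,2,0,1,3,1,0,2,1],[(1,164)],[(0,380),
      (0,334)]),([2,1,0,2,0,1,3,1,0,2,3],[(0,382),(0,336)],[(1,162)]),([0,0,1,2,1,0,2,3,1,0,2,3],[(0,422)],[(1,0)]),
      ([1,1,2,1,0,2,3,1,0,2,3],[(1,0)],[(0,424)]),([2,1,2,0,1,3,1,0,2,0,3],[(2,162),(1,402)],[(0,398),(2,402)]),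
      ([1,0,1,0,2,3,2,0,1,0,3],[(2,158)],[(0,404)]),([2,1,2,3,2,0,1,0,3,2],[(1,0)],[(0,402)]),
      ([2,0,1,2,3,2,0,1,0,3,1],[(0,0)],[(0,40)]),([1,1,2,1,3,2,0,1,0,3,2,1],[(1,0)],[(0,434)]),
      ([1,0,2,3,2,0,1,0,3,1,0],[(0,166)],[(3,300)]),([0,0,2,3,2,0,1,0,3,2,1,0],[(0,438)],[(1,0)]),
      ([2,2,3,2,0,1,0,3,2,1,0],[(1,0)],[(0,440)]),([2,0,1,0,3,2,0,1,0,3],[(0,0),(7,418)],[]),
      ([3,2,0,1,0,3,2,0,1],[],[(0,0),(9,422)]),([2,1,2,3,2,0,1,0,3,2,0],[(0,418)],[(2,172),(1,422)]),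
      ([1,1,2,1,3,2,0,1,0,3,2,0],[(0,448)],[(1,0)]),([2,2,1,3,2,0,1,0,3,2,0],[(1,0),(0,422),(2,426),
      (0,324)],[(0,450)]),([0,0,1,2,0,1,0,3,2,0,1,3],[(0,452)],[(1,0)]),([1,1,2,0,1,0,3,2,0,1,3],[(1,0),
      (0,430)],[(0,454)]),([0,1,0,3,2,0,1,0,3,2],[(0,0),(8,434)],[]),([2,0,1,0,3,2,0,1,0,3,1],[(0,0)],[(0,16)]),
      ([0,0,1,0,3,2,0,1,0,3,2,1],[(0,460)],[(1,0)]),([2,0,2,0,1,3,1,0,2,3,1],[(2,174)],[(0,436)]),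
      ([3,2,1,3,1,0,2,3,1,0],[(0,422),(4,442),(5,432)],[(1,0),(0,442),(1,422),(5,442),(6,432)]),
      ([2,2,3,2,1,0,2,3,2,1,0],[(1,0),(0,440)],[(0,466)]),([0,0,2,0,3,2,1,0,2,3,2,1],[(0,468)],[(1,0)]),
      ([2,0,1,3,1,0,2,3,1,2,3],[(0,182)],[(2,286)]),([0,0,1,3,1,0,2,3,1,0,2,3],[(0,472)],[(1,0)]),
      ([1,1,3,1,0,2,3,1,0,2,3],[(1,0)],[(0,474)]),([1,0,1,0,2,3,2,0,1,3,2],[(2,184)],[(0,452)]),
      ([2,1,2,3,2,0,1,3,2,0],[(1,0)],[(0,450)]),([1,0,2,3,2,0,1,3,2,1,2],[(0,188)],[(8,452),(3,424)]),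
      ([0,0,2,3,2,0,1,3,2,0,1,2],[(0,482)],[(1,0)]),([2,2,3,2,0,1,3,2,0,1,2],[(1,0)],[(0,484)]),
      ([1,0,2,3,2,0,1,3,2,1,3],[(0,194)],[(2,294)]),([0,0,2,3,2,0,1,3,2,0,1,3],[(0,488)],[(1,0)]),
      ([2,2,3,2,0,1,3,2,0,1,3],[(1,0),(0,10)],[(0,490)]),([1,2,1,3,2,0,1,3,2,0],[(0,0),(4,436)],[]),
      ([1,1,2,1,3,2,0,1,3,2,0,1],[(0,494)],[(1,2)]),([3,1,3,1,0,2,0,1,3,2,0],[(1,202),(0,474),(1,50)],[(0,466),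
      (1,474)]),([0,0,2,0,1,0,3,2,0,1,3,2],[(0,498)],[(1,0)]),([2,0,1,0,3,2,0,1,3,2,1],[(0,0)],[(0,14)]),
      ([0,0,1,0,3,2,0,1,3,2,0,1],[(0,502)],[(1,0)]),([1,2,1,0,3,2,1,3,2,0,2],[(8,478),(7,482)],[(0,188),(8,482)]),
      ([3,1,3,2,0,1,0,2,3,2,1],[(0,476),(2,380),(1,484)],[(2,176),(1,380),(0,484)]),
      ([3,2,3,1,0,2,0,1,3,1,2],[(0,476),(2,470),(2,424),(1,486)],[(2,166),(1,470),(1,424),(0,486)]),
      ([3,1,0,2,0,1,3,1,2,1,3],[(0,168)],[(3,370)]),([1,1,0,2,0,1,3,1,2,0,1,3],[(1,0)],[(0,512)]),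
      ([2,1,3,2,0,1,2,3,2,1,2],[(0,148)],[(8,486),(3,354),(2,492),(3,478),(5,474),(4,492),(0,476)]),
      ([1,1,3,2,0,1,2,3,2,1,0,2],[(0,516)],[(1,0)]),([2,1,3,2,0,1,2,3,2,0,2],[(8,492),(7,496)],[(0,146),(1,140)]),
      ([2,1,3,2,0,1,2,0,3,2],[(0,0),(10,498)],[]),([2,0,1,2,3,2,0,1,0,2,1],[(5,442),(4,500)],[(0,148)]),
      ([2,0,1,2,0,3,1,0,2,1],[(0,0)],[]),([2,3,1,2,0,1,3,1,0,2,3],[(1,142)],[(0,328)]),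
      ([1,0,3,1,2,0,1,3,1,0,1],[(0,138)],[(8,504),(7,506),(2,346),(0,504)]),
      ([0,0,3,1,2,0,1,3,1,0,2,1],[(0,530)],[(1,0)]),([3,3,1,2,0,1,3,1,0,2,1],[(1,0)],[(0,532)]),
      ([3,1,0,2,1,3,1,2,0,1],[],[(0,0)]),([2,1,2,3,2,1,0,3,2,1,3],[(1,124),(0,340),(7,510),(6,514)],[(0,508),
      (1,412),(4,510),(3,514)]),([0,0,2,0,3,2,1,0,3,2,0,1],[(0,538)],[(1,0)]),
      ([1,0,2,3,2,1,0,3,2,1,2],[(8,512)],[(0,124)]),([1,0,2,0,3,2,1,3,2,0,1],[(0,106)],[]),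
      ([2,0,3,2,1,0,2,3,2,1,2],[(8,516)],[(0,74)]),([1,3,1,2,0,1,3,1,2,1,2],[(0,32)],[(8,518)]),
      ([0,0,2,0,1,3,1,2,0,1,3,2],[(0,548)],[(1,0)]),([1,2,0,1,2,3,2,0,1,2,0],[(0,28),(8,518),(6,524),(3,504),
      (2,528)],[]),([1,1,2,1,3,2,0,1,0,2,3,1,0],[(0,552)],[(1,26),(0,440)]),([2,1,3,2,0,1,0,2,3,1],[(0,0)],[]),
      ([2,2,1,3,2,0,1,0,2,3,1,0],[(0,556)],[(1,2),(0,448)]),([1,3,2,0,1,0,2,3,1],[(0,0)],[]),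
      ([0,0,1,2,0,1,3,1,0,2,1,0],[(0,560)],[(1,0)]),([3,1,2,0,1,3,1,0,2,1,2],[(8,534),(6,538),(5,540),
      (0,380)],[(0,30)]),([1,1,2,1,3,1,2,0,1,3,2,1],[(0,564)],[(1,0)]),
      ([0,0,1,2,0,1,2,3,1,0,2,1,0],[(0,566)],[(1,10)]),([1,1,2,0,1,2,3,1,0,2,1,0],[(1,0)],[(0,568)]),
      ([1,0,2,1,3,2,0,1,0,2,3],[(0,0),(8,546),(5,512),(4,548)],[]),([2,1,3,1,2,0,3,2,1,3,2,1],[(0,458)],[(6,470),
      (4,546),(0,164),(4,500),(3,550),(5,464),(4,550)]),([1,3,1,2,3,1,0,2,1,3,2],[],[(0,0)]),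
      ([1,3,1,2,3,1,0,2,1,3],[(0,0)],[]),([1,1,3,1,2,3,1,0,2,1,3,2,1],[(0,578)],[(1,4)]),
      ([0,0,2,1,3,1,2,0,1,2,3,1,2],[(0,580)],[(1,2)]),([2,1,3,2,1,0,3,1,2,1,3,1],[(6,532),(4,558),(3,502),
      (2,560)],[(0,458),(5,542),(4,560)]),([2,1,3,2,1,0,3,2,1,3,2,1],[(0,460),(5,558),(4,562)],[(6,482),(6,480),
      (4,560),(0,40)]),([1,1,3,2,1,0,3,2,0,1,3,2,1],[(0,586)],[(1,0)]),([3,1,2,3,1,0,2,0,1,3,1,0],[(0,434),(6,546),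
      (4,562),(10,566)],[(3,426),(2,550)]),([1,1,2,3,1,0,2,0,3,2,1,0,3],[(0,590)],[(1,0)]),
      ([2,2,3,1,0,2,0,3,2,1,0,3],[(1,0)],[(0,592)]),([2,1,3,2,1,0,2,1,3,1,0],[(0,0)],[]),
      ([3,1,2,1,0,3,1,0,2,3,1,2],[(3,422)],[(0,464),(1,14),(0,572)]),([3,1,2,0,3,1,0,2,3,1,2],[],[(0,0)]),
      ([3,3,1,2,0,3,1,0,2,3,1,2],[(1,0),(0,578),(1,566),(3,576),(2,578)],[(0,600)]),
      ([0,0,1,0,3,1,0,2,3,1,0,2,1],[(0,602)],[(1,0)]),([3,1,0,3,1,2,1,0,3,1,2,0],[(0,570),(2,580),(1,582)],[(3,400),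
      (1,580),(0,582)]),([2,3,1,2,0,1,0,3,1,2,1,3],[(0,426)],[(2,388),(1,584),(0,96)]),
      ([1,1,2,3,1,2,0,1,0,3,2,1,3],[(1,0)],[(0,608)]),([1,2,0,1,0,3,1,2,3,1,0,1],[(0,390),(9,588)],[(9,586),(8,588),
      (1,82)]),([0,0,1,2,1,0,2,3,1,2,0,3,1],[(0,612)],[(1,0)]),([1,1,2,1,0,2,3,1,2,0,3,1],[(1,0)],[(0,614)]),
      ([1,0,2,3,1,2,0,1,3,1,2],[(0,0),(8,586)],[]),([2,1,0,2,3,1,2,0,1,3],[(0,0)],[]),
      ([1,1,0,2,3,1,2,0,1,3,1,2,1],[(1,0)],[(0,620)]),([3,1,0,3,1,2,1,0,3,2,1,0],[(0,588),(2,598),(1,600)],[(3,394),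
      (1,598),(0,600)]),([3,2,0,3,2,1,0,3,2,1,0,2],[(3,392)],[(0,588),(2,598),(1,602)]),
      ([3,1,0,2,3,1,2,0,1,0,3,1],[(0,384)],[(3,446),(1,602),(0,604),(1,384)]),
      ([3,2,0,3,2,1,0,3,1,2,1,0],[(3,382)],[(0,592),(2,602),(1,606)]),([2,1,2,3,2,0,1,3,2,1,0,3],[(0,602)],[(2,364),
      (1,338),(0,604),(1,294)]),([1,1,2,1,3,2,0,1,3,2,1,0,3],[(0,632)],[(1,0)]),
      ([2,3,2,0,1,3,2,1,0,3,2,3],[(9,602)],[(0,368)]),([2,0,1,2,0,1,3,1,0,2,3,1],[(0,528)],[(3,348),(2,612)]),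
      ([0,0,1,2,0,1,2,3,1,0,2,3,1],[(0,638)],[(1,0)]),([1,1,2,0,1,2,3,1,0,2,3,1],[(1,0)],[(0,640)]),
      ([1,0,2,1,0,3,1,0,2,3,1],[(0,0)],[]),([2,1,2,0,1,3,1,0,2,1,3,1],[(2,348),(1,620),(2,478)],[(0,616),(2,620),
      (3,478)]),([2,0,2,0,1,3,1,0,2,1,0,3],[(2,344)],[(0,620)]),([3,2,1,3,1,0,2,1,0,3,1],[(0,606),(4,626)],[(1,0),
      (0,626),(1,606),(5,626)]),([2,2,3,2,1,0,3,2,1,0,3,1],[(1,0),(0,624)],[(0,650)]),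
      ([0,2,0,3,2,1,0,3,2,1,0],[(0,0),(8,622),(6,628)],[]),([3,3,2,1,0,3,2,0,1,0,3,1],[(1,0),(0,632),(1,618),
      (3,628),(2,632)],[(0,654)]),([0,0,2,0,3,2,0,1,0,3,2,1,0],[(0,656)],[(1,0)]),
      ([3,2,0,1,0,3,2,1,0,2,1,0],[(0,350),(0,218)],[(6,570),(0,522),(1,352)]),
      ([0,0,1,0,3,2,0,1,0,3,1,2,0],[(0,660)],[(1,0)]),([1,1,0,3,2,0,1,0,3,1,2,0],[(1,0)],[(0,662)]),
      ([1,0,3,2,0,1,3,2,1,0,2],[],[(0,0)]),([2,0,1,0,2,3,2,1,0,2,1,0],[(6,578),(6,576),(5,644),(0,620)],[(0,344)]),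
      ([0,0,1,0,2,0,1,3,2,1,0,2,1],[(0,668)],[(1,0)]),([1,0,3,1,2,0,3,1,0,2,1,0],[(0,282)],[(2,462),(0,646),
      (1,282)]),([0,3,1,2,0,3,1,0,2,3,1],[(0,0)],[]),([3,3,1,2,0,3,1,0,2,3,1,0],[(0,674)],[(1,0),(0,652)]),
      ([2,1,2,0,3,1,0,2,3,1,0],[(1,0)],[(0,648)]),([3,2,1,0,3,1,2,0,1,3,1,0],[(2,288),(0,642),(2,570),
      (1,656)],[(0,438)]),([2,0,3,1,2,0,1,2,3,1,0],[(0,0),(3,292),(1,644)],[]),
      ([1,2,0,1,0,2,3,2,1,0,3,2],[(0,556)],[(1,280)]),([0,0,1,2,0,1,0,3,2,1,0,3,2],[(0,684)],[(1,0)]),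
      ([1,1,2,0,1,0,3,2,1,0,3,2],[(1,0),(0,662)],[(0,686)]),([0,1,0,3,2,1,0,2,3,2,1],[(0,0),(8,656)],[]),
      ([2,0,1,0,3,2,1,0,2,3],[(0,0),(9,662)],[]),([0,0,1,0,3,2,1,0,2,3,2,1,3],[(0,692)],[(1,4)]),
      ([0,1,0,3,2,1,0,2,3,1,2],[(0,2)],[]),([1,2,0,1,0,2,3,2,1,0,2,3],[(0,570)],[(1,290)]),
      ([0,0,1,2,0,1,0,3,2,1,0,2,3],[(0,698)],[(1,0)]),([3,1,2,1,0,3,2,0,1,0,2,3],[(2,290)],[(0,556),(4,612)]),
      ([3,1,0,2,1,0,3,2,0,1,0],[],[(0,0)]),([3,2,0,1,0,3,1,0,2,0,1,3],[(0,568)],[(1,286),(0,522)]),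
      ([2,2,3,2,0,1,0,3,1,2,0,1,3],[(0,706)],[(1,0),(0,678)]),([3,2,0,1,0,3,1,2,0,1],[(0,0)],[]),
      ([1,1,2,3,1,2,0,1,3,2,0,1,3],[(0,710)],[(1,0)]),([2,0,3,2,0,1,0,2,3,1,0,3],[(0,292)],[(8,678),(3,632),
      (2,690)]),([0,0,1,2,1,0,2,3,1,0,2,1,3],[(0,714)],[(1,0)]),([1,1,2,1,0,2,3,1,0,2,1,3],[(1,0)],[(0,716)]),
      ([1,0,2,3,1,0,2,1,0,3,1],[(0,0),(9,696)],[]),([3,2,0,1,0,3,1,0,2,0,3,1],[(0,584)],[(1,292),(0,538),(8,684)]),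
      ([2,2,3,2,0,1,0,3,1,2,0,3,1],[(0,722)],[(1,0),(0,694)]),([3,2,0,1,0,3,1,2,0,3],[(0,0)],[]),
      ([1,1,2,3,1,2,0,1,2,3,2,0,1],[(0,726)],[(1,0)]),([1,0,1,0,3,2,0,1,0,3,2,1],[(2,266)],[(0,704)]),
      ([3,1,3,2,0,1,0,3,2,1,0],[(0,700)],[(1,0),(0,708),(1,700)]),([1,0,2,1,3,1,0,2,3,1,2,1],[(0,256)],[(4,598)]),
      ([2,0,1,2,3,2,0,1,3,2,1,2],[(0,254),(1,238)],[(9,706),(4,678)]),([2,1,2,0,1,0,3,2,0,1,3,2],[(2,236),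
      (1,712)],[(0,708),(2,712)]),([3,2,0,1,3,2,0,1,3,2,0],[(1,0)],[(0,2)]),([3,1,2,0,1,3,2,0,1,3],[(0,0)],[]),
      ([2,2,0,1,3,2,0,1,3,2,1,0,2],[(1,0),(0,30)],[(0,742)]),([1,3,2,0,1,0,3,1,2,0],[(0,0)],[]),
      ([0,0,1,3,2,0,1,3,2,1,0,2,1],[(0,746)],[(1,0)]),([1,0,1,0,3,2,0,1,3,2,0,1],[(2,244)],[(0,724)]),
      ([3,1,3,2,0,1,3,2,0,1,2],[(0,720)],[(1,0),(0,728),(1,720)]),([1,0,3,2,0,1,3,2,0,1,3,1],[(0,248)],[(6,696),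
      (2,258),(0,728)]),([0,0,3,2,0,1,3,2,0,1,2,3,1],[(0,754)],[(1,0)]),
      ([3,3,2,0,1,3,2,0,1,2,3,1],[(1,0)],[(0,756)]),([3,1,0,2,1,3,2,0,1,3,2],[],[(0,0)]),
      ([3,1,0,2,1,3,2,0,1,3],[(0,0)],[]),([2,2,0,1,3,2,0,1,2,3,1,0,2],[(1,0)],[(0,762)]),
      ([2,3,1,0,2,1,3,2,0,1],[(0,0)],[]),([0,0,1,3,2,0,1,2,3,1,0,2,3],[(0,766)],[(1,0)]),
      ([1,1,3,2,0,1,2,3,1,0,2,3],[(1,0)],[(0,768)]),([1,0,2,3,1,0,2,1,3,2,0],[(0,0)],[]),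
      ([3,3,2,0,1,2,3,1,0,2,3,1],[(1,0)],[(0,772)]),([3,1,0,2,3,1,0,2,1,3,2],[],[(0,0),(0,130)]),
      ([3,3,1,0,2,3,1,0,2,1,3,2],[(1,0)],[(0,776)]),([3,1,0,2,1,0,3,1,0,2,3],[],[(0,0)]),
      ([3,2,3,1,0,2,1,3,1,2,0,1],[(0,748)],[(2,244),(1,752),(3,756),(0,598),(1,214),(9,748)]),
      ([2,2,3,2,1,0,2,1,3,1,2,0,1],[(1,0)],[(0,782)]),([2,1,2,0,3,2,1,0,3,2,0,1],[(2,244)],[(0,756),(0,278)]),
      ([2,1,0,3,2,1,0,3,2,0,1],[(0,0)],[]),([1,0,2,3,2,1,0,3,1,2,1,0],[(0,246)],[(3,542),(2,664),(0,764),(7,748),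
      (6,766)]),([0,0,2,3,2,1,0,3,2,1,3,2,0],[(0,790)],[(1,0)]),([3,2,1,0,3,1,0,2,0,1,3,2],[(1,240)],[(0,728),
      (1,552),(0,668)]),([1,2,0,1,3,1,0,2,1,0,2,0],[(0,232)],[(7,756),(5,770),(4,772),(6,704),(5,772)]),
      ([0,0,1,3,2,0,1,0,2,3,1,2,0],[(0,796)],[(1,0)]),([2,3,1,2,0,1,3,1,0,2,1,0],[(2,236),(1,776),(2,768),(4,672),
      (3,776)],[(0,600)]),([2,1,3,1,2,0,1,3,2,1,0,1],[(9,776)],[(0,234)]),
      ([2,3,1,2,3,1,0,2,1,3,2,1],[(1,222)],[(0,680),(5,780),(6,700),(4,776)]),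
      ([2,1,0,2,1,3,1,2,0,1,2,3,2],[(0,20)],[(0,0),(5,652)]),([3,2,1,0,3,2,0,1,3,2,1,3],[(1,462),
      (0,662)],[(0,218)]),([1,1,2,1,3,2,1,0,2,1,3,2,1],[(1,0)],[(0,808)]),
      ([1,2,1,0,2,3,1,2,0,1,3,0],[(10,788)],[(0,188)]),([1,2,3,2,0,1,2,0,3,1,0,2],[],[(0,130),(8,778),(4,772),
      (3,740),(2,790)]),([1,2,3,2,0,1,2,0,3,1,0],[(0,0)],[]),([2,2,3,2,0,1,2,0,3,1,0,2],[(1,0),(0,788)],[(0,816)]),
      ([1,1,2,1,3,2,0,1,2,0,3,1,0],[(0,818)],[(1,0)]),([2,1,2,0,1,0,3,2,1,0,3,2],[(1,134)],[(0,792),(2,796)]),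
      ([2,0,1,3,2,1,0,2,3,2,1],[],[(0,0),(8,790)]),([1,0,3,2,1,0,2,3,2,1,3,1],[(0,130)],[(7,782)]),
      ([0,0,2,0,1,0,3,2,1,0,3,2,1],[(0,826)],[(1,0)]),([1,2,0,1,0,3,2,1,0,2,3,0],[(10,806),(6,790)],[(0,128)]),
      ([3,1,0,2,1,0,3,2,0,1,0,1],[(0,126)],[(9,806)]),([1,1,2,1,3,1,0,2,1,0,3,2,1],[(0,832)],[(1,0)]),
      ([1,3,2,0,1,0,3,2,1,0,2,0],[(7,796),(1,528)],[(0,104),(8,806)]),([2,1,3,1,2,0,1,0,3,2,1,0],[(1,104)],[(0,698),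
      (6,806),(4,812)]),([3,1,0,2,3,1,0,2,3,1,0,1],[(0,104)],[(9,814),(8,816),(1,412)]),
      ([1,1,0,2,3,1,0,2,3,1,2,0,1],[(1,0)],[(0,840)]),([1,3,2,1,0,2,3,1,0,2],[(0,0)],[]),
      ([0,0,2,3,1,0,2,3,1,2,0,1,3],[(0,844)],[(1,0)]),([2,2,3,1,0,2,3,1,2,0,1,3],[(1,0)],[(0,846)]),
      ([2,0,1,3,2,1,0,2,3,1,0],[(0,0)],[]),([3,3,1,0,2,3,1,2,0,1,3,2],[(1,0)],[(0,850)]),
      ([3,2,0,1,3,2,1,0,2,3,1],[],[(0,0)]),([2,3,1,0,2,1,3,2,0,1,3,1],[(6,798),(4,826),(2,830),(1,832)],[(0,90)]),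
      ([2,0,3,1,0,2,1,3,2,0,1],[(0,0)],[]),([0,0,1,2,1,0,3,2,1,0,3,2,1,3],[(0,858)],[(1,70)]),
      ([1,1,2,1,0,3,2,1,0,3,2,1,3],[(0,860)],[(1,0),(0,578),(8,834),(7,838)]),([3,1,3,2,0,1,0,2,3,1,2,0],[(0,832),
      (2,736),(1,840)],[(1,64),(0,840)]),([2,1,3,2,0,1,2,0,3,1,0,1],[(0,44)],[(9,840),(8,842)]),
      ([1,1,3,2,0,1,2,0,3,1,0,2,1],[(0,866)],[(1,0)]),([3,2,3,1,0,2,3,1,2,0,1,3],[(0,836)],[(1,22),(0,846),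
      (1,838)]),([2,2,3,2,1,0,2,3,1,2,0,1,3],[(1,0)],[(0,870)]),([0,0,1,3,2,0,1,2,3,1,0,2,1,3],[(0,872)],[(1,14)]),
      ([3,2,0,1,2,0,3,1,0,2,1,2],[(0,6)],[(9,846),(7,850),(6,852)]),([1,1,2,1,3,2,0,1,2,3,1,0,2],[(0,876)],[(1,0)]),
      ([2,1,3,2,0,1,0,3,1,2,1,0,2],[(0,700)],[(2,572),(0,850),(2,130)]),
      ([1,1,3,2,1,3,2,0,1,3,2,1,0,2],[(0,880)],[(1,0)]),([2,0,1,3,1,2,1,0,2,3,2,1,2],[(10,854)],[(0,530)]),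
      ([3,1,2,0,3,2,1,0,2,3,1,2,1],[(0,660)],[(2,338),(0,850),(2,794),(1,862)]),
      ([3,2,1,0,3,1,0,2,3,1,0,2,1],[(0,822)],[(2,282),(1,208),(0,754)]),
      ([2,2,3,2,1,0,3,1,2,3,1,0,2,1],[(0,888)],[(1,0),(0,860)]),([3,2,1,0,3,1,2,3,1,0,2],[(0,0)],[]),
      ([1,1,2,3,1,2,0,1,2,3,1,0,2,1],[(0,892)],[(1,0)]),([2,0,1,0,3,2,1,0,2,3,1,0,1],[(10,870),(9,872),
      (5,856)],[(0,198)]),([2,0,2,0,1,0,3,2,1,0,2,3,1],[(2,200)],[(0,870)]),([2,3,1,2,0,1,2,3,2,0,1,2,1],[(8,858),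
      (7,876),(2,786),(1,876)],[(0,170)]),([3,2,1,0,2,1,3,1,2,0,1,0,2],[(0,94),(10,878)],[(7,774),(6,878),(1,812),
      (1,810),(0,878),(1,94),(11,878)]),([1,1,2,3,1,2,0,1,3,2,1,0,3,2],[(1,0),(0,878)],[(0,902)]),
      ([2,0,1,3,2,1,0,2,3,2,1,3,1],[(8,862)],[(0,80),(9,872)]),([2,0,1,3,2,1,0,3,2,1,3,0],[(10,884)],[(0,0)]),
      ([2,1,2,1,3,1,0,2,1,0,3,2,1],[(2,74)],[(0,880)]),([3,2,3,1,0,2,1,0,3,2,1,0],[(1,0)],[(0,878),(2,822),(2,820),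
      (1,888)]),([2,0,3,2,0,1,3,2,1,0,2,3,1],[(2,58)],[(0,740),(8,890),(9,880),(2,88)]),
      ([2,2,0,1,0,2,3,1,2,0,1,3,2,0],[(1,0)],[(0,914)]),([2,1,0,3,1,2,0,1,0,3,1,2,0],[(1,52)],[(0,730),(2,602),
      (1,894),(7,872),(5,892),(11,894),(0,52)]),([1,3,2,0,1,2,3,1,0,2,1,3,0],[(11,896)],[(0,44)]),
      ([2,3,1,2,0,1,2,3,1,0,2,1,0],[(2,352),(1,898),(2,770),(0,768),(7,898)],[(0,26),(5,766),(3,896),(0,122)]),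
      ([0,0,2,0,1,3,2,1,0,3,1,2,3,1],[(0,922)],[(1,0)]),([2,0,1,3,2,1,0,3,1,2,3],[(0,0)],[]),
      ([1,1,2,0,1,3,2,1,0,2,1,3,2,1],[(0,926)],[(1,0)]),([2,1,0,3,2,1,0,2,3,1,2,3,2],[(8,884),(7,852),
      (5,904)],[(0,30),(9,898)]),([0,0,1,0,2,3,1,2,0,1,3,2,1,0,3],[(0,930)],[(1,26)]),
      ([2,3,2,0,1,3,2,1,0,3,2,1,3],[(2,26)],[(0,666)]),([3,1,2,3,1,0,2,1,0,3,2,1,2],[(10,906),(4,722),
      (3,912)],[(0,22)]),([3,1,2,0,3,2,1,0,3,1,2,1],[(0,0)],[]),([2,0,3,1,2,0,1,3,2,1,0,2,3],[],[(0,22),(10,912),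
      (9,916)]),([2,2,0,3,1,2,0,1,3,2,1,0,2,3],[(1,0)],[(0,940)]),([2,0,1,0,2,3,1,2,0,1,0,3,2],[],[(0,0),(11,920),
      (7,904)]),([2,3,1,2,0,1,0,3,1,0,2,1,0,2],[(8,854),(7,922)],[(0,764),(8,922)]),
      ([2,0,1,3,1,2,1,0,3,1,2,3,1,2],[(8,828),(6,922),(4,820),(3,924),(0,146)],[(0,756),(7,922),(5,820),(4,924),
      (1,146)]),([1,1,2,3,1,2,0,1,3,1,2,1,0,2,3],[(0,948)],[(1,0),(0,924),(1,328),(10,926)]),
      ([2,0,1,3,1,2,0,1,0,3,1,2,1,3],[(4,732),(3,928)],[(0,600),(1,112),(3,602),(2,928)]),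
      ([2,0,1,0,3,1,2,1,0,2,3,1,2],[],[(0,0),(12,928),(1,342),(11,930)]),
      ([2,1,3,2,0,1,0,3,2,1,3,2,0,3],[(0,410)],[(10,918),(8,926),(0,776),(5,802),(4,932),(1,366),(0,144)]),
      ([2,0,3,2,0,1,2,0,3,2,0,1,0,2],[(3,384)],[(0,622),(1,438),(1,610),(11,930),(2,78)]),
      ([2,0,3,1,0,2,1,3,2,0,1,0,2],[],[(0,0)]),([2,0,3,1,0,2,1,3,2,0,1,0],[(0,0)],[]),
      ([0,0,3,2,0,1,2,3,1,0,2,1,0,3,2],[(0,962)],[(1,0)]),([3,1,0,2,0,3,2,1,0,3,2,1,0,2],[(5,732)],[(0,368),(9,940),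
      (8,942),(3,876),(3,874),(2,942)]),([3,1,0,2,0,1,3,2,1,0,3,2,1],[],[(0,0)]),
      ([2,1,3,1,2,1,0,2,3,1,2,0,1,3],[(3,346),(2,946),(3,936),(5,940),(7,944),(3,788),(1,944),(0,24)],[(0,908),
      (5,946),(6,936),(8,940),(10,944),(2,156),(1,946),(2,936),(4,940),(6,944),(2,788),(0,944)]),
      ([0,0,3,1,2,0,1,3,1,2,1,0,2,3,1],[(0,970)],[(1,0)]),([1,3,1,0,2,3,1,2,0,1,3,1,2,1],[(0,344),(2,122),(11,948),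
      (10,950),(6,934)],[(2,352)]),([0,1,2,0,1,3,1,2,1,0,2,3,1],[(0,0),(11,952)],[]),
      ([1,1,3,2,1,0,2,3,1,2,0,1,0,3],[(1,0),(0,952)],[(0,976)]),([0,0,1,2,0,1,3,1,2,1,0,2,3,1,0],[(0,978)],[(1,4)]),
      ([1,1,2,0,1,3,1,2,1,0,2,3,1,0],[(1,0),(0,956)],[(0,980)]),([0,0,1,0,2,0,1,3,1,2,1,0,2,3,1],[(0,982)],[(1,4)]),
      ([0,0,1,0,3,2,1,0,2,3,1,2,0,1,3],[(0,984)],[(1,2)]),([2,3,1,0,2,1,3,1,2,0,1,0,2,0],[(8,940),(7,962),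
      (6,964)],[(0,340),(5,926),(3,962),(2,964),(3,952),(5,962),(4,964),(10,964),(3,654)]),
      ([3,1,2,1,0,3,2,0,1,3,2,1,0,2],[(3,322),(0,922),(5,748)],[(0,844),(0,180),(11,966)]),
      ([1,1,3,1,2,0,1,3,2,1,0,3,1,2,0],[(0,990)],[(1,0),(0,34)]),([2,3,1,2,0,1,0,3,1,2,1,0,2,3],[(0,812),(3,292),
      (2,970),(3,962),(1,108),(0,8)],[(2,162),(1,970),(2,962),(0,108)]),
      ([0,0,3,2,1,0,2,3,1,2,0,1,0,3,2],[(0,994)],[(1,0)]),([2,0,1,3,1,2,1,0,2,3,1,2,1,3],[(0,112)],[(8,868),(6,972),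
      (4,870),(3,974),(0,196),(8,912),(7,974),(1,816)]),([0,0,2,0,1,3,1,2,1,0,2,3,1,2,3],[(0,998)],[(1,0)]),
      ([2,0,3,1,2,0,1,2,3,2,0,1,2,0],[(0,100)],[(2,206),(0,848),(7,978)]),([2,1,0,2,3,1,0,2,1,0,3,2,1,0],[(3,92),
      (1,978)],[(0,282),(4,790),(3,980),(12,980),(4,756)]),([2,3,1,2,0,1,3,1,2,1,0,2,3,1],[(1,32)],[(0,54)]),
      ([1,3,2,1,0,2,3,1,2,0,1,0,3,2],[(1,10)],[(0,30)]),([2,1,0,3,1,3,0,2,0,3,1,3,0,1,0],[(3,978),(1,984),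
      (0,580)],[(0,1006),(4,978),(2,984),(0,872),(1,284),(0,980),(9,972),(1,442)]),
      ([1,1,2,0,1,0,3,1,0,2,1,0],[(0,1010)],[(1,0)]),([2,0,1,0,3,1,0,2,1],[(0,0)],[]),
      ([2,2,0,1,0,3,1,0,2,1,0],[(1,2),(0,988),(1,464)],[(0,1014)]),([1,3,1,2,0,1,3,2],[],[(0,0),(7,992),(4,958),
      (3,994)]),([2,0,1,3,1,2,0,1,3,2],[(2,0)],[(0,468),(1,0),(2,938),(1,996)]),([1,3,1,2,0,1,3,2,0,1,2],[(0,268),
      (1,2),(2,974),(1,998)],[(0,2),(3,974),(2,998),(6,994)]),([2,1,3,1,2,0,1,3,2,0,1,0],[(1,4),(4,976),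
      (3,1000)],[(0,220),(2,4),(5,976),(4,1000),(3,0)]),([0,2,1,3,1,2,0,1,3,2,0],[(0,10),(0,0)],[(2,6),(5,978),
      (4,1002),(1,0)]),([1,0,2,1,3,2,0,1,0,2,3,1],[(0,456)],[(2,6),(0,1002)]),([2,0,3,1,0,2,1,3,2,0,1,0,2],[(0,68),
      (2,0),(1,1006),(0,998),(1,1006),(6,998),(4,1004)],[(5,8),(3,1004),(2,1006),(1,998),(2,1006)]),
      ([2,3,1,0,2,1,0,3,1,2,0,1],[(0,42)],[(3,4),(0,900),(5,1006),(3,904),(2,1008),(7,1006)]),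
      ([1,3,2,0,1,2,3,1,0,2,1,0,3],[(0,112)],[(2,4),(1,1010),(2,1002),(0,1008),(3,1010),(6,1002),(4,1008)]),
      ([3,2,0,1,2,3,1,0,2,1,0,3,2],[(1,6),(0,1012),(1,1004),(2,1012),(7,1004),(5,1010),(1,4)],[(0,70),(0,0)]),
      ([2,1,0,3,2,0,1,0,3,1,2,3,1],[(1,6)],[(0,106),(0,0),(5,1012)]),([2,0,1,0,3,2,1,0,2,3,1],[(2,0)],[(0,342),
      (1,0)]),([2,1,0,3,2,1,0,2,3,1,2],[(1,2)],[(0,142),(0,4),(7,1010),(5,1016)]),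
      ([1,0,3,2,1,0,2,3,1,2,0,1,3],[(0,56)],[(0,4),(2,1010)]),([2,0,3,2,1,0,2,1,3,2,1,0,2,3],[(0,106)],[(6,4),
      (4,1020),(0,386),(2,14)]),([1,2,3,1,0,2,1,3,2,1,0,2],[(5,6),(3,1022),(2,1024),(3,1012),(0,484)],[(0,14)]),
      ([2,0,1,3,2,1,0,3,2,0],[(0,6),(3,1010)],[(0,800),(1,6)]),([3,2,0,1,3,2,1,0,3,2,1,0],[(1,8),(0,1028),(1,1020),
      (0,0),(2,962),(2,960),(1,1028)],[(0,424),(0,392),(2,20)]),([3,2,0,1,3,2,1,0,3,1,2,1],[(0,422)],[(1,10),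
      (0,1030),(1,1022),(5,1028),(3,926),(2,1030),(7,1028)]),([2,1,3,2,0,1,3,2,1,0,3],[(3,12),(2,1032),(3,1024),
      (1,1030)],[(0,420),(2,12),(1,1032),(2,1024),(0,1030),(6,1030)]),([2,3,2,0,1,3,2,1,0,2,3,2],[(2,14),(1,1034),
      (2,1026),(0,866),(2,6),(1,16)],[(0,420),(3,14),(2,1034),(3,1026),(1,866),(1,6),(0,16)]),
      ([1,0,2,0,1,3,2,1,0,2,1],[(0,388)],[(2,16)]),([1,3,2,0,1,3,2,1,0,2,1],[(0,312)],[(2,18),(1,1038),(2,1030),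
      (0,1036)]),([1,2,3,2,0,1,3,2,1,0,2,1],[(0,226),(3,6),(2,1040),(3,1028),(1,1038),(3,1038),(2,1040),(2,1004),
      (1,1040)],[(3,20),(2,1040),(3,1032),(1,872),(3,12),(2,22),(0,1038),(5,1038)]),
      ([3,2,1,3,2,0,1,3,2,1,0,2],[(0,182),(1,2),(0,8),(1,556)],[(4,22),(3,1042),(4,1034),(2,1040),(1,8),(0,1042),
      (1,1030),(3,1040),(2,1042),(1,42)]),([1,2,3,1,2,0,1,3,2,1,0,3,2],[(0,164),(5,24),(4,1042),(3,1044),(4,1032),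
      (1,504)],[(4,24),(3,1042),(2,1044),(3,1032),(0,504),(0,18)]),([2,0,1,3,2,1,0,3,2,1,0,3],[(0,26),(3,980),
      (3,978),(2,1046),(1,16)],[(0,160),(1,26),(0,1044),(1,16),(3,1030)]),([2,0,3,1,2,0,1,3,2,1,0,2,1],[(4,28),
      (3,1046),(2,1048),(1,1036),(0,236)],[(0,152),(3,28),(2,1046),(1,1048),(0,1036),(2,834),(1,1048)]),
      ([2,0,1,3,2,1,0,3,1,2,3,1],[(0,148),(1,30),(0,1048)],[(0,30),(4,1048),(1,4)]),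
      ([2,0,1,3,2,1,0,2,1,3,2,1],[(0,32),(0,16),(5,1044),(3,1050)],[(0,146),(1,32),(0,1050),(5,1050),(1,10)]),
      ([1,0,2,3,1,2,0,1,3,2,1,0,3],[(5,34),(4,1052),(3,1054),(4,1042),(0,822)],[(0,144),(4,34),(3,1052),(2,1054),
      (3,1042),(5,986),(4,1054),(3,24),(0,40)]),([2,3,1,2,0,1,3,2,1,0,3,2,1],[(3,36),(2,1054),(1,1056),(2,1044),
      (4,988),(3,1056)],[(0,144),(3,36),(2,1056),(3,1048),(1,888),(1,28),(0,38),(3,1054)]),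
      ([2,3,1,2,0,1,3,2,1,0,2,1],[(0,134),(4,38),(3,1056),(2,1058),(3,1046),(0,518),(1,12)],[(3,38),(2,1056),
      (1,1058),(2,1046),(0,778),(3,868),(2,1058)]),([3,1,0,2,0,1,3,2,1,0,3,2,1],[(0,114),(1,30),(0,2),(4,1058),
      (2,1044)],[(3,40)]),([3,1,2,0,1,3,2,1,0,3,1,2,0],[(0,92),(0,44),(3,1060),(0,354),(8,1056),(1,8)],[(2,42),
      (1,1060),(0,1062),(1,1050),(6,1060),(3,1026),(2,1062)]),([2,3,1,2,0,3,2,1,0,3,1,2,1],[(1,40)],[(0,200),(0,34),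
      (1,16),(6,1062)]),([2,0,1,3,1,2,1,0,2,3,2],[(2,4),(0,1062),(1,1008)],[(0,736),(3,4),(1,1062),(0,1008)]),
      ([2,0,1,3,1,2,1,0,2,3,1,0,2],[(0,218)],[(2,6),(0,1064),(1,1010)]),
      ([2,3,1,2,0,1,3,1,2,1,0,2,3],[(0,142)],[(5,8),(3,1066),(2,1034),(1,1070),(5,1068)]),
      ([3,1,2,0,1,3,1,2,1,0,2,3,1],[(0,122),(3,28),(1,68),(0,782),(2,926)],[(4,10),(2,1068),(1,1036),(0,1072),
      (4,1070)]),([1,2,0,1,3,1,2,1,0,2,3,1,0],[(0,116),(2,4)],[(3,12),(1,1070),(0,1038),(3,1072)]),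
      ([2,0,1,3,1,2,1,0,2,3,1,2,3],[(0,98),(2,32),(0,72)],[(2,14),(0,1072),(1,1018),(0,882)]),
      ([1,2,0,1,3,1,2,1,0,2,3,1,2,0],[(3,16),(1,1074),(0,1042),(3,1076)],[(0,92),(4,16),(2,1074),(1,1042),
      (2,1076)]),([0,2,0,1,3,1,2,1,0,2,3,1,0],[(3,18),(1,1076),(0,1022)],[(0,58)]),([3,2,0,1,0,3,2,1,0,2,1],[(1,24),
      (0,1074)],[(0,796),(0,664),(0,18),(4,1078),(3,1082)]),([2,0,1,0,3,1,2,1,0,2,3,1,0],[(0,210),(1,36),(4,1022),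
      (3,1084)],[(0,50),(4,980),(3,1084),(1,0)]),([2,0,1,0,3,1,2,1,0,2,3,1,2],[(0,52),(4,982),(3,1086),
      (0,0)],[(0,154),(2,42),(0,6),(0,8),(4,990),(2,1084)]),([2,0,3,2,0,1,0,3,1,2,1,0],[(0,56)],[(3,54),(2,1088),
      (1,1076),(3,1086),(2,1088),(0,12),(4,1088)]),([2,0,1,0,3,2,1,0,2,3,2],[(0,32)],[(0,422),(1,42),(0,0)]),
      ([1,0,3,2,0,1,0,2,3,1],[(0,830)],[(0,50),(0,28)]),([2,1,0,2,3,1,2,0,1,0,3,2,1,0],[(0,110),(0,22)],[(4,50),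
      (0,1028),(0,1026),(4,978),(2,1092),(2,4),(1,1090)]),([1,3,2,0,1,0,2,3,1,2,0],[(0,320),(2,76),(1,1094)],[(0,4),
      (3,1088)]),([0,1,3,2,0,1,0,2,3,1],[(0,72)],[(1,6),(2,1090)]),([0,3,2,0,1,0,2,3,1,2,0],[(0,44),
      (1,12)],[(0,62)]),([0,1,0,3,2,1,0,3,2,1,3,2],[(1,4),(1,1088),(1,1098),(0,1102)],[(0,50),(1,2)]),
      ([1,3,2,0,1,0,3,1,2,0,3,2,1,0],[(0,124),(1,84),(3,1102),(0,12),(3,1092)],[(0,16),(1,2),(5,1024),(5,1022),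
      (3,1102),(0,0),(1,334),(6,0),(1,56),(0,14)]),([2,0,1,0,3,2,1,0,3,2,1],[(0,40)],[(0,300),(1,8),(1,1092)]),
      ([1,0,2,1,0,3,2,1,3],[(0,894)],[(0,40),(6,1100),(4,1106),(1,1072)]),([1,0,2,1,0,3,2,1,0,3],[(0,850),
      (0,0)],[(0,42),(0,28),(3,1100)]),([1,0,3,1,0,2,1,0,3,2,0],[(3,44),(2,1112),(7,1112)],[(0,802),(4,94),(2,1110),
      (1,1112),(0,1100)]),([1,0,3,1,0,2,1,0,3,2,1,0],[(0,512),(2,46),(1,1114),(3,38),(0,1004)],[(3,46),(2,1114),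
      (0,832),(3,0),(0,20),(2,10)]),([2,0,1,0,2,3,1,0,2,1,0,3,2,1],[(0,134),(2,96),(2,1114),(1,1058),
      (0,1116)],[(0,4),(2,1104)]),([1,3,1,0,2,1,0,3,2,1,0],[(2,50),(1,1118),(1,0),(0,118),(0,10)],[(0,68),(0,20),
      (2,1104),(0,14)]),([2,0,3,1,2,1,0,3,2,1],[(1,46),(0,24)],[(0,802),(0,20)]),([2,1,0,3,1,0,2,1,0,3,1,2],[(0,46),
      (5,1120),(4,1122),(3,1114)],[(0,560),(5,2),(2,1116),(1,1094),(2,1114)]),([3,1,0,2,1,0,3,1,0,2,3],[(0,366),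
      (1,18),(2,1086),(0,1122),(5,1118)],[(3,48),(0,1014),(0,8),(2,0)]),([1,0,3,1,0,2,1,0,3,1,2,0],[(1,8)],[(0,542),
      (0,8)]),([0,1,2,0,3,1,2,1,0,2,3,2],[(0,68),(0,2),(3,0),(2,6)],[(1,28),(0,4)]),([2,1,0,3,2,1,0,3,2,1,3],[(2,0),
      (0,1124),(2,0)],[(0,290),(3,0),(1,1124),(3,0)])]
    [3] [0] [(0,0)] [] (by decide +kernel)

/-- the fourth point of the frame `a, b, d` of a `D₄` with centre `c` -/
def fth (c a b d : G) : G := c * (a * (b * (d * c * d) * b) * a) * c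

/-- transport of `y` from the class of `m` to the class of `b` -/
def th (m b y : G) : G := m * (y * b * y) * m

/-- the generator of the centre of the plane `d, a, x` -/
def zeta (d a x : G) : G := d * a * x * d * a * x

structure D4 (D : Set G) (c a b d : G) : Prop where
  hc : c ∈ D
  ha : a ∈ D
  hb : b ∈ D
  hd : d ∈ D
  ca : ¬ Commute a c
  cb : ¬ Commute b c
  cd : ¬ Commute d c
  ab : Commute a b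
  ad : Commute a d
  bd : Commute b d

/-- an affine plane -/
structure Pl (D : Set G) (d a x : G) : Prop where
  hd : d ∈ D
  ha : a ∈ D
  hx : x ∈ D
  da : ¬ Commute d a
  dx : ¬ Commute d x
  ax : ¬ Commute a x
  sx : ¬ Commute (d * a * d) x

theorem cj3 {a b : G} (h : Commute a b) (s : a * a = 1) : a * b * a = b := by rw [h.eq, mul_assoc, s, mul_one]

theorem fth_ab {c a b d : G} (h : Commute a b) : fth c a b d = fth c b a d := by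
  simp only [fth, ← mul_assoc]
  rw [h.right_comm c, h.symm.right_comm (c * b * a * d * c * d)]

theorem fth_bd {c a b d : G} (h : Commute b d) : fth c a b d = fth c a d b := by
  simp only [fth, ← mul_assoc]
  rw [h.right_comm (c * a), h.symm.right_comm (c * a * d * b * c)]

theorem TT.fth_mem {D : Set G} (hD : TT D) {c a b d : G} (hc : c ∈ D) (ha : a ∈ D) (hb : b ∈ D) (hd : d ∈ D) :
    fth c a b d ∈ D := hD.conj _ hc _ (hD.conj _ ha _ (hD.conj _ hb _ (hD.conj _ hd _ hc)))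

theorem TT.th_mem {D : Set G} (hD : TT D) {m b y : G} (hm : m ∈ D) (hb : b ∈ D) (hy : y ∈ D) :
    th m b y ∈ D := hD.conj _ hm _ (hD.conj _ hy _ hb)

theorem commute_fth {x c a b d : G} (hc : Commute x c) (ha : Commute x a) (hb : Commute x b) (hd : Commute x d) :
    Commute x (fth c a b d) := commute_conj3 hc (commute_conj3 ha (commute_conj3 hb (commute_conj3 hd hc)))

namespace D4

variable {D : Set G} {c a b d : G} (h : D4 D c a b d)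
include h

theorem sab : D4 D c b a d := ⟨h.hc, h.hb, h.ha, h.hd, h.cb, h.ca, h.cd, h.ab.symm, h.bd, h.ad⟩
theorem sbd : D4 D c a d b := ⟨h.hc, h.ha, h.hd, h.hb, h.ca, h.cd, h.cb, h.ad, h.ab, h.bd.symm⟩

variable (hD : TT D)
include hD

theorem mem : fth c a b d ∈ D := hD.fth_mem h.hc h.ha h.hb h.hd

theorem comm_a : Commute a (fth c a b d) := by
  simpa only [Commute, SemiconjBy, fth, mul_assoc] using w_F_a (tts_sq hD.tts h.ha) (tts_sq hD.tts h.hb)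
    (tts_sq hD.tts h.hd) (tts_sq hD.tts h.hc) (tts_braid hD.tts h.ha h.hc h.ca) (tts_braid hD.tts h.hb h.hc h.cb)
    (tts_braid hD.tts h.hd h.hc h.cd) h.ab h.ad h.bd

theorem comm_b : Commute b (fth c a b d) := fth_ab h.ab ▸ h.sab.comm_a hD

theorem comm_d : Commute d (fth c a b d) := fth_bd h.bd ▸ h.sbd.comm_b hD

theorem invol : fth c a b (fth c a b d) = d := by
  simpa only [fth, mul_assoc] using w_F_invol (tts_sq hD.tts h.ha) (tts_sq hD.tts h.hb)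
    (tts_sq hD.tts h.hd) (tts_sq hD.tts h.hc) (tts_braid hD.tts h.ha h.hc h.ca) (tts_braid hD.tts h.hb h.hc h.cb)
    (tts_braid hD.tts h.hd h.hc h.cd) h.ab h.ad h.bd

theorem adj : ¬ Commute (fth c a b d) c := fun q => h.ca (by
  rw [fth, hD.commute_conj_iff' h.hc, tts_cancel' hD.tts h.hc] at q
  have := eq_of_commute_of_braid hD.tts (hD.conj _ h.ha _ (hD.conj _ h.hb _ (hD.conj _ h.hd _ h.hc))) h.hc q (by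
    simpa only [mul_assoc] using w_F_braid (tts_sq hD.tts h.ha) (tts_sq hD.tts h.hb)
      (tts_sq hD.tts h.hd) (tts_sq hD.tts h.hc) (tts_braid hD.tts h.ha h.hc h.ca) (tts_braid hD.tts h.hb h.hc h.cb)
      (tts_braid hD.tts h.hd h.hc h.cd) h.ab h.ad h.bd)
  have e := h.comm_a hD
  rwa [fth, this, tts_cancel' hD.tts h.hc] at e)

/-- an element of `⟨a, b, c⟩` swapping `a, b` and `d, fth c a b d` -/
theorem swap : ∃ g ∈ closure ({c, a, b} : Set G), g * a * g⁻¹ = b ∧ g * b * g⁻¹ = a ∧ g * d * g⁻¹ = fth c a b d := by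
  have i := fun {x} (hx : x ∈ D) => tts_inv hD.tts hx
  refine ⟨c * a * b * c, mul_mem (mul_mem (mul_mem (subset_closure (by simp)) (subset_closure (by simp)))
    (subset_closure (by simp))) (subset_closure (by simp)), ?_, ?_, ?_⟩
  · simpa only [mul_inv_rev, i h.hc, i h.ha, i h.hb, mul_assoc] using w_g_swap (tts_sq hD.tts h.ha)
      (tts_sq hD.tts h.hb) (tts_sq hD.tts h.hc) (tts_braid hD.tts h.ha h.hc h.ca) (tts_braid hD.tts h.hb h.hc h.cb) h.ab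
  · rw [mul_assoc c a b, h.ab.eq]
    simpa only [mul_inv_rev, i h.hc, i h.ha, i h.hb, mul_assoc] using w_g_swap (tts_sq hD.tts h.hb)
      (tts_sq hD.tts h.ha) (tts_sq hD.tts h.hc) (tts_braid hD.tts h.hb h.hc h.cb) (tts_braid hD.tts h.ha h.hc h.ca) h.ab.symm
  · rw [fth, tts_braid hD.tts h.hd h.hc h.cd]
    simp only [mul_inv_rev, i h.hc, i h.ha, i h.hb, mul_assoc]

theorem ne_a (n : b ≠ d) : fth c a b d ≠ a := fun q => by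
  obtain ⟨g, -, -, e1, e2⟩ := h.swap hD
  rw [← e2, ← e1, conj_inj] at q; exact n q.symm

theorem ne_b (n : a ≠ d) : fth c a b d ≠ b := fth_ab h.ab ▸ h.sab.ne_a hD n

theorem ne_d (n : a ≠ b) : fth c a b d ≠ d := fth_bd h.bd ▸ h.sbd.ne_b hD n

theorem back {x : G} (hx : x ∈ D) (h1 : Commute x b) (h2 : Commute x d) (h3 : Commute x c)
    (h4 : Commute x (fth c a b d)) : Commute x a :=
  w_d4_back (tts_sq hD.tts h.ha) (tts_sq hD.tts h.hb) (tts_sq hD.tts h.hd) (tts_sq hD.tts h.hc) (tts_sq hD.tts hx)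
    (tts_braid hD.tts h.ha h.hc h.ca) (tts_braid hD.tts h.hb h.hc h.cb) (tts_braid hD.tts h.hd h.hc h.cd)
    h.ab h.ad h.bd h1 h2 h3 (by simpa only [Commute, SemiconjBy, fth, mul_assoc] using h4)

end D4

section
variable {D : Set G} (hD : TT D)
include hD

theorem TT.th_th {m b y : G} (hm : m ∈ D) (hb : b ∈ D) (hy : y ∈ D) (h1 : ¬ Commute m b) (h2 : ¬ Commute y b)
    (h3 : Commute m y) : th b m (th m b y) = y := by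
  simpa only [th, mul_assoc] using w_th_th (tts_sq hD.tts hm) (tts_sq hD.tts hb) (tts_sq hD.tts hy)
    (tts_braid hD.tts hm hb h1) (tts_braid hD.tts hy hb h2) h3

theorem TT.th_conj {m b y : G} (hm : m ∈ D) (hb : b ∈ D) (hy : y ∈ D) (h1 : ¬ Commute m b) (h2 : ¬ Commute m y)
    (h3 : Commute b y) : th b (m * b * m) y = m * y * m := by
  simpa only [th, mul_assoc] using w_th_conj (tts_sq hD.tts hm) (tts_sq hD.tts hb) (tts_sq hD.tts hy)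
    (tts_braid hD.tts hm hb h1) (tts_braid hD.tts hm hy h2) h3

theorem TT.hol_flat {m b c y : G} (hm : m ∈ D) (hb : b ∈ D) (hc : c ∈ D) (hy : y ∈ D) (h1 : ¬ Commute m b)
    (h2 : ¬ Commute b c) (h3 : ¬ Commute y b) (h4 : Commute m (b * c * b)) (h5 : Commute m y)
    (h6 : Commute (b * c * b) y) : th c m (th b c (th m b y)) = y := by
  have hx := hD.conj b hb c hc
  have := w_hol_flat (tts_sq hD.tts hm) (tts_sq hD.tts hb) (tts_sq hD.tts hx) (tts_sq hD.tts hy)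
    (tts_braid hD.tts hm hb h1) (tts_braid hD.tts hx hb fun q => hD.not_commute_conj hb h2 q.symm)
    (tts_braid hD.tts hy hb h3) h4 h5 h6
  conv_lhs => rw [← hD.conj_conj hb c]
  simpa only [th, mul_assoc] using this

end

namespace Pl

variable {D : Set G} {d a x : G} (h : Pl D d a x) (hD : TT D)
include h hD

theorem b4 : d * a * d * x * d * a * d = x * d * a * d * x := by
  simpa only [mul_assoc] using tts_braid hD.tts (hD.conj d h.hd a h.ha) h.hx h.sx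

theorem zeta_d : Commute d (zeta d a x) := by
  simpa only [Commute, SemiconjBy, zeta, mul_assoc] using w_zeta_d (tts_sq hD.tts h.hd) (tts_sq hD.tts h.ha)
    (tts_sq hD.tts h.hx) (tts_braid hD.tts h.hd h.ha h.da) (tts_braid hD.tts h.hd h.hx h.dx)
    (tts_braid hD.tts h.ha h.hx h.ax) (h.b4 hD)

omit hD in
theorem zeta_mem : zeta d a x ∈ closure D :=
  have a1 := subset_closure h.hd
  have a2 := subset_closure h.ha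
  have a3 := subset_closure h.hx
  mul_mem (mul_mem (mul_mem (mul_mem (mul_mem a1 a2) a3) a1) a2) a3

theorem zeta_one {m : G} (hm : m ∈ D) (h1 : Commute d m) (h2 : Commute a m) (h3 : ¬ Commute x m) :
    ¬ Commute m (zeta d a x * m * (zeta d a x)⁻¹) := fun q => h.da (by
  rw [w_zeta_one (tts_sq hD.tts h.hd) (tts_sq hD.tts h.ha) (tts_sq hD.tts h.hx) (tts_sq hD.tts hm)
    (tts_braid hD.tts h.hd h.ha h.da) (tts_braid hD.tts h.hd h.hx h.dx) (tts_braid hD.tts h.ha h.hx h.ax)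
    (h.b4 hD) h1 h2 (tts_braid hD.tts h.hx hm h3) (by
      simpa only [Commute, SemiconjBy, zeta, mul_assoc, mul_inv_rev,
        tts_inv hD.tts h.hd, tts_inv hD.tts h.ha, tts_inv hD.tts h.hx] using q)])

theorem zeta_eight {e : G} (he : e ∈ D) (h1 : Commute d e) (h2 : ¬ Commute a e) (h3 : ¬ Commute x e)
    (h4 : ¬ Commute (a * x * a) e) (h5 : ¬ Commute (a * (d * x * d) * a) e) :
    Commute e (zeta d a x * e * (zeta d a x)⁻¹) := by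
  simpa only [Commute, SemiconjBy, zeta, mul_assoc, mul_inv_rev, tts_inv hD.tts h.hd, tts_inv hD.tts h.ha,
    tts_inv hD.tts h.hx] using w_zeta_eight (tts_sq hD.tts h.hd) (tts_sq hD.tts h.ha) (tts_sq hD.tts h.hx)
    (tts_sq hD.tts he) (tts_braid hD.tts h.hd h.ha h.da) (tts_braid hD.tts h.hd h.hx h.dx)
    (tts_braid hD.tts h.ha h.hx h.ax) (h.b4 hD) h1 (tts_braid hD.tts h.ha he h2) (tts_braid hD.tts h.hx he h3)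
    (by simpa only [mul_assoc] using tts_braid hD.tts (hD.conj a h.ha x h.hx) he h4)
    (by simpa only [mul_assoc] using tts_braid hD.tts (hD.conj a h.ha _ (hD.conj d h.hd x h.hx)) he h5)

theorem hol_fpf {e : G} (he : e ∈ D) (h1 : Commute d e) (h2 : ¬ Commute a e) (h3 : ¬ Commute x e)
    (h4 : ¬ Commute (a * x * a) e) (h5 : ¬ Commute (a * (d * x * d) * a) e)
    (h6 : th x d (th a x (th d a e)) = e) : e = d :=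
  w_hol_fpf (tts_sq hD.tts h.hd) (tts_sq hD.tts h.ha) (tts_sq hD.tts h.hx)
    (tts_sq hD.tts he) (tts_braid hD.tts h.hd h.ha h.da) (tts_braid hD.tts h.hd h.hx h.dx)
    (tts_braid hD.tts h.ha h.hx h.ax) (h.b4 hD) h1 (tts_braid hD.tts h.ha he h2) (tts_braid hD.tts h.hx he h3)
    (by simpa only [mul_assoc] using tts_braid hD.tts (hD.conj a h.ha x h.hx) he h4)
    (by simpa only [mul_assoc] using tts_braid hD.tts (hD.conj a h.ha _ (hD.conj d h.hd x h.hx)) he h5)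
    (by simpa only [th, mul_assoc] using h6)

end Pl

end H29
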