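import Mathlib
import Cfsg.Agent.H12.RootInv
import Cfsg.Agent.H22.ZD5
import Cfsg.Agent.H22.ZDT
import Cfsg.Agent.H25.Bender
import Cfsg.Agent.H02.Suz8
import Cfsg.Agent.S5045

/-!
# Root involutions I (helper29)

`RI.rk`: the rank one configuration for a disconnected commuting graph; `RI.blk`: invariant partitions into non-abelian blocks
which commute or are totally odd are trivial; `RI.econn`, `RI.gen`, `RI.ti`: non-degenerate classes.
-/

set_option autoImplicit false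
set_option linter.unusedSectionVars false

open Cfsg Subgroup H12.RI H02.Suz Relation MulAction

namespace H29.RI

universe u

variable {G : Type u} [Group G] {D : Set G}

/-- some line -/
abbrev Ln (D : Set G) : Prop := (D ∩ commutingProducts D).Nonempty

/-- one class -/
def Cl (D : Set G) : Prop := ∀ a ∈ D, ∀ b ∈ D, ∃ g : G, b = g * a * g⁻¹

/-- connected in the commuting graph -/
abbrev Cn (D : Set G) (a b : G) : Prop := ReflTransGen (CommAdj D) a b

theorem ln_of (hD : IsRootInvolutionSet D) {a b : G} (ha : a ∈ D) (hb : b ∈ productPartners D a) : Ln D :=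
  ⟨b * a, hb.2, b, hb.1.1, a, ha, hb.1.2.1, ne_one hD hb.2, rfl⟩

theorem pp_conj (hD : IsRootInvolutionSet D) {a b : G} (hb : b ∈ productPartners D a) (g : G) :
    g * b * g⁻¹ ∈ productPartners D (g * a * g⁻¹) :=
  ⟨⟨hD.conj_mem _ hb.1.1 g, (show Commute b a from hb.1.2.1).map (MulAut.conj g), fun e => hb.1.2.2 (by simpa using e)⟩,
    by simpa [mul_assoc] using hD.conj_mem _ hb.2 g⟩

theorem Ln.ex (hD : IsRootInvolutionSet D) (h : Ln D) : ∃ a ∈ D, ∃ b, b ∈ productPartners D a := by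
  obtain ⟨_, h0, u, hu, v, hv, h1, h2, rfl⟩ := h
  exact ⟨v, hv, u, ⟨hu, h1, fun e => h2 (e ▸ sq hD hu)⟩, h0⟩

theorem Ln.at (hD : IsRootInvolutionSet D) (h : Ln D) (hc : Cl D) {a : G} (ha : a ∈ D) : ∃ b, b ∈ productPartners D a := by
  obtain ⟨v, hv, u, hu⟩ := h.ex hD
  obtain ⟨g, rfl⟩ := hc v hv a ha
  exact ⟨_, pp_conj hD hu g⟩

theorem od_conj (hD : IsRootInvolutionSet D) {a b : G} (ha : a ∈ D) (hb : b ∈ D) (h : Od a b) {Y : Subgroup G} (h1 : a ∈ Y)
    (h2 : b ∈ Y) : ∃ g ∈ Y, b = g * a * g⁻¹ := by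
  obtain ⟨k, e⟩ := exists_conj h (sq hD ha) (sq hD hb)
  exact ⟨_, pow_mem (mul_mem h1 h2) k, e.symm⟩

theorem not_comm (hD : IsRootInvolutionSet D) {a b : G} (ha : a ∈ D) (hb : b ∈ D) (h : Od a b) : a * b ≠ b * a :=
  fun e => not_od_of_comm hD hb ha e h

theorem sub_root (hD : IsRootInvolutionSet D) {Y : Subgroup G} {E : Set G} (h0 : E ⊆ D) (hY : closure E = Y)
    (hc : ∀ d ∈ E, ∀ g ∈ Y, g * d * g⁻¹ ∈ E) (h4 : ∀ a ∈ E, ∀ b ∈ E, ¬ Od a b → a * b ≠ b * a → a * b * a * b ∈ E) :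
    IsRootInvolutionSet ((↑) ⁻¹' E : Set Y) := by
  subst hY
  refine ⟨fun d hd => (orderOf_coe d).symm.trans (hD.orderOf_eq _ (h0 hd)), closure_closure_coe_preimage,
    fun d hd g => hc _ hd _ g.2, fun a ha b hb => ?_⟩
  by_cases e : (a : G) * b = b * a
  · exact Or.inl (Subtype.ext e)
  by_cases o : Od (a : G) b
  · exact Or.inr (Or.inl (by rw [← orderOf_coe]; exact o.2))
  refine Or.inr (Or.inr ⟨by rw [← orderOf_coe]; exact (sq_mem hD (h0 ha) (h0 hb) o e).1, ?_⟩)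
  have := h4 _ ha _ hb o e
  rw [mul_assoc, ← pow_two] at this
  exact this

theorem od_coe {Y : Subgroup G} {a b : Y} : Od (a : G) b ↔ Od a b := by
  rw [Od, Od, ← coe_mul, orderOf_coe, Subtype.coe_ne_coe]

theorem map_root {X : Type*} [Group X] (hD : IsRootInvolutionSet D) {π : G →* X} (hs : Function.Surjective π)
    (h1 : ∀ d ∈ D, π d ≠ 1) : IsRootInvolutionSet (π '' D) := by
  have := Fact.mk Nat.prime_two
  have two : ∀ d ∈ D, orderOf (π d) = 2 := fun d hd =>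
    orderOf_eq_prime (by rw [← map_pow, pow_two, sq hD hd, map_one]) (h1 d hd)
  refine ⟨by rintro _ ⟨d, hd, rfl⟩; exact two d hd, by rw [← MonoidHom.map_closure, hD.generates, map_top_of_surjective _ hs],
    ?_, ?_⟩
  · rintro _ ⟨d, hd, rfl⟩ g
    obtain ⟨g, rfl⟩ := hs g
    exact ⟨_, hD.conj_mem d hd g, by simp⟩
  rintro _ ⟨d, hd, rfl⟩ _ ⟨e, he, rfl⟩
  rw [← map_mul, ← map_mul, ← map_pow]
  rcases hD.pair d hd e he with h | h | h
  · exact Or.inl (by rw [h])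
  · exact Or.inr (Or.inl (h.of_dvd_nat (orderOf_map_dvd _ _)))
  refine Or.inr (Or.inr ⟨orderOf_eq_prime_pow (p := 2) (n := 1) ?_ ?_, _, h.2, rfl⟩)
  · rw [pow_one, ← map_pow]; exact h1 _ h.2
  · rw [← map_pow, show 2 ^ (1 + 1) = orderOf (d * e) from h.1.symm, pow_orderOf_eq_one, map_one]

theorem odd_two [Finite G] {x : G} (hx : x ∈ pCore 2 G) (ho : Odd (orderOf x)) : x = 1 := by
  obtain ⟨k, hk⟩ := H26.isPGroup_pCore (G := G) (p := 2) ⟨x, hx⟩
  exact eq_one_of_odd ho (congrArg Subtype.val hk)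

/-- an odd pair does not commute modulo `Z_*` -/
theorem od_mod [Finite G] (hD : IsRootInvolutionSet D) {d e : G} (hd : d ∈ D) (he : e ∈ D) (o : Od d e) :
    d * e * d * e ∉ twoZCore G := fun m0 => by
  have m : d * e ∈ twoZCore G := mem_of_sq_mem o.2 (by rwa [pow_two, ← mul_assoc])
  have m2 : d * e ∈ pCore 2 G := mem_of_sq_mem o.2 ((QuotientGroup.eq_one_iff _).1 (by
    have := mem_center_iff.1 m (QuotientGroup.mk' _ e)
    rw [← map_mul, ← map_mul, mul_assoc d, sq hD he, mul_one] at this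
    change QuotientGroup.mk' _ _ = 1
    rw [pow_two, mul_assoc, map_mul, this, ← map_mul, sq hD hd, map_one]))
  exact o.1 (by rw [← inv hD hd]; exact inv_eq_of_mul_eq_one_right (odd_two m2 o.2))

/-- the rank one configuration -/
structure RK1 (D : Set G) {X Ω : Type u} [Group X] [MulAction X Ω] (π : G →* X) (ω : Ω) (x : G) (Q : Subgroup X) :
    Prop where
  surj : Function.Surjective π
  ker : π.ker = twoZCore G
  r2 : R2 ω (π x) Q
  fa : FaithfulSMul X Ω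
  simple : IsSimpleGroup X
  ne : ∀ d ∈ D, π d ≠ 1
  comm : ∀ d ∈ D, ∀ e ∈ D, π d * π e = π e * π d → d * e = e * d

theorem rk [Finite G] (hD : IsRootInvolutionSet D) (hl : Ln D) {a x : G} (ha : a ∈ D) (hx : x ∈ D) (hn : ¬ Cn D a x) :
    ∃ (Ω : Type u) (_ : MulAction (G ⧸ twoZCore G) Ω) (ω : Ω) (Q : Subgroup (G ⧸ twoZCore G)),
      RK1 D (QuotientGroup.mk' (twoZCore G)) ω x Q ∧ QuotientGroup.mk' (twoZCore G) a • ω = ω := by
  obtain ⟨hs, hc, H, hH⟩ := H22.ZD.c5044 H22.ZD.thm hD hl ha hx hn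
  set π := QuotientGroup.mk' (twoZCore G) with hπ
  have no : ∀ d ∈ D, ∀ e ∈ D, π d * π e = π e * π d → ¬ Od d e := fun d hd e he h o =>
    od_mod hD hd he o ((QuotientGroup.eq_one_iff _).1 (by
      change π _ = 1
      rw [map_mul, map_mul, map_mul, h, mul_assoc (π e), ← map_mul, sq hD hd, map_one, mul_one, ← map_mul, sq hD he, map_one]))
  have ne : ∀ d ∈ D, π d ≠ 1 := fun d hd e => by
    have : ∀ y ∈ D, Cn D d y := fun y hy => by_contra fun h =>
      no d hd y hy (by rw [e]; simp) ⟨fun e => h (e ▸ .refl), H22.ZD.conn_odd hD hd hy h⟩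
    exact hn ((H22.ZD.conn_symm (this a ha)).trans (this x hx))
  have cm : ∀ d ∈ D, ∀ e ∈ D, π d * π e = π e * π d → d * e = e * d := fun d hd e he h => by_contra fun h' =>
    ne _ (sq_mem hD hd he (no d hd e he h) h').2 (by
      rw [map_mul, map_mul, map_mul, h, mul_assoc (π e), ← map_mul, sq hD hd, map_one, mul_one, ← map_mul, sq hD he, map_one])
  have r := H17.BC.rk2_of_simple hc
  obtain ⟨Q, w, f⟩ := H17.BC.fq_of_core H25.BE.bender_core hH r
    (((inferInstance : H.normalCore.Normal).eq_bot_or_eq_top.resolve_right fun e =>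
      hH.1 (top_le_iff.1 (e ▸ H.normalCore_le))))
  have S : R2 _ w Q := ⟨RO.of (f.rk.setup f.ev f.od), r⟩
  have s2 : ∀ d ∈ D, π d * π d = 1 := fun d hd => by rw [← map_mul, sq hD hd, map_one]
  obtain ⟨ω, hω, -⟩ := S.invol_fix (ne a ha) (s2 a ha)
  obtain ⟨g, rfl⟩ := S.trans (1 : G ⧸ twoZCore G) ω
  have S' := S.conjSetup g
  refine ⟨_, inferInstance, _, _, ⟨QuotientGroup.mk'_surjective _, QuotientGroup.ker_mk' _,
    S'.change (fun e => hn (H22.ZD.conn_comm ha hx (cm a ha x hx ?_))) (s2 x hx), f.faithful, hs, ne, cm⟩, hω⟩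
  exact S'.Q0_comm (S'.mem_Q0'.2 ⟨hω, s2 a ha⟩) (Q0_le _ (S'.mem_Q0'.2 ⟨e, s2 x hx⟩))

namespace RK1

variable [Finite G] {X Ω : Type u} [Group X] [MulAction X Ω] {π : G →* X} {ω : Ω} {x : G} {Q : Subgroup X}
  (R : RK1 D π ω x Q) (hD : IsRootInvolutionSet D)
include R hD

theorem fin : Finite X := Finite.of_surjective _ R.surj

theorem s2 {d : G} (hd : d ∈ D) : π d * π d = 1 := by rw [← map_mul, sq hD hd, map_one]

theorem pt {d : G} (hd : d ∈ D) : ∃ c : Ω, π d • c = c :=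
  have := R.fin hD
  (R.r2.invol_fix (R.ne d hd) (R.s2 hD hd)).exists

theorem pt_eq {d : G} (hd : d ∈ D) {c c' : Ω} (h : π d • c = c) (h' : π d • c' = c') : c = c' :=
  have := R.fin hD
  R.r2.invol_fix_eq (R.ne d hd) (R.s2 hD hd) h h'

theorem fix {d g : G} (hd : d ∈ D) {c : Ω} (h : π d • c = c) (e : g * d = d * g) : π g • c = c :=
  R.pt_eq hD hd (by rw [← mul_smul, ← map_mul, ← e, map_mul, mul_smul, h]) h

theorem of_fix {d e : G} (hd : d ∈ D) (he : e ∈ D) {c : Ω} (h : π d • c = c) (h' : π e • c = c) : d * e = e * d := by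
  have := R.fin hD
  obtain ⟨g, rfl⟩ := R.r2.trans ω c
  have S := R.r2.conjSetup g
  exact R.comm d hd e he (S.Q0_comm (S.mem_Q0'.2 ⟨h, R.s2 hD hd⟩) (Q0_le _ (S.mem_Q0'.2 ⟨h', R.s2 hD he⟩)))

/-- commuting is transitive -/
theorem tr {d e f : G} (hd : d ∈ D) (he : e ∈ D) (hf : f ∈ D) (h : d * e = e * d) (h' : e * f = f * e) : d * f = f * d := by
  obtain ⟨c, hc⟩ := R.pt hD he
  exact R.of_fix hD hd hf (R.fix hD he hc h) (R.fix hD he hc h'.symm)

theorem od {d e : G} (hd : d ∈ D) (he : e ∈ D) (h : d * e ≠ e * d) : Od d e := by_contra fun o =>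
  have h1 := sq_partner hD hd he o h
  h (R.tr hD hd h1.1.1 he (sq_partner' hD hd he o h).1.2.1.symm h1.1.2.1)

/-- double transitivity -/
theorem two {a b c : G} (ha : a ∈ D) (hb : b ∈ D) (hc : c ∈ D) (h1 : a * b ≠ b * a) (h2 : a * c ≠ c * a) :
    ∃ g : G, g * a * g⁻¹ * a = a * (g * a * g⁻¹) ∧ g * b * g⁻¹ * c = c * (g * b * g⁻¹) := by
  obtain ⟨α, hα⟩ := R.pt hD ha
  obtain ⟨β, hβ⟩ := R.pt hD hb
  obtain ⟨γ, hγ⟩ := R.pt hD hc
  obtain ⟨g, e1, e2⟩ := R.r2.two α β α γ (fun e => h1 (R.of_fix hD ha hb hα (e ▸ hβ))) fun e => h2 (R.of_fix hD ha hc hα (e ▸ hγ))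
  obtain ⟨g, rfl⟩ := R.surj g
  refine ⟨g, R.of_fix hD (hD.conj_mem _ ha g) ha ?_ hα, R.of_fix hD (hD.conj_mem _ hb g) hc ?_ hγ⟩
  · rw [map_mul, map_mul, map_inv, mul_smul, mul_smul, inv_smul_eq_iff.2 e1.symm, hα, e1]
  · rw [map_mul, map_mul, map_inv, mul_smul, mul_smul, inv_smul_eq_iff.2 e2.symm, hβ, e2]

end RK1

/-- an invariant equivalence relation whose classes are non-abelian and commute or are totally odd -/
structure Blk (D : Set G) (r : G → G → Prop) : Prop where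
  refl : ∀ a ∈ D, r a a
  symm : ∀ a b, r a b → r b a
  trans : ∀ a b c, r a b → r b c → r a c
  mem : ∀ a b, r a b → b ∈ D
  conj : ∀ a b g, r a b → r (g * a * g⁻¹) (g * b * g⁻¹)
  nab : ∀ a ∈ D, ∃ b, r a b ∧ a * b ≠ b * a
  od : ∀ a ∈ D, ∀ b ∈ D, ¬ r a b → a * b ≠ b * a → Od a b
  cm : ∀ a ∈ D, ∀ b, ∀ b', ¬ r a b → r b b' → a * b = b * a → a * b' = b' * a

theorem Blk.invt {r : G → G → Prop} (B : Blk D r) (hD : IsRootInvolutionSet D) (hc : Cl D)
    (h : ∀ a ∈ D, ∀ d ∈ D, r a (d * a * d⁻¹)) : ∀ a ∈ D, ∀ b ∈ D, r a b := fun a ha b hb => by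
  obtain ⟨g, rfl⟩ := hc a ha b hb
  have hg : g ∈ closure D := hD.generates ▸ mem_top g
  induction hg using closure_induction_left generalizing a with
  | one => simpa using B.refl a ha
  | mul_left d hd g _ ih =>
    have := h _ (hD.conj_mem a ha g) d hd
    exact B.trans _ _ _ (ih a ha (hD.conj_mem a ha g)) (by simpa [mul_assoc] using this)
  | inv_mul_cancel d hd g _ ih =>
    have := h _ (hD.conj_mem a ha g) d hd
    rw [inv hD hd] at this ⊢
    exact B.trans _ _ _ (ih a ha (hD.conj_mem a ha g)) (by simpa [mul_assoc, inv hD hd] using this)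

theorem blk (n : ℕ) : ∀ (G : Type u) [Group G] [Finite G] (D : Set G) (r : G → G → Prop), Nat.card G < n →
    IsRootInvolutionSet D → Cl D → Ln D → Blk D r → ∀ a ∈ D, ∀ b ∈ D, r a b := by
  induction n with
  | zero => intro _ _ _ _ _ h; omega
  | succ n ih => ?_
  intro G _ _ D r hn hD hc hl B
  have mem' : ∀ a b, r a b → a ∈ D := fun a b h => B.mem _ _ (B.symm _ _ h)
  by_contra h0
  by_cases hcn : ∀ a ∈ D, ∀ b ∈ D, Cn D a b
  swap
  · push Not at hcn h0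
    obtain ⟨a, ha, x, hx, hcn⟩ := hcn
    obtain ⟨_, _, _, _, R, -⟩ := rk hD hl ha hx hcn
    have k : ∀ a ∈ D, ∀ b ∈ D, a * b = b * a → r a b := fun a ha b hb e => by_contra fun h => by
      obtain ⟨b', h1, h2⟩ := B.nab b hb
      exact h2 (R.tr hD hb ha (B.mem _ _ h1) e.symm (B.cm a ha b b' h h1 e))
    obtain ⟨a, ha, c, hc, h0⟩ := h0
    obtain ⟨b, h1, h2⟩ := B.nab a ha
    obtain ⟨g, e1, e2⟩ := R.two hD ha (B.mem _ _ h1) hc h2 fun e => h0 (k a ha c hc e)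
    exact h0 (B.trans _ _ _ (k _ ha _ (hD.conj_mem _ ha g) e1.symm)
      (B.trans _ _ _ (B.conj _ _ g h1) (k _ (hD.conj_mem _ (B.mem _ _ h1) g) _ hc e2)))
  -- an odd pair of blocks centralising a third one
  obtain ⟨a, ha, x, hx, nax, oax⟩ : ∃ a ∈ D, ∃ x ∈ D, ¬ r a x ∧ a * x ≠ x * a := by
    by_contra! h
    refine h0 (B.invt hD hc fun a ha d hd => ?_)
    by_cases e : r a d
    · exact B.trans _ _ _ e (by simpa using B.conj _ _ d (B.symm _ _ e))
    · rw [← h a ha d hd e, mul_inv_cancel_right]; exact B.refl a ha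
  obtain ⟨x, hx, y, hy, nax, oax, nay, cay, cyx⟩ : ∃ x ∈ D, ∃ y ∈ D, ¬ r a x ∧ a * x ≠ x * a ∧ ¬ r a y ∧ a * y = y * a ∧
      y * x = x * y := by
    have := hcn a ha x hx
    clear hx
    induction this with
    | refl => exact absurd rfl oax
    | @tail y x _ h ih =>
      by_cases e : r a y
      · exact absurd (B.cm x h.2.1 y a (fun h => nax (B.trans _ _ _ e (B.symm _ _ h))) (B.symm _ _ e) h.2.2.2.symm).symm oax
      by_cases e' : a * y = y * a
      · exact ⟨x, h.2.1, y, h.1, nax, oax, e, e', h.2.2.2⟩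
      · exact ih e e'
  have tot : ∀ a x, ¬ r a x → a * x ≠ x * a → a ∈ D → x ∈ D → ∀ a' x', r a a' → r x x' → Od a' x' :=
    fun a x n o ha hx a' x' h1 h2 => by
      have n1 : ¬ r a x' := fun h => n (B.trans _ _ _ h (B.symm _ _ h2))
      have n2 : ¬ r x' a' := fun h => n1 (B.trans _ _ _ h1 (B.symm _ _ h))
      exact B.od _ (B.mem _ _ h1) _ (B.mem _ _ h2) (fun h => n2 (B.symm _ _ h)) fun e =>
        o (B.cm _ ha _ _ n1 (B.symm _ _ h2) (B.cm _ (B.mem _ _ h2) _ _ n2 (B.symm _ _ h1) e.symm).symm)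
  have nyx : ¬ r y x := fun h => not_od_of_comm hD hy ha cay (tot a x nax oax ha hx a y (B.refl a ha) (B.symm _ _ h))
  set Y := closure {z | r a z ∨ r x z} with hY
  have m1 : ∀ z, r a z → z ∈ Y := fun z h => subset_closure (Or.inl h)
  have m2 : ∀ z, r x z → z ∈ Y := fun z h => subset_closure (Or.inr h)
  have hlt : Nat.card Y < n := by
    obtain ⟨y', h1, h2⟩ := B.nab y hy
    have : y' ∉ Y := fun h => h2 (((closure_le (centralizer {y})).2 (fun z hz => mem_centralizer_singleton_iff.2 (by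
      rcases hz with hz | hz
      · exact (B.cm y hy a z (fun h => nay (B.symm _ _ h)) hz cay.symm).symm
      · exact (B.cm y hy x z nyx hz cyx).symm)) h) y rfl)
    have := Finite.card_subtype_lt (p := fun z => z ∈ Y) this
    omega
  set E := {z | ∃ g ∈ Y, z = g * a * g⁻¹} with hE
  have ED : E ⊆ D := by rintro _ ⟨g, -, rfl⟩; exact hD.conj_mem a ha g
  have EY : ∀ z ∈ E, z ∈ Y := by rintro _ ⟨g, hg, rfl⟩; exact mul_mem (mul_mem hg (m1 a (B.refl a ha))) (inv_mem hg)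
  have Ec : ∀ d ∈ E, ∀ g ∈ Y, g * d * g⁻¹ ∈ E := by
    rintro _ ⟨g, hg, rfl⟩ g' hg'
    exact ⟨g' * g, mul_mem hg' hg, by group⟩
  have aE : a ∈ E := ⟨1, one_mem _, by simp⟩
  have Eo : ∀ d ∈ E, ∀ z ∈ D, z ∈ Y → Od d z → z ∈ E := fun d hd z hz hz' o => by
    obtain ⟨g, hg, rfl⟩ := od_conj hD (ED hd) hz o (EY d hd) hz'
    exact Ec d hd g hg
  have xE : x ∈ E := Eo a aE x hx (m2 x (B.refl x hx)) (tot a x nax oax ha hx a x (B.refl a ha) (B.refl x hx))
  have r1 : ∀ z, r a z → z ∈ E := fun z h =>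
    Eo x xE z (B.mem _ _ h) (m1 z h) (tot a x nax oax ha hx z x h (B.refl x hx)).symm
  have r2 : ∀ z, r x z → z ∈ E := fun z h => Eo a aE z (B.mem _ _ h) (m2 z h) (tot a x nax oax ha hx a z (B.refl a ha) h)
  have Er : ∀ d ∈ E, ∀ z, r d z → z ∈ E := by
    rintro _ ⟨g, hg, rfl⟩ z h
    simpa [mul_assoc] using Ec _ (r1 (g⁻¹ * z * g) (by simpa [mul_assoc] using B.conj _ _ g⁻¹ h)) g hg
  have Ep : ∀ d ∈ E, ∀ z ∈ productPartners D d, z ∈ Y → z ∈ E := by
    rintro _ ⟨g, hg, rfl⟩ z h hz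
    have o := (tot a x nax oax ha hx a x (B.refl a ha) (B.refl x hx)).conj g
    by_cases e : r (g * x * g⁻¹) z
    · exact Er _ (Ec x xE g hg) z e
    · exact Eo _ (Ec x xE g hg) z h.1.1 hz (B.od _ (hD.conj_mem _ hx g) _ h.1.1 e
        (l2 hD (hD.conj_mem _ ha g) (hD.conj_mem _ hx g) o h).symm)
  have hE' : IsRootInvolutionSet ((↑) ⁻¹' E : Set Y) := sub_root hD ED
    (le_antisymm ((closure_le _).2 EY) (closure_mono fun z hz => hz.elim (r1 z) (r2 z))) Ec fun u hu v hv o e =>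
      Ep _ hu _ (sq_partner' hD (ED hu) (ED hv) o e)
        (mul_mem (mul_mem (mul_mem (EY u hu) (EY v hv)) (EY u hu)) (EY v hv))
  obtain ⟨b, hb, rb⟩ : ∃ b ∈ productPartners D a, r a b := by
    obtain ⟨b, hb⟩ := hl.at hD hc ha
    by_contra! h
    obtain ⟨a', h1, h2⟩ := B.nab a ha
    have k : ∀ b ∈ productPartners D a, b * a' = a' * b := fun b hb =>
      B.cm b hb.1.1 a a' (fun e => h b hb (B.symm _ _ e)) h1 hb.1.2.1
    have := k _ (partner_mul hD ha hb)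
    rw [mul_assoc, k b hb, ← mul_assoc, ← mul_assoc] at this
    exact h2 (mul_right_cancel this)
  have pab := partner_mul hD ha hb
  refine nax (ih Y _ (fun u v => r u v ∧ (v : G) ∈ E) hlt hE' ?_
    (ln_of hE' (a := ⟨a, EY a aE⟩) (b := ⟨b, m1 b rb⟩) aE ⟨⟨r1 b rb, Subtype.ext hb.1.2.1, fun e => hb.1.2.2 congr(($e).1)⟩,
      show b * a ∈ E from hb.1.2.1 ▸ Ep a aE _ pab (mul_mem (EY a aE) (m1 b rb))⟩)
    ⟨fun u hu => ⟨B.refl _ (ED hu), hu⟩, fun u v h => ⟨B.symm _ _ h.1, Er _ h.2 _ (B.symm _ _ h.1)⟩,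
      fun u v w h h' => ⟨B.trans _ _ _ h.1 h'.1, h'.2⟩, fun u v h => h.2,
      fun u v g h => ⟨B.conj _ _ g h.1, Ec _ h.2 _ g.2⟩, fun u hu => ?_,
      fun u hu v hv h h' => od_coe.1 (B.od _ (ED hu) _ (ED hv) (fun e => h ⟨e, hv⟩) fun e => h' (Subtype.ext e)),
      fun u hu v w h h' e => Subtype.ext (B.cm _ (ED hu) _ _ (fun e => h ⟨e, Er _ h'.2 _ (B.symm _ _ h'.1)⟩) h'.1 congr(($e).1))⟩
    ⟨a, EY a aE⟩ aE ⟨x, EY x xE⟩ xE).1
  · rintro ⟨_, _⟩ ⟨g, hg, rfl⟩ ⟨_, _⟩ ⟨g', hg', rfl⟩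
    exact ⟨⟨g' * g⁻¹, mul_mem hg' (inv_mem hg)⟩, Subtype.ext (by simp [mul_assoc])⟩
  · obtain ⟨v, h1, h2⟩ := B.nab _ (ED hu)
    exact ⟨⟨v, EY v (Er _ hu v h1)⟩, ⟨h1, Er _ hu v h1⟩, fun e => h2 congr(($e).1)⟩

theorem Blk.all [Finite G] {r : G → G → Prop} (B : Blk D r) (hD : IsRootInvolutionSet D) (hc : Cl D) (hl : Ln D) :
    ∀ a ∈ D, ∀ b ∈ D, r a b := blk _ G D r (Nat.lt_succ_self _) hD hc hl B

theorem conj_all (hD : IsRootInvolutionSet D) {P : G → Prop} (h : ∀ d ∈ D, ∀ a, P a → P (d * a * d⁻¹)) (g : G) :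
    ∀ a, P a → P (g * a * g⁻¹) := by
  have hg : g ∈ closure D := hD.generates ▸ mem_top g
  induction hg using closure_induction_left with
  | one => simp
  | mul_left d hd g _ ih => exact fun a ha => by simpa [mul_assoc] using h d hd _ (ih a ha)
  | inv_mul_cancel d hd g _ ih => exact fun a ha => by simpa [mul_assoc, inv hD hd] using h d hd _ (ih a ha)

theorem od_at (hD : IsRootInvolutionSet D) (hc : Cl D) {u v : G} (hu : u ∈ D) (hv : v ∈ D) (o : Od u v) {a : G} (ha : a ∈ D) :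
    ∃ x ∈ D, Od a x := by
  obtain ⟨g, rfl⟩ := hc u hu a ha
  exact ⟨_, hD.conj_mem v hv g, o.conj g⟩

theorem rt_symm {r : G → G → Prop} (hr : ∀ a b, r a b → r b a) {a b : G} (h : ReflTransGen r a b) : ReflTransGen r b a := by
  induction h with
  | refl => exact .refl
  | tail _ h ih => exact .head (hr _ _ h) ih

theorem oa_symm {a b : G} (h : ReflTransGen (OddAdj D) a b) : ReflTransGen (OddAdj D) b a :=
  rt_symm (fun _ _ h => ⟨h.2.1, h.1, (Od.symm h.2.2).1, (Od.symm h.2.2).2⟩) h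

theorem fconn [Finite G] (hD : IsRootInvolutionSet D) (hc : Cl D) {u v : G} (hu : u ∈ D) (hv : v ∈ D) (o : Od u v) :
    IsConnectedSet (OddAdj D) D := fun a ha b hb => by
  obtain ⟨g, rfl⟩ := hc a ha b hb
  have W : {w | IsIsolatedElem (OddAdj D) D w} = ∅ := Set.eq_empty_of_forall_notMem fun w hw => by
    obtain ⟨x, hx, o⟩ := od_at hD hc hu hv o hw.1
    exact (hw.2 x).1 ⟨hw.1, hx, o⟩
  have nt : ∀ a ∈ D, ∃ a' ∈ elemComponentOf (OddAdj D) D a, a' ≠ a := fun a ha => by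
    obtain ⟨x, hx, o⟩ := od_at hD hc hu hv o ha
    exact ⟨x, ⟨hx, .single ⟨ha, hx, o⟩⟩, o.1.symm⟩
  have cj : ∀ (g : G) {a b : G}, ReflTransGen (OddAdj D) a b → ReflTransGen (OddAdj D) (g * a * g⁻¹) (g * b * g⁻¹) :=
    fun g a b h => by
      induction h with
      | refl => exact .refl
      | tail _ h ih => exact ih.tail ⟨hD.conj_mem _ h.1 g, hD.conj_mem _ h.2.1 g, Od.conj h.2.2 g⟩
  refine (conj_all hD (P := fun b => b ∈ D ∧ ReflTransGen (OddAdj D) a b) (fun d hd b hb => ⟨hD.conj_mem _ hb.1 d, ?_⟩) g a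
    ⟨ha, .refl⟩).2
  by_cases e : elemComponentOf (OddAdj D) D d = elemComponentOf (OddAdj D) D b
  · have h1 : b ∈ elemComponentOf (OddAdj D) D d := e ▸ ⟨hb.1, .refl⟩
    exact hb.2.trans ((oa_symm h1.2).trans (by simpa using cj d h1.2))
  · have := (Cfsg.Agent.S5045.result hD).2.2.2.2.1 d hd b hb.1 (nt d hd) (nt b hb.1) e
    rw [W, Subgroup.closure_empty, mem_bot, mul_inv_eq_one] at this
    exact this.symm ▸ hb.2

section ND

variable [Finite G] (hN : IsNondegenerateRootInvolutionSet D) (hc : Cl D)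
include hN

theorem nd_four : ∃ a ∈ D, ∃ b ∈ D, ¬ Od a b ∧ a * b ≠ b * a := by
  obtain ⟨a, ha, b, hb, h⟩ := hN.2.2.2
  refine ⟨a, ha, b, hb, fun o => absurd (h ▸ o.2) (by decide), fun e => ?_⟩
  exact absurd (h ▸ orderOf_dvd_of_pow_eq_one (pow_four_of_comm hN.1 ha hb e)) (by decide)

theorem nd_ln : Ln D := by
  obtain ⟨a, ha, b, hb, h, h'⟩ := nd_four hN
  exact ln_of hN.1 ha (sq_partner' hN.1 ha hb h h')

include hc

theorem nd_f : IsConnectedSet (OddAdj D) D := by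
  obtain ⟨a, ha, b, hb, h⟩ := hN.2.2.1
  exact fconn hN.1 hc ha hb h

theorem econn : IsConnectedSet (ProdAdj D) D := fun a ha b hb => by
  have hD := hN.1
  have pa : ∀ {a b}, a ∈ D → b ∈ productPartners D a → ProdAdj D a b := fun ha h =>
    ⟨ha, h.1.1, h.1.2.2.symm, h.1.2.1.symm, h.1.2.1 ▸ h.2⟩
  have ap : ∀ {a b}, ProdAdj D a b → b ∈ productPartners D a := fun h =>
    ⟨⟨h.2.1, h.2.2.2.1.symm, h.2.2.1.symm⟩, h.2.2.2.1 ▸ h.2.2.2.2⟩
  have sy : ∀ {a b}, ReflTransGen (ProdAdj D) a b → ReflTransGen (ProdAdj D) b a := fun h =>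
    rt_symm (fun _ _ h => pa h.2.1 (partner_symm hD h.1 (ap h))) h
  have me : ∀ {a b}, a ∈ D → ReflTransGen (ProdAdj D) a b → b ∈ D := fun ha h => by
    induction h with
    | refl => exact ha
    | tail _ h => exact h.2.1
  have f4 : ∀ {a b}, a ∈ D → b ∈ D → ¬ Od a b → a * b ≠ b * a → ReflTransGen (ProdAdj D) a b := fun ha hb o e =>
    (ReflTransGen.single (pa ha (sq_partner' hD ha hb o e))).trans (sy (.single (pa hb (sq_partner hD ha hb o e))))
  have cj : ∀ (g : G) {a b : G}, ReflTransGen (ProdAdj D) a b → ReflTransGen (ProdAdj D) (g * a * g⁻¹) (g * b * g⁻¹) :=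
    fun g a b h => by
      induction h with
      | refl => exact .refl
      | tail _ h ih => exact ih.tail (pa (hD.conj_mem _ h.1 g) (pp_conj hD (ap h) g))
  refine (Blk.all (r := fun a b => a ∈ D ∧ ReflTransGen (ProdAdj D) a b) ⟨fun a ha => ⟨ha, .refl⟩,
    fun a b h => ⟨me h.1 h.2, sy h.2⟩, fun a b c h h' => ⟨h.1, h.2.trans h'.2⟩, fun a b h => me h.1 h.2,
    fun a b g h => ⟨hD.conj_mem _ h.1 g, cj g h.2⟩, fun a ha => ?_,
    fun a ha b hb h e => by_contra fun o => h ⟨ha, f4 ha hb o e⟩, fun a ha b b' h h' e => ?_⟩ hD hc (nd_ln hN) a ha b hb).2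
  · obtain ⟨u, hu, v, hv, o, e⟩ := nd_four hN
    obtain ⟨g, rfl⟩ := hc u hu a ha
    exact ⟨_, ⟨ha, cj g (f4 hu hv o e)⟩, fun h => e ((MulAut.conj g).injective (by rw [map_mul, map_mul]; exact h))⟩
  · obtain ⟨hb, h'⟩ := h'
    induction h' with
    | refl => exact e
    | @tail c d h1 h2 ih =>
      by_contra e'
      exact h ⟨ha, (f4 ha h2.2.1 (fun o => not_od_of_partner hD h2.1 (ap h2) ha ih o.symm) e').trans (sy (h1.tail h2))⟩

theorem sq_ex {a b x : G} (hb : b ∈ D) (ha : a ∈ productPartners D b) (hx : x ∈ D) (h1 : Od a x) (h2 : ¬ Od b x) :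
    ∃ w ∈ productPartners D a, w * b * w * b = a := by
  have hD := hN.1
  obtain ⟨y, hy, o1, o2⟩ : ∃ y ∈ D, Od b y ∧ ¬ Od a y := by
    by_contra! h
    exact h2 (sub_symm' hD (nd_f hN hc) hb ha.1.1 h x hx h1)
  obtain ⟨w, hw, o, e⟩ := exists_preimage hD hb hy o1 ha o2
  have := sq_partner' hD hw.1.1 hb o fun h => ne_one hD ha.1.1 (by
    rw [← e, mul_assoc w b w, ← h, ← mul_assoc, sq hD hw.1.1, one_mul, sq hD hb])
  exact ⟨w, partner_symm hD hw.1.1 (e ▸ this), e⟩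

theorem gen {a x : G} (ha : a ∈ D) (hx : x ∈ D) (o : Od a x) : closure (productPartners D a ∪ {x}) = ⊤ := by
  have hD := hN.1
  set Y := closure (productPartners D a ∪ {x})
  have m1 : ∀ b ∈ productPartners D a, b ∈ Y := fun b hb => subset_closure (Or.inl hb)
  have mx : x ∈ Y := subset_closure (Or.inr rfl)
  have ma : a ∈ Y := by
    obtain ⟨b, hb⟩ := (nd_ln hN).at hD hc ha
    simpa [mul_assoc, sq hD hb.1.1] using mul_mem (m1 _ (partner_mul hD ha hb)) (m1 b hb)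
  have k0 : ∀ b ∈ productPartners D a, Od b x → ∃ g ∈ Y, b = g * a * g⁻¹ := fun b hb h => by
    obtain ⟨g, hg, e⟩ := od_conj hD ha hx o ma mx
    obtain ⟨g', hg', e'⟩ := od_conj hD hx hb.1.1 h.symm mx (m1 b hb)
    exact ⟨g' * g, mul_mem hg' hg, by rw [e', e]; group⟩
  have k1 : ∀ b ∈ productPartners D a, ∃ g ∈ Y, b = g * a * g⁻¹ := fun b hb => by
    by_cases h : Od b x
    · exact k0 b hb h
    have pab := partner_mul hD ha hb
    obtain ⟨g, hg, e⟩ := k0 _ pab (l4 hD hx ha hb.1.1 hb.1.2.1.symm pab.1.1 o.symm fun h' => h h'.symm).symm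
    obtain ⟨w, hw, e'⟩ := sq_ex hN hc hb.1.1 (partner_symm hD ha hb) hx o h
    refine ⟨w * g, mul_mem (m1 w hw) hg, ?_⟩
    rw [mul_inv_rev, mul_assoc w, mul_assoc w, ← mul_assoc (g * a), ← e, ← e', inv hD hw.1.1]
    simp [mul_assoc, cancel hD hw.1.1, cancel hD hb.1.1, sq hD hw.1.1]
  have k2 : ∀ b, ReflTransGen (ProdAdj D) a b → ∃ g ∈ Y, b = g * a * g⁻¹ := fun b h => by
    induction h with
    | refl => exact ⟨1, one_mem _, by simp⟩
    | @tail b c _ h ih =>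
      obtain ⟨g, hg, rfl⟩ := ih
      obtain ⟨g', hg', e⟩ := k1 (g⁻¹ * c * g) (by
        simpa [mul_assoc] using pp_conj hD (a := g * a * g⁻¹) ⟨⟨h.2.1, h.2.2.2.1.symm, h.2.2.1.symm⟩, h.2.2.2.1 ▸ h.2.2.2.2⟩ g⁻¹)
      exact ⟨g * g', mul_mem hg hg', by rw [mul_inv_rev, mul_assoc g, mul_assoc g, ← mul_assoc _ g'⁻¹, ← e]; group⟩
  rw [eq_top_iff, ← hD.generates, closure_le]
  intro b hb
  obtain ⟨g, hg, rfl⟩ := k2 b (econn hN hc a ha b hb)
  exact mul_mem (mul_mem hg ma) (inv_mem hg)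

theorem ti {T : Set G} (hT : IsWeakTISubsetOfElements D T) {s t : G} (hs : s ∈ T) (ht : t ∈ T) : s * t = t * s := by
  have hD := hN.1
  have nm : ∀ t ∈ T, ∀ d ∈ D, d * t = t * d → d ∈ normalizer T := fun t ht d hd e => by
    have := (hT.2.2.2 d hd).resolve_right fun h => Set.disjoint_left.1 h ⟨t, ht, by simp [e]⟩ ht
    refine fun y => ⟨fun hy => this ▸ ⟨y, hy, rfl⟩, fun hy => ?_⟩
    rw [← this] at hy
    obtain ⟨z, hz, e⟩ := hy
    simpa [← show z = y by simpa using e] using hz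
  have no : ∀ s ∈ T, ∀ t ∈ T, ¬ Od s t := fun s hs t ht o => by
    have : normalizer T = ⊤ := top_le_iff.1 (gen hN hc (hT.1 hs) (hT.1 ht) o ▸ (closure_le _).2 (by
      rintro d (hd | rfl)
      exacts [nm s hs d hd.1.1 hd.1.2.1, nm d ht d (hT.1 ht) rfl]))
    refine hT.2.2.1 (hT.1.antisymm fun d hd => ?_)
    obtain ⟨g, rfl⟩ := hc s (hT.1 hs) d hd
    exact ((this ▸ mem_top g : g ∈ normalizer T) s).1 hs
  by_contra e
  have hs' := hT.1 hs
  have ht' := hT.1 ht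
  have p1 := sq_partner' hD hs' ht' (no s hs t ht) e
  have p2 := sq_partner hD hs' ht' (no s hs t ht) e
  obtain ⟨c, hc'⟩ : ∃ c, c = s * t * s * t := ⟨_, rfl⟩
  rw [← hc'] at p1 p2
  obtain ⟨y, hy, o1, o2⟩ : ∃ y ∈ D, Od c y ∧ ¬ Od s y := by
    by_contra! h
    exact e (comm_of_sub hD (nd_f hN hc) p1.1.1 hs' h ht' p2.1.2.1.symm).symm
  obtain ⟨w, hw, o, e'⟩ := exists_preimage hD p1.1.1 hy o1 (partner_symm hD hs' p1) o2
  have hw := hw.1.1
  have p3 := (e' ▸ sq_partner' hD hw p1.1.1 o fun h => ne_one hD hs' (by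
    rw [← e', mul_assoc w c w, ← h, ← mul_assoc, sq hD hw, one_mul, sq hD p1.1.1])).1.2.1
  have ws : w * s * w = s := by rw [← p3, mul_assoc, sq hD hw, mul_one]
  have wc : w * c * w = s * c := by rw [← e', mul_assoc _ c c, sq hD p1.1.1, mul_one]
  have tc : t * c * t = c := by rw [← p2.1.2.1, mul_assoc, sq hD ht', mul_one]
  have ts : t * s * t = s * c := by rw [hc']; simp [mul_assoc, cancel hD hs']
  have f : ∀ u v, w * t * (u * v) * (t * w) = w * t * u * (t * w) * (w * t * v * (t * w)) := fun u v => by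
    simp [mul_assoc, cancel hD hw, cancel hD ht']
  have f2 : w * t * c * (t * w) = s * c := by rw [← wc]; nth_rewrite 2 [← tc]; simp [mul_assoc]
  have f1 : w * t * s * (t * w) = c := by
    calc _ = w * (t * s * t) * w := by group
      _ = w * s * w * (w * c * w) := by rw [ts]; simp [mul_assoc, cancel hD hw]
      _ = c := by rw [ws, wc, cancel hD hs']
  have f3 : w * t * (s * c) * (t * w) = s := by rw [f, f1, f2, ← mul_assoc, p1.1.2.1, mul_assoc, sq hD p1.1.1, mul_one]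
  have o : Od w t := by_contra fun h => p1.1.2.2 (by
    have h4 := (not_od_iff hD hw ht').1 h
    have h5 : (t * w) ^ 4 = 1 := (not_od_iff hD ht' hw).1 fun o => h o.symm
    calc c = w * t * (w * t * (w * t * (w * t * s * (t * w)) * (t * w)) * (t * w)) * (t * w) := by rw [f1, f2, f3, f1]
      _ = (w * t) ^ 4 * s * (t * w) ^ 4 := by simp only [pow_succ, pow_zero, one_mul, mul_assoc]
      _ = s := by rw [h4, h5, one_mul, mul_one])
  refine no _ ((nm s hs w hw p3.symm t).1 ht) t ht ⟨fun e => not_comm hD hw ht' o (mul_inv_eq_iff_eq_mul.1 e), ?_⟩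
  rw [inv hD hw, mul_assoc, ← pow_two]
  exact o.2.of_dvd_nat (orderOf_pow_dvd 2)

end ND

end H29.RI
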