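import Mathlib
import Cfsg.Agent.H29.RI1
import Cfsg.Agent.H02.SuzSz2
import Cfsg.Agent.H18.SuzA
import Cfsg.Agent.H08.Dihedral

/-!
# Root involutions II (helper29)

`RI.lift` (rank one set-up over an odd central kernel), `RI.LL_K`, `RI.identA'`; odd transpositions: `RI.cd`, `RI.bij`,
`RI.key`, `RI.xs` (the group generated by `E_d` and an odd partner).
-/

set_option autoImplicit false
set_option linter.unusedSectionVars false

open Cfsg Subgroup H12.RI H02.Suz Relation MulAction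
open scoped MatrixGroups

namespace H29.RI

universe u

theorem pgz {G : Type*} [Group G] {g : G} {k : ℕ} (h : g ^ 2 ^ k = 1) : IsPGroup 2 (zpowers g) := by
  rintro ⟨_, n, rfl⟩
  exact ⟨k, Subtype.ext (by rw [coe_pow, coe_one, ← zpow_natCast, ← zpow_mul, mul_comm, zpow_mul, zpow_natCast, h, one_zpow])⟩

section R2

variable {G Ω : Type*} [Group G] [Finite G]

theorem lift {X : Type*} [Group X] [MulAction X Ω] {π : G →* X} (hs : Function.Surjective π) (hz : π.ker ≤ center G)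
    (ho : ∀ z ∈ π.ker, z * z = 1 → z = 1) {ω : Ω} {x : G} {Q : Subgroup X} (S : R2 ω (π x) Q) (hx : x * x = 1) (r : Rk2 G) :
    letI := MulAction.compHom Ω π
    ∃ Q', R2 ω x Q' := by
  let _ := MulAction.compHom Ω π
  have := Finite.of_surjective _ hs
  have := Fact.mk Nat.prime_two
  have o2 : ∀ k, ∀ z ∈ π.ker, z ^ 2 ^ k = 1 → z = 1 := fun k => by
    induction k with
    | zero => simp
    | succ k ih => exact fun z hz h => ih z hz (ho _ (pow_mem hz _) (by rw [← pow_two, ← pow_mul, ← pow_succ, h]))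
  obtain ⟨T⟩ : Nonempty (Sylow 2 (Q.comap π)) := inferInstance
  have hT : ∀ q ∈ Q, ∃ g ∈ T, π g = q := fun q hq => by
    have h1 := (T.mapSurjective (π.subgroupComap_surjective_of_surjective Q hs)).is_maximal' (S.Q_pg.to_subgroup ⊤) le_top
    obtain ⟨g, hg, e⟩ : (⟨q, hq⟩ : Q) ∈ (T : Subgroup (Q.comap π)).map (π.subgroupComap Q) := by
      rw [← Sylow.coe_mapSurjective (π.subgroupComap_surjective_of_surjective Q hs), ← h1]; trivial
    exact ⟨g, hg, congrArg Subtype.val e⟩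
  have hn : (T : Subgroup (Q.comap π)).Normal := ⟨fun n hn g => by
    obtain ⟨t, ht, e⟩ := hT _ g.2
    have h1 := mem_center_iff.1 (hz (show (t : G)⁻¹ * g ∈ π.ker by simp [e])) n
    have : g * n * g⁻¹ = t * n * t⁻¹ := Subtype.ext (by
      calc (g : G) * n * (g : G)⁻¹ = t * ((t : G)⁻¹ * g * n) * (g : G)⁻¹ := by group
        _ = (t : G) * n * (t : G)⁻¹ := by rw [← h1]; group)
    exact this ▸ mul_mem (mul_mem ht hn) (inv_mem ht)⟩
  have mem : ∀ g, g ∈ (T : Subgroup (Q.comap π)).map (Q.comap π).subtype ↔ π g ∈ Q ∧ ∃ k, g ^ 2 ^ k = 1 := fun g => by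
    refine ⟨?_, fun ⟨h, k, hk⟩ => ?_⟩
    · rintro ⟨g, hg, rfl⟩
      obtain ⟨k, hk⟩ := T.isPGroup' ⟨g, hg⟩
      exact ⟨g.2, k, congr((($hk).1 : G))⟩
    · have := Sylow.unique_of_normal T hn
      obtain ⟨T', h'⟩ := (pgz (g := (⟨g, h⟩ : Q.comap π)) (k := k) (Subtype.ext hk)).exists_le_sylow
      exact ⟨⟨g, h⟩, Subsingleton.elim T' T ▸ h' (mem_zpowers _), rfl⟩
  refine ⟨(T : Subgroup (Q.comap π)).map (Q.comap π).subtype, ⟨fun a b c d h h' => ?_, hx, S.ta,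
    fun g hg => S.Qa _ ((mem g).1 hg).1, fun h hh g hg => ?_, fun g hg e => ?_, fun h hh => ?_, ?_, ?_⟩, r⟩
  · obtain ⟨g, e⟩ := S.two a b c d h h'
    obtain ⟨g, rfl⟩ := hs g
    exact ⟨g, e⟩
  · obtain ⟨h1, k, hk⟩ := (mem g).1 hg
    exact (mem _).2 ⟨by simpa using S.conj (π h) hh _ h1, k, by rw [conj_pow, hk]; simp⟩
  · obtain ⟨h1, k, hk⟩ := (mem g).1 hg
    exact o2 k g (S.disj _ h1 e) hk
  · obtain ⟨q, hq, d, hd, e⟩ := S.dec (π h) hh
    obtain ⟨g, hg, rfl⟩ := hT q hq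
    refine ⟨g, ⟨g, hg, rfl⟩, (g : G)⁻¹ * h, ?_, by simp⟩
    change π _ ∈ DD ω (π x)
    rwa [map_mul, e, map_inv, inv_mul_cancel_left]
  · obtain ⟨s, h1, h2, -⟩ := S.exists_invol
    obtain ⟨g, hg, rfl⟩ := hT s h1
    rcases (T.isPGroup'.map (Q.comap π).subtype).card_eq_or_dvd with e | e
    · rw [card_eq_one, eq_bot_iff] at e
      exact absurd (by rw [show (g : G) = 1 from mem_bot.1 (e ⟨g, hg, rfl⟩), map_one]) h2
    · exact even_iff_two_dvd.2 e
  · rw [← Nat.not_even_iff_odd, even_iff_two_dvd]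
    intro h
    obtain ⟨y, hy⟩ := exists_prime_orderOf_dvd_card' 2 h
    have y2 : (y : G) * y = 1 := by rw [← coe_mul, ← pow_two, ← hy, pow_orderOf_eq_one, coe_one]
    have := ho _ (S.D_sq (d := π y) y.2 (by rw [← map_mul, y2, map_one])) y2
    rw [show y = 1 from Subtype.ext this, orderOf_one] at hy
    omega

variable [MulAction G Ω] {ω : Ω} {t : G} {Q : Subgroup G} (S : R2 ω t Q)
include S

theorem LL_K (h : ∀ x ∈ Q, x ≠ 1 → ∃ g ∈ Q, ∃ k ∈ KK ω t, ∃ f ∈ Q, t * x * t = g * k * t * f) {y : G} (hy : y ∈ LL Q t)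
    (hd : y ∈ DD ω t) : y ∈ KK ω t := by
  have : ∀ y ∈ LL Q t, ∃ g ∈ Q, ∃ k ∈ KK ω t, y = g * k ∨ ∃ f ∈ Q, y = g * k * t * f := fun y hy => by
    have st : ∀ y, (∃ g ∈ Q, ∃ k ∈ KK ω t, y = g * k ∨ ∃ f ∈ Q, y = g * k * t * f) →
        ∃ g ∈ Q, ∃ k ∈ KK ω t, t * y = g * k ∨ ∃ f ∈ Q, t * y = g * k * t * f := by
      rintro _ ⟨g, hg, k, hk, rfl | ⟨f, hf, rfl⟩⟩
      · exact ⟨1, one_mem _, k⁻¹, S.K_inv hk, Or.inr ⟨_, S.conjD' hk.1 hg, by rw [one_mul, ← S.tk hk]; group⟩⟩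
      have e : t * (g * k * t * f) = t * g * t * k⁻¹ * f := by
        rw [← S.tkt hk]; simp only [mul_assoc, S.ttx]
      by_cases g1 : g = 1
      · exact ⟨_, S.conjD' hk.1 hf, k⁻¹, S.K_inv hk, Or.inl (by rw [e, g1, mul_one, S.tt]; group)⟩
      obtain ⟨g', hg', k', hk', f', hf', e'⟩ := h g hg g1
      exact ⟨g', hg', _, S.K_mul hk' hk, Or.inr ⟨_, mul_mem (S.conjD hk.1 hf') hf, by
        rw [e, e', mul_assoc g' (k' * k), mul_assoc k' k, S.kt hk]; group⟩⟩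
    have sq : ∀ q ∈ Q, ∀ y, (∃ g ∈ Q, ∃ k ∈ KK ω t, y = g * k ∨ ∃ f ∈ Q, y = g * k * t * f) →
        ∃ g ∈ Q, ∃ k ∈ KK ω t, q * y = g * k ∨ ∃ f ∈ Q, q * y = g * k * t * f := by
      rintro q hq _ ⟨g, hg, k, hk, rfl | ⟨f, hf, rfl⟩⟩
      · exact ⟨_, mul_mem hq hg, k, hk, Or.inl (by group)⟩
      · exact ⟨_, mul_mem hq hg, k, hk, Or.inr ⟨f, hf, by group⟩⟩
    induction hy using closure_induction_left with
    | one => exact ⟨1, one_mem _, 1, S.K_one, Or.inl (by simp)⟩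
    | mul_left x hx y _ ih => exact hx.elim (fun e => e ▸ st y ih) fun hx => sq x hx y ih
    | inv_mul_cancel x hx y _ ih => exact hx.elim (fun e => by rw [e, S.tinv]; exact st y ih) fun hx => sq _ (inv_mem hx) y ih
  obtain ⟨g, hg, k, hk, rfl | ⟨f, hf, rfl⟩⟩ := this y hy
  · rwa [S.eq_one_of_mem hg (by simpa using mul_mem hd (inv_mem hk.1)), one_mul]
  · exact absurd hd.1 (S.canon_ne (by rw [mul_smul, hk.1.1, S.Qa g hg]) (S.Qa f hf))

theorem sz_K {s r : G} (h : SR Q t s r) (hn : NC Q) (h2 : Nat.card Q = Nat.card (Q0 Q) ^ 2) (hr : r * r = s) :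
    ∀ x ∈ Q, x ≠ 1 → ∃ g ∈ Q, ∃ k ∈ KK ω t, ∃ f ∈ Q, t * x * t = g * k * t * f := fun x hx x1 => by
  obtain ⟨n, F, _, _, _, hn2, hq, hF⟩ := S.exists_field
  obtain ⟨φ, π, Y, κ, c, hφ⟩ : ∃ (φ : F ≃+* F) (π Y κ : G → F), SzC F ω t Q s r φ π Y κ 1 ∧ φ * φ = H02.Hig.Fr F := by
    obtain ⟨φ, π, Y, κ, ρ, c⟩ := S.exists_szC h S.Q_pg hn h2 hr hF
    obtain e | e := c.phi_cases S h hr
    · exact ⟨φ, π, Y, κ, c.rho_eq S h hr e ▸ c, e⟩
    · exact ⟨_, _, _, _, c.swap.rho_eq S h hr e ▸ c.swap, e⟩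
  obtain ⟨_, _, _, x', hx', g, hg, k, hk, f, hf, e, e1, e2, -⟩ := c.closed S h hr
    (fun x => by rw [← RingAut.mul_apply φ φ, hφ, H02.Hig.Fr_apply]) (x := π x) (y := Y x) fun e =>
      x1 (c.inj x hx 1 (one_mem _) (e.1.trans c.π1.symm) (e.2.trans c.Y1.symm))
  exact ⟨g, hg, k, hk, f, hf, c.inj x' hx' x hx e1 e2 ▸ e⟩

theorem identA' [FaithfulSMul G Ω] [IsSimpleGroup G] (hQ : ∀ x ∈ Q, x * x = 1) :
    ∃ (F : Type) (_ : Field F) (_ : Fintype F), CharP F 2 ∧ 4 ≤ Fintype.card F ∧ Fintype.card F = Nat.card (Q0 Q) ∧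
      Nonempty (G ≃* PSL(2, F)) := by
  obtain ⟨s, r, h⟩ := S.exists_SR
  obtain rfl := (S.r_eq_of_sq h (hQ r h.rQ)).symm
  obtain ⟨n, F, _, _, _, hn, e1, e2⟩ := S.exists_field
  obtain ⟨k, l, p, hp⟩ := S.exists_fld e2 (S.s0 h) h.s1
  have h0 : ∀ x ∈ Q, x ∈ Q0 Q := fun x hx => mem_Q0_of hx (hQ x hx)
  have h4 : 4 ≤ Fintype.card F := by rw [e2, e1]; exact H17.BC.four_le hn
  have : IsSimpleGroup PSL(2, F) := H09.PSL_simple_fin 2 le_rfl fun _ => h4
  obtain ⟨L, h1, h2, ⟨h3⟩⟩ := H18.uniq S.toRO (H18.S2.rk (F := F)) (QuotientGroup.mk' (center SL(2, F)))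
    (QuotientGroup.mk'_surjective _) (by rw [QuotientGroup.ker_mk']; exact H18.S2.center_le)
    (fun x => H18.S2.uu (.ofAdd (p x)))
    (fun x hx y hy => by rw [hp.co.add x (h0 x hx) y (h0 y hy), ofAdd_add, map_mul])
    (fun x _ => ⟨_, rfl⟩)
    (fun x hx e => (hp.eq_zero (h0 x hx)).1
      (by simpa [H18.S2.uu_val] using congrArg (fun g : SL(2, F) => g.1 0 1) e))
    (by
      rintro _ ⟨c, rfl⟩
      obtain ⟨x, hx, e⟩ := hp.surj c.toAdd
      exact ⟨x, Q0_le Q hx, by rw [e]; rfl⟩)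
    (fun x hx f hf hF => H18.S2.f_mem (by
      obtain ⟨c, hc, rfl⟩ := S.exists_Ks h (h0 x hx) (S.FR_ne hf hF hx)
      have hd := (S.mem_KK.1 hc).1
      rw [S.FR_unique hf (S.conjD hd h.sQ) hF (H18.FR_sk S.toRO h hc), mul_comm,
        ← hp.K_act S hc (h0 _ hx), ← hp.ps]
      congr 1; group))
  obtain rfl : L = ⊤ := h1.eq_bot_or_eq_top.resolve_left fun e => by
    rw [e, index_bot, S.card_G, mul_assoc] at h2
    exact Nat.not_even_iff_odd.2 h2 (S.even.mul_right _)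
  exact ⟨F, inferInstance, inferInstance, inferInstance, h4, e2, ⟨topEquiv.symm.trans h3⟩⟩

end R2

variable {G : Type u} [Group G] {D : Set G}

theorem uq {x u v : G} (h1 : Odd (orderOf (x * u))) (h2 : Odd (orderOf (x * v))) (e : u * x * u = v * x * v) : u = v :=
  mul_left_cancel (sq_inj_of_odd h1 h2 (by rw [mul_assoc, mul_assoc, ← mul_assoc u, e, mul_assoc]))

theorem mem_E {d e : G} : e ∈ sameCommutingClass D d ↔ e ∈ D ∧ ∀ y ∈ D, y * d = d * y ↔ y * e = e * y :=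
  and_congr_right fun _ => by
    rw [Set.ext_iff]
    exact forall_congr' fun y => by simp [commutingMembers]

theorem swp (hD : IsRootInvolutionSet D) {x y : G} (hx : x ∈ D) (hy : y ∈ D) (o : Od x y) :
    ∃ u ∈ D, u * x * u = y ∧ Odd (orderOf (x * u)) ∧ ∀ Y : Subgroup G, x ∈ Y → y ∈ Y → u ∈ Y := by
  obtain ⟨k, hk⟩ := exists_sqrt_of_odd o.symm.2
  have o1 : Odd (orderOf ((y * x) ^ k)) := o.symm.2.of_dvd_nat (orderOf_pow_dvd k)
  obtain ⟨l, hl⟩ := exists_sqrt_of_odd o1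
  have i : x * ((y * x) ^ k) ^ l * x⁻¹ = (((y * x) ^ k) ^ l)⁻¹ := inverted_pow (inverted_pow (by
    rw [mul_inv_rev, inv hD hy, mul_assoc, mul_inv_cancel_right, inv hD hx]) k) l
  have o2 : Odd (orderOf (((y * x) ^ k) ^ l)) := o1.of_dvd_nat (orderOf_pow_dvd l)
  have m : ∀ Y : Subgroup G, x ∈ Y → y ∈ Y → ((y * x) ^ k) ^ l ∈ Y := fun Y h1 h2 => pow_mem (pow_mem (mul_mem h2 h1) k) l
  generalize ((y * x) ^ k) ^ l = c at *
  have e : c * x * c⁻¹ = c * c * x := by rw [← i, mul_assoc c, ← mul_assoc x, cancel hD hx, inv hD hx, mul_assoc]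
  refine ⟨_, hD.conj_mem x hx c, ?_, ?_, fun Y h1 h2 => mul_mem (mul_mem (m Y h1 h2) h1) (inv_mem (m Y h1 h2))⟩
  · rw [e, mul_assoc _ x x, sq hD hx, mul_one, ← mul_assoc, hl, hk, mul_assoc, sq hD hx, mul_one]
  · rw [orderOf_mul_comm, e, mul_assoc, sq hD hx, mul_one, ← pow_two]
    exact o2.of_dvd_nat (orderOf_pow_dvd 2)

/-- an involution interchanging an odd pair commutes with everything fixing or interchanging the pair -/
theorem swp_comm {x u g : G} (hu : u * u = 1) (o : Odd (orderOf (x * u)))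
    (h : (g * x * g⁻¹ = x ∧ g * (u * x * u) * g⁻¹ = u * x * u) ∨ (g * x * g⁻¹ = u * x * u ∧ g * (u * x * u) * g⁻¹ = x)) :
    g * u = u * g := by
  have e : ∀ x, g * u * g⁻¹ * (g * x * g⁻¹) * (g * u * g⁻¹) = g * (u * x * u) * g⁻¹ := fun x => by group
  have o' : ∀ x, orderOf (g * x * g⁻¹ * (g * u * g⁻¹)) = orderOf (x * u) := fun x => by
    rw [← orderOf_conj g (x * u)]; congr 1; group
  refine mul_inv_eq_iff_eq_mul.1 (uq (x := x) ?_ o ?_)
  · rcases h with h | h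
    · rw [← h.1, o']; exact o
    · rw [← h.2, o', mul_assoc, hu, mul_one, orderOf_mul_comm]; exact o
  · rcases h with h | h
    · nth_rewrite 1 [← h.1]; rw [e, h.2]
    · nth_rewrite 1 [← h.2]; rw [e, ← mul_assoc u, ← mul_assoc u, hu, one_mul, mul_assoc x, hu, mul_one, h.1]

theorem cc {w : G} (h : w * w = 1) (y : G) : w * (w * y) = y := by rw [← mul_assoc, h, one_mul]

theorem sq_cm {a b : G} (ha : a * a = 1) (hb : b * b = 1) (h : a * b = b * a) : a * b * (a * b) = 1 := by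
  rw [mul_assoc, ← mul_assoc b, ← h, mul_assoc, hb, mul_one, ha]

theorem cjw (hD : IsRootInvolutionSet D) {w x : G} (hw : w * w = 1) (hx : x ∈ D) : w * x * w ∈ D := by
  simpa [inv_eq_of_mul_eq_one_right hw] using hD.conj_mem x hx w

theorem cm_cj {w a b : G} (hw : w * w = 1) (h : Commute a (w * b * w)) : Commute (w * a * w) b := by
  have := h.map (MulAut.conj w)
  simpa [inv_eq_of_mul_eq_one_right hw, mul_assoc, hw, cc hw] using this

theorem cm_w {w a b : G} (hw : w * w = 1) (h : Commute a b) : Commute (w * a * w) (w * b * w) := by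
  simpa [inv_eq_of_mul_eq_one_right hw] using h.map (MulAut.conj w)

theorem fix_w {w a : G} (hw : w * w = 1) (h : Commute w a) : w * a * w = a := by rw [h.eq, mul_assoc, hw, mul_one]

theorem od_w {w a b : G} (hw : w * w = 1) (h : Od a b) : Od (w * a * w) (w * b * w) := by
  simpa [inv_eq_of_mul_eq_one_right hw] using h.conj w

theorem od_sq (hD : IsRootInvolutionSet D) {a b : G} (ha : a ∈ D) (hb : b ∈ D) (h : Od a b) : Od a (b * a * b) :=
  ⟨fun e => not_comm hD ha hb h (by nth_rewrite 1 [e]; rw [mul_assoc, sq hD hb, mul_one]), by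
    rw [← mul_assoc, ← mul_assoc, mul_assoc, ← pow_two]; exact h.2.of_dvd_nat (orderOf_pow_dvd 2)⟩

theorem norm_cl [Finite G] {T : Set G} {g : G} (h : ∀ y ∈ T, g * y * g⁻¹ ∈ closure T) :
    g ∈ normalizer ((closure T : Subgroup G) : Set G) :=
  mem_normalizer_fintype fun _ hn => (closure_le ((closure T).comap (MulAut.conj g).toMonoidHom)).2 h hn

theorem pg_cl [Finite G] {T : Set G} (h1 : ∀ x ∈ T, x * x = 1) (h2 : ∀ x ∈ T, ∀ y ∈ T, Commute x y) : IsPGroup 2 (closure T) :=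
  baer_self h1 (fun x hx y hy => by rw [show 4 = 2 * 2 from rfl, pow_mul, pow_two (x * y), sq_cm (h1 x hx) (h1 y hy) (h2 x hx y hy), one_pow])
    fun x hx y hy => by rwa [← (h2 x hx y hy).eq, mul_inv_cancel_right]

theorem cent_two [Finite G] (hO : pCore 2 G = ⊥) {z : G} (hz : z ∈ center G) (h : z * z = 1) : z = 1 :=
  have : (zpowers z).Normal := ⟨fun n hn g => by rwa [mem_center_iff.1 (zpowers_le.2 hz hn) g, mul_inv_cancel_right]⟩
  mem_bot.1 (hO ▸ H26.le_pCore (pgz (k := 1) (by rwa [pow_one, pow_two])) (mem_zpowers z))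

theorem cent_cl {T : Set G} {z g : G} (h : ∀ y ∈ T, Commute z y) (hg : g ∈ closure T) : Commute z g :=
  ((closure_le (centralizer {z})).2 (fun y hy => mem_centralizer_singleton_iff.2 (h y hy).symm) hg) z rfl

theorem E_self {d : G} (hd : d ∈ D) : d ∈ sameCommutingClass D d := ⟨hd, rfl⟩

theorem E_cm {d e e' y : G} (he : e ∈ sameCommutingClass D d) (he' : e' ∈ sameCommutingClass D d) (hy : y ∈ D)
    (h : Commute y e) : Commute y e' := ((mem_E.1 he').2 y hy).1 (((mem_E.1 he).2 y hy).2 h)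

theorem E_ab {d e e' : G} (he : e ∈ sameCommutingClass D d) (he' : e' ∈ sameCommutingClass D d) : Commute e e' :=
  E_cm he he' he.1 (Commute.refl e)

theorem E_conj (hD : IsRootInvolutionSet D) {d e : G} (he : e ∈ sameCommutingClass D d) (g : G) :
    g * e * g⁻¹ ∈ sameCommutingClass D (g * d * g⁻¹) := by
  have k : ∀ y a : G, y * (g * a * g⁻¹) = g * a * g⁻¹ * y ↔ g⁻¹ * y * g * a = a * (g⁻¹ * y * g) := fun y a => by
    rw [← (MulAut.conj g⁻¹).injective.eq_iff]; simp [mul_assoc]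
  exact mem_E.2 ⟨hD.conj_mem _ he.1 g, fun y hy => by
    rw [k, k]; exact (mem_E.1 he).2 _ (by simpa using hD.conj_mem y hy g⁻¹)⟩

theorem E_tr {d e e' : G} (he : e ∈ sameCommutingClass D d) (he' : e' ∈ sameCommutingClass D e) :
    e' ∈ sameCommutingClass D d := ⟨he'.1, he.2.trans he'.2⟩

theorem E_symm {d e : G} (hd : d ∈ D) (he : e ∈ sameCommutingClass D d) : d ∈ sameCommutingClass D e := ⟨hd, he.2.symm⟩

theorem E_of [Finite G] (hD : IsRootInvolutionSet D) (hc : IsConnectedSet (OddAdj D) D) {d e : G} (hd : d ∈ D) (he : e ∈ D)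
    (h : ∀ y ∈ D, y * d = d * y → y * e = e * y) : e ∈ sameCommutingClass D d :=
  mem_E.2 ⟨he, fun y hy => ⟨h y hy, comm_of_sub hD hc he hd (sub_of_comm hD he hd h) hy⟩⟩

section OT

variable (hD : IsOddTranspositionSet D)
include hD

theorem cm_of {a b : G} (ha : a ∈ D) (hb : b ∈ D) (h : ¬ Od a b) : a * b = b * a :=
  by_contra fun e => hD.2 a ha b hb (sq_mem hD.1 ha hb h e).1

theorem od_of {a b : G} (ha : a ∈ D) (hb : b ∈ D) (h : a * b ≠ b * a) : Od a b := by_contra fun e => h (cm_of hD ha hb e)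

theorem cd {a b y : G} (ha : a ∈ D) (hb : b ∈ D) (hy : y ∈ D) (hab : a * b = b * a) (ne : a ≠ b)
    (h : y * (a * b) = a * b * y) : y * a = a * y := by_contra fun e => ne (by
  have := l1 hD.1 ha hy (od_of hD hy ha e).symm (z := a * b) (by rw [mul_assoc, ← hab]) h.symm (by
    rwa [mul_assoc, ← hab, cancel hD.1 ha])
  rw [← inv hD.1 ha]; exact inv_eq_of_mul_eq_one_right this)

theorem cd' {a b y : G} (ha : a ∈ D) (hb : b ∈ D) (hy : y ∈ D) (hab : a * b = b * a) (ne : a ≠ b)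
    (h : y * (a * b) = a * b * y) : y * b = b * y := cd hD hb ha hy hab.symm ne.symm (hab ▸ h)

theorem pp_E {a b : G} (ha : a ∈ D) (hb : b ∈ productPartners D a) : b ∈ sameCommutingClass D a :=
  mem_E.2 ⟨hb.1.1, fun _ hy => ⟨fun h => (cm_of hD hb.1.1 hy (not_od_of_partner hD.1 ha hb hy h)).symm,
    fun h => (cm_of hD ha hy (not_od_of_partner hD.1 hb.1.1 (partner_symm hD.1 ha hb) hy h)).symm⟩⟩

theorem E_od {d e x : G} (hd : d ∈ D) (he : e ∈ sameCommutingClass D d) (hx : x ∈ D) (o : Od d x) : Od e x :=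
  (od_of hD hx he.1 fun h => not_comm hD.1 hx hd o.symm (((mem_E.1 he).2 x hx).2 h)).symm

/-- the dichotomy for a product of two commuting members -/
theorem dich {d e x w : G} (hd : d ∈ D) (he : e ∈ D) (hx : x ∈ D) (hde : d * e = e * d) (hw : w = d * e)
    (h : ¬ Commute x (w * x * w)) : ∃ r ∈ D, Commute r d ∧ Commute r e ∧ Commute (r * w) x ∧ r * x * r = w * x * w ∧
      Od x r ∧ ∀ Y : Subgroup G, x ∈ Y → w * x * w ∈ Y → r ∈ Y := by
  have w2 : w * w = 1 := hw ▸ sq_cm (sq hD.1 hd) (sq hD.1 he) hde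
  have wi := inv_eq_of_mul_eq_one_right w2
  obtain ⟨r, hr, e1, o, m⟩ := swp hD.1 hx (cjw hD.1 w2 hx) (od_of hD hx (cjw hD.1 w2 hx) h)
  have c := (swp_comm (sq hD.1 hr) o (g := w) (Or.inr ⟨by rw [e1, wi], by simp [e1, wi, mul_assoc, w2, cc w2]⟩)).symm
  have ne : d ≠ e := fun e' => h (by rw [hw, e', sq hD.1 he]; simp)
  refine ⟨r, hr, cd hD hd he hr hde ne (hw ▸ c), cd' hD hd he hr hde ne (hw ▸ c), ?_, e1, ⟨fun e' => h ?_, o⟩, m⟩
  · have : r * w * x = r * (w * x * w) * w := by simp [mul_assoc, w2]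
    rw [Commute, SemiconjBy, this, ← e1]
    simp [mul_assoc, cancel hD.1 hr]
  · rw [← e1, ← e', sq hD.1 hx, one_mul]

/-- the set of the bijection lemma -/
def NS (D : Set G) (f d : G) (S : Set G) : Set G :=
  {t | t ∈ D ∧ Commute t d ∧ ∀ s ∈ S, Commute s (t * d * f * (t * d))}

/-- the elements of the bijection lemma -/
def xi (f d t : G) : G := f * (t * d * f * (t * d))

theorem bij_step {f d t : G} {S : Set G} (hf : f ∈ D) (hd : d ∈ D) (hS : ∀ s ∈ S, s ∈ D ∧ Commute s f) (fS : f ∈ S)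
    (ht : t ∈ NS D f d S) : xi f d t * d * xi f d t ∈ NS D f d S ∧ xi f d t * xi f d t = 1 ∧ ∀ s ∈ S, Commute s (xi f d t) := by
  obtain ⟨ht, td, h⟩ := ht
  have w2 := sq_cm (sq hD.1 ht) (sq hD.1 hd) td
  have hf' := cjw hD.1 w2 hf
  have c := h f fS
  have x2 : xi f d t * xi f d t = 1 := sq_cm (sq hD.1 hf) (sq hD.1 hf') c
  have xs : ∀ s ∈ S, Commute s (xi f d t) := fun s hs => (hS s hs).2.mul_right (h s hs)
  refine ⟨?_, x2, xs⟩
  by_cases e : f = t * d * f * (t * d)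
  · rw [xi, ← e, sq hD.1 hf, one_mul, mul_one]
    exact ⟨hd, Commute.refl _, fun s hs => by simpa [sq hD.1 hd] using (hS s hs).2⟩
  have w1 : Commute (t * d) (xi f d t) := by
    rw [Commute, SemiconjBy]
    nth_rewrite 1 [xi, c.eq]
    simp only [xi, mul_assoc (t * d), mul_assoc f, cc w2, w2, mul_one]
  have td' : t ≠ d := fun e' => e (by simp [e', sq hD.1 hd])
  have hd' := cjw hD.1 x2 hd
  have c1 : Commute (xi f d t * d * xi f d t) d :=
    cd' hD ht hd hd' td td' ((w1.symm.mul_left (td.symm.mul_right (Commute.refl d))).mul_left w1.symm)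
  refine ⟨hd', c1, fun s hs => ?_⟩
  have d2 := sq hD.1 hd
  have c2 : Commute (d * xi f d t * d) (xi f d t) := by
    have := c1.eq
    calc _ = d * (xi f d t * d * xi f d t) := by group
      _ = _ := by rw [← this]; group
  have y2 : d * xi f d t * d * (d * xi f d t * d) = 1 := by simp [mul_assoc, cc d2, cc x2, d2]
  have c3 := cm_cj y2 (cd hD hf hf' (cjw hD.1 y2 (hS s hs).1) c e ((c2.mul_left (xs s hs)).mul_left c2)).symm
  have c4 := xs f fS
  generalize xi f d t = ξ at *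
  have : ξ * d * ξ * d * f * (ξ * d * ξ * d) = d * ξ * d * f * (d * ξ * d) := by
    calc _ = ξ * (d * ξ * d) * f * (ξ * (d * ξ * d)) := by group
      _ = d * ξ * d * (ξ * f * ξ) * (d * ξ * d) := by nth_rewrite 1 [← c2.eq]; group
      _ = _ := by rw [fix_w x2 c4.symm]
  rw [this]; exact c3.symm

theorem bij [Finite G] {f d t : G} {S : Set G} (hf : f ∈ D) (hd : d ∈ D) (o : Od f d) (hS : ∀ s ∈ S, s ∈ D ∧ Commute s f)
    (fS : f ∈ S) (ht : t ∈ NS D f d S) : ∃ t' ∈ NS D f d S, t = xi f d t' * d * xi f d t' := by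
  have inj : Function.Injective fun t : NS D f d S => (⟨_, (bij_step hD hf hd hS fS t.2).1⟩ : NS D f d S) := by
    rintro ⟨a, ha⟩ ⟨b, hb⟩ e
    have e : xi f d a * d * xi f d a = xi f d b * d * xi f d b := congrArg Subtype.val e
    have k : ∀ a ∈ NS D f d S, Od d (a * d * f * (a * d)) ∧ Od (d * f * d) a ∧
        a * d * f * (a * d) = a * (d * f * d) * a ∧ xi f d a * d * xi f d a = f * (a * d * f * (a * d) * d * (a * d * f * (a * d))) * f :=
      fun a ha => by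
        have w2 := sq_cm (sq hD.1 ha.1) (sq hD.1 hd) ha.2.1
        have e1 : a * d * f * (a * d) = a * (d * f * d) * a := by nth_rewrite 2 [ha.2.1.eq]; group
        refine ⟨by simpa only [fix_w w2 (ha.2.1.mul_left (Commute.refl d))] using od_w w2 o.symm,
          od_of hD (conj hD.1 hf hd) ha.1 fun c => not_comm hD.1 hf (conj hD.1 hf hd) (od_sq hD.1 hf hd o) ?_, e1, ?_⟩
        · have := ha.2.2 f fS
          rwa [e1, fix_w (sq hD.1 ha.1) (Commute.symm c)] at this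
        · unfold xi; nth_rewrite 2 [(ha.2.2 f fS).eq]; group
    obtain ⟨a1, a2, a3, a4⟩ := k a ha
    obtain ⟨b1, b2, b3, b4⟩ := k b hb
    rw [a4, b4, mul_left_inj, mul_right_inj] at e
    have := uq a1.2 b1.2 e
    rw [a3, b3] at this
    exact Subtype.ext (uq a2.2 b2.2 this)
  obtain ⟨⟨a, ha⟩, e⟩ := Finite.injective_iff_surjective.1 inj ⟨t, ht⟩
  exact ⟨a, ha, congr(($e).1).symm⟩

theorem nolines [Finite G] (hc : Cl D) (hO : pCore 2 G = ⊥) (hl : ¬ Ln D) {d x : G} (hd : d ∈ D) (hx : x ∈ D) (o : Od d x)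
    (hg : closure (sameCommutingClass D d ∪ {x}) = ⊤) {e : G} (he : e ∈ sameCommutingClass D d) : e = d := by
  set E := sameCommutingClass D d
  have dE : d ∈ E := E_self hd
  have x2 := sq hD.1 hx
  have s2 : ∀ e ∈ E, e * e = 1 := fun e he => sq hD.1 he.1
  have p2 : ∀ e ∈ E, ∀ e' ∈ E, e * e' * (e * e') = 1 := fun e he e' he' => sq_cm (s2 e he) (s2 e' he') (E_ab he he')
  have k1 : ∀ e ∈ E, ∀ e' ∈ E, Commute x (e * e' * x * (e * e')) := fun e he e' he' => by_contra fun h => by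
    obtain ⟨r, hr, c1, c2, c3, -⟩ := dich hD he.1 he'.1 hx (E_ab he he') rfl h
    have := cent_two hO (z := r * (e * e')) (mem_center_iff.2 fun g => (cent_cl (by
      rintro y (hy | rfl)
      exacts [(E_cm he hy hr c1).mul_left ((E_ab he hy).mul_left (E_ab he' hy)), c3]) (hg ▸ mem_top g)).symm)
      (sq_cm (sq hD.1 hr) (p2 e he e' he') (c1.mul_right c2))
    rw [mul_eq_one_iff_inv_eq, inv hD.1 hr] at this
    exact hl ⟨r, hr, e, he.1, e', he'.1, E_ab he he', this ▸ ne_one hD.1 hr, this⟩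
  have k2 : ∀ e ∈ E, d * e * x * (d * e) * x * d * (d * e * x * (d * e) * x) ∈ E := fun e he => by
    obtain ⟨t, ht, e1⟩ := bij hD (S := {x}) (t := e) hx hd o.symm (by simp [hx]) rfl
      ⟨he.1, E_ab he dE, by simpa using k1 e he d dE⟩
    have w2 := sq_cm (sq hD.1 ht.1) (sq hD.1 hd) ht.2.1
    have c := ht.2.2 x rfl
    rw [xi, c.eq] at e1
    have := (bij_step hD (S := {s | s ∈ D ∧ Commute s d}) hd hx (fun s hs => hs) ⟨hd, rfl⟩
      (t := t * d * x * (t * d)) ⟨cjw hD.1 w2 hx, c.symm, fun s hs => e1 ▸ E_cm dE he hs.1 hs.2⟩).1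
    rw [xi, ← e1] at this
    exact E_of hD.1 (fconn hD.1 hc hd hx o) hd (cjw hD.1 (sq_cm (sq hD.1 this.1) x2 this.2.1) hd)
      fun y hy h => this.2.2 y ⟨hy, h⟩
  have k3 : ∀ e ∈ E, d * e * x * (d * e) * x * (d * e * x * (d * e) * x) = 1 := fun e he =>
    sq_cm (sq hD.1 (cjw hD.1 (p2 d dE e he) hx)) x2 (k1 d dE e he).symm
  have k4 : ∀ e ∈ E, ∀ e' ∈ E, d * e * x * (d * e) * x * e' * (d * e * x * (d * e) * x)⁻¹ ∈ E := fun e he e' he' =>
    E_tr (by rw [inv_eq_of_mul_eq_one_right (k3 e he)]; exact k2 e he) (E_conj hD.1 he' _)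
  set A : Set G := {y | ∃ e ∈ E, ∃ e' ∈ E, y = e * e'}
  set B : Set G := {y | ∃ e ∈ E, y = d * e * x * (d * e) * x}
  have hA : IsPGroup 2 (closure A) := pg_cl (by rintro _ ⟨e, he, e', he', rfl⟩; exact p2 e he e' he') (by
    rintro _ ⟨a, ha, b, hb, rfl⟩ _ ⟨e, he, e', he', rfl⟩
    exact ((E_ab ha he).mul_right (E_ab ha he')).mul_left ((E_ab hb he).mul_right (E_ab hb he')))
  have hB : IsPGroup 2 (closure B) := pg_cl (by rintro _ ⟨e, he, rfl⟩; exact k3 e he) (by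
    rintro _ ⟨a, ha, rfl⟩ _ ⟨b, hb, rfl⟩
    have c := cm_w (p2 d dE a ha) (k1 a ha b hb)
    have e1 : d * a * (a * b) = d * b := by rw [mul_assoc, cc (s2 a ha)]
    rw [show d * a * (a * b * x * (a * b)) * (d * a) = d * a * (a * b) * x * (a * b * (d * a)) by group,
      ← ((E_ab dE ha).mul_right (E_ab dE hb)).mul_left ((Commute.refl a).mul_right (E_ab ha hb)), e1] at c
    exact (c.mul_right (k1 d dE a ha).symm).mul_left ((k1 d dE b hb).mul_right (Commute.refl x)))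
  have hQ := hA.to_sup_of_normal_left' hB ((closure_le _).2 (by
    rintro _ ⟨e, he, rfl⟩
    refine norm_cl ?_
    rintro _ ⟨a, ha, b, hb, rfl⟩
    exact subset_closure ⟨_, k4 e he a ha, _, k4 e he b hb, by group⟩))
  rw [← Subgroup.closure_union] at hQ
  have mA : ∀ e ∈ E, ∀ e' ∈ E, e * e' ∈ closure (A ∪ B) := fun e he e' he' => subset_closure (Or.inl ⟨e, he, e', he', rfl⟩)
  have mB : ∀ e ∈ E, d * e * x * (d * e) * x ∈ closure (A ∪ B) := fun e he => subset_closure (Or.inr ⟨e, he, rfl⟩)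
  have : (closure (A ∪ B)).Normal := normalizer_eq_top_iff.1 (top_le_iff.1 (hg ▸ (closure_le _).2 (by
    rintro y (hy | rfl) <;> refine norm_cl ?_ <;> rintro _ (⟨a, ha, b, hb, rfl⟩ | ⟨a, ha, rfl⟩)
    · rw [((E_ab hy ha).mul_right (E_ab hy hb)).eq, mul_inv_cancel_right]; exact mA a ha b hb
    · have := mul_mem (mA y hy _ (k4 a ha y hy)) (mB a ha)
      rw [inv hD.1 hy.1]
      convert this using 1
      group
    · have k : ∀ e ∈ E, y * (d * e) * y⁻¹ ∈ closure (A ∪ B) := fun e he => by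
        have := mul_mem (mA d dE e he) (mB e he)
        rwa [mul_assoc (d * e) y, mul_assoc (d * e) (y * _), cc (p2 d dE e he), ← congrArg (_ * ·) (inv hD.1 hx)] at this
      have := mul_mem (k a ha) (k b hb)
      rwa [show y * (d * a) * y⁻¹ * (y * (d * b) * y⁻¹) = y * (d * a * d * b) * y⁻¹ by group, fix_w (s2 d dE) (E_ab dE ha)] at this
    · rw [((k1 d dE a ha).mul_right (Commute.refl y)).eq, mul_inv_cancel_right]; exact mB a ha)))
  have := mem_bot.1 (hO ▸ H26.le_pCore hQ (mA d dE e he))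
  rw [← inv hD.1 hd, eq_comm]; exact inv_eq_of_mul_eq_one_right this

theorem key [Finite G] (hc : Cl D) {d x b t : G} (hd : d ∈ D) (hx : x ∈ D) (o : Od d x) (hb : b ∈ productPartners D d)
    (ht : t ∈ D) (htX : t ∈ closure (sameCommutingClass D d ∪ {x})) (td : Commute t d) : t ∈ sameCommutingClass D d := by
  refine E_of hD.1 (fconn hD.1 hc hd hx o) hd ht fun y hy yd => by_contra fun yt => ?_
  have dE := E_self hd
  have bE := pp_E hD hd hb
  have pE := pp_E hD hd (partner_mul hD.1 hd hb)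
  have y2 := sq hD.1 hy
  obtain ⟨e, he, h⟩ : ∃ e ∈ sameCommutingClass D d, ¬ Commute x (y * e * x * (y * e)) := by
    by_contra! h
    have k : ∀ e ∈ sameCommutingClass D d, Commute (y * x * y) (e * x * e) := fun e he => cm_cj y2 (by
      have := h e he
      nth_rewrite 2 [(E_cm dE he hy yd).eq] at this
      simpa only [mul_assoc] using this)
    have e1 : d * b * (d * x * d) * (d * b) = b * x * b := by
      nth_rewrite 1 [(E_ab dE bE).eq]; simp [mul_assoc, cancel hD.1 hd]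
    have c := swp_comm (x := d * x * d) (g := y * x * y) (sq hD.1 pE.1)
      (by simpa only [fix_w (sq hD.1 hd) (E_ab dE pE)] using (od_w (sq hD.1 hd) (E_od hD hd pE hx o).symm).2)
      (Or.inl ⟨by rw [(k d dE).eq, mul_inv_cancel_right], by rw [e1, (k b bE).eq, mul_inv_cancel_right]⟩)
    have := cm_cj y2 (a := d * b) c.symm
    rw [fix_w y2 (E_cm dE pE hy yd)] at this
    exact not_comm hD.1 pE.1 hx (E_od hD hd pE hx o) this
  have ye := E_cm dE he hy yd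
  obtain ⟨r, hr, c1, c2, c3, -⟩ := dich hD hy he.1 hx ye rfl h
  have c4 : Commute (r * (y * e)) t := cent_cl (by
    rintro z (hz | rfl)
    exacts [(E_cm he hz hr c2).mul_left ((E_cm dE hz hy yd).mul_left (E_ab he hz)), c3]) htX
  by_cases e' : r = y
  · rw [e', cc y2] at c3
    exact not_comm hD.1 he.1 hx (E_od hD hd he hx o) c3
  · have := c4.mul_left (E_cm dE he ht td).symm
    rw [mul_assoc, mul_assoc, sq hD.1 he.1, mul_one] at this
    exact yt (cd' hD hr hy ht c1 e' this.symm).symm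

/-- the rank one configuration on `⟨E_d, x⟩` -/
structure XS (D : Set G) (d x : G) {Ω : Type u} [MulAction G Ω] (ω : Ω) (Q : Subgroup G) : Prop where
  r2 : R2 ω x Q
  fa : FaithfulSMul G Ω
  simple : IsSimpleGroup G
  mem : ∀ z, z ∈ Q0 Q ↔ z = 1 ∨ z ∈ sameCommutingClass D d
  cs : (∀ z ∈ Q, z * z = 1) ∨ ∃ s r, SR Q x s r ∧ Nat.card Q = Nat.card (Q0 Q) ^ 2 ∧ NC Q ∧ r * r = s

theorem xs [Finite G] (hc : Cl D) (hO : pCore 2 G = ⊥) (hl : Ln D) {d x : G} (hd : d ∈ D) (hx : x ∈ D) (o : Od d x)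
    (hg : closure (sameCommutingClass D d ∪ {x}) = ⊤) :
    ∃ (Ω : Type u) (_ : MulAction G Ω) (ω : Ω) (Q : Subgroup G), XS D d x ω Q := by
  obtain ⟨b, hb⟩ := hl.at hD.1 hc hd
  have ky : ∀ t ∈ D, Commute t d → t ∈ sameCommutingClass D d := fun t ht h => key hD hc hd hx o hb ht (hg ▸ mem_top t) h
  have hn : ¬ Cn D d x := fun h => by
    have : ∀ y, Cn D d y → y ∈ sameCommutingClass D d := fun y h => by
      induction h with
      | refl => exact E_self hd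
      | tail _ h ih => exact ky _ h.2.1 (E_cm ih (E_self hd) h.2.1 h.2.2.2.symm)
    exact not_comm hD.1 hd hx o (E_ab (E_self hd) (this x h))
  obtain ⟨Ω, _, ω, Q, R, hω⟩ := rk hD.1 hl hd hx hn
  set π := QuotientGroup.mk' (twoZCore G)
  have hz : π.ker ≤ center G := fun z hz => mem_center_iff.2 fun g => by
    have := mem_center_iff.1 (R.ker ▸ hz) (QuotientGroup.mk' _ g)
    rw [← map_mul, ← map_mul, QuotientGroup.mk'_apply, QuotientGroup.mk'_apply, QuotientGroup.eq, hO, mem_bot] at this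
    exact inv_mul_eq_one.1 this
  obtain ⟨Q', S⟩ := lift R.surj hz (fun z h => cent_two hO (hz h)) R.r2 (sq hD.1 hx)
    ⟨d, b, ne_one hD.1 hd, ne_one hD.1 hb.1.1, hb.1.2.2.symm, sq hD.1 hd, sq hD.1 hb.1.1, hb.1.2.1.symm⟩
  let _ := MulAction.compHom Ω π
  have mE : ∀ z ∈ sameCommutingClass D d, z ∈ Q0 Q' := fun z hz =>
    S.mem_Q0'.2 ⟨R.fix hD.1 hd hω (E_ab hz (E_self hd)), sq hD.1 hz.1⟩
  obtain ⟨s, r, h⟩ := S.exists_SR
  have cs : (∀ z ∈ Q', z * z = 1) ∨ Nat.card Q' = Nat.card (Q0 Q') ^ 2 ∧ NC Q' ∧ r * r = s := by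
    refine (S.concl h).2.imp_right fun k => k.resolve_right ?_
    rintro ⟨-, -, hr, ζ, h1, h2, ⟨y, -, h3⟩, -⟩
    have : S.G0 h hr = ⊤ := top_le_iff.1 (hg ▸ (closure_le _).2 (by
      rintro z (hz | rfl)
      exacts [S.G0_z h hr (mE z hz), S.G0_t h hr]))
    exact h3 (S.G0_cent h hr (this ▸ mem_top y) (S.mem_W.2 ⟨h1, fun u hu => h2 u (Q0_le _ hu) (S.Q0_sq hu)⟩)).symm
  have LT : LL Q' x = ⊤ := top_le_iff.1 (hg ▸ (closure_le _).2 (by
    rintro z (hz | rfl)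
    exacts [Q_le_LL _ _ (Q0_le _ (mE z hz)), t_mem_LL _ _]))
  have k0 : ∀ z ∈ π.ker, z = 1 := fun z hz' => by
    have zd : z ∈ DD ω x := ⟨show π z • ω = ω by rw [hz', one_smul], show π z • π x • ω = π x • ω by rw [hz', one_smul]⟩
    refine S.K_inf_V (LL_K S (fun y hy y1 => ?_) (LT ▸ mem_top z) zd) (mem_VV.2 ⟨zd, (mem_center_iff.1 (hz hz') x).symm⟩)
    rcases cs with k | k
    · obtain ⟨z₁, h1, k, h2, e⟩ := S.tzt h (S.r_eq_of_sq h (k r h.rQ)) (mem_Q0_of hy (k y hy)) y1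
      exact ⟨z₁, Q0_le _ h1, k, h2, z₁, Q0_le _ h1, e⟩
    · exact sz_K S h k.2.1 k.1 k.2.2 y hy y1
  have inj : Function.Injective π := (injective_iff_map_eq_one π).2 k0
  have := R.simple
  have := R.fa
  refine ⟨Ω, inferInstance, ω, Q', S, ⟨fun {g g'} e => inj (eq_of_smul_eq_smul e)⟩,
    (MulEquiv.ofBijective π ⟨inj, R.surj⟩).isSimpleGroup, fun z => ⟨fun hz => or_iff_not_imp_left.2 fun z1 => ?_, ?_⟩,
    cs.imp_right fun k => ⟨s, r, h, k⟩⟩
  · obtain ⟨g, e⟩ := S.invol_conj (ne_one hD.1 hd) (sq hD.1 hd) z1 (S.Q0_sq hz)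
    exact ky z (e ▸ hD.1.conj_mem d hd g) (S.Q0_comm hz (Q0_le _ (mE d (E_self hd))))
  · rintro (rfl | hz)
    exacts [one_mem _, mE z hz]

end OT

/-- passing to `X / O_2(X)` for `X = ⟨E_d, x⟩` -/
theorem xq [Finite G] (hD : IsOddTranspositionSet D) {d x : G} (hd : d ∈ D) (hx : x ∈ D) (o : Od d x) {X : Subgroup G}
    (hX : closure (sameCommutingClass D d ∪ {x}) = X) : ∃ (D' : Set (X ⧸ pCore 2 X)) (d' x' : X),
      (d' : G) = d ∧ (x' : G) = x ∧ IsOddTranspositionSet D' ∧ Cl D' ∧ (d' : X ⧸ pCore 2 X) ∈ D' ∧ (x' : X ⧸ pCore 2 X) ∈ D' ∧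
      Od (d' : X ⧸ pCore 2 X) x' ∧ closure (sameCommutingClass D' d' ∪ {(x' : X ⧸ pCore 2 X)}) = ⊤ ∧
      (∀ y ∈ D', ∃ z : X, (z : G) ∈ D ∧ (z : X ⧸ pCore 2 X) = y) ∧
      (∀ z : X, (z : G) ∈ sameCommutingClass D d → (z : X ⧸ pCore 2 X) ∈ sameCommutingClass D' d') ∧
      ∀ y z : X, (y : G) ∈ D → (z : G) ∈ D → Commute (y : X ⧸ pCore 2 X) z → Commute (y : G) z := by
  have mE : ∀ e ∈ sameCommutingClass D d, e ∈ X := fun e he => hX ▸ subset_closure (Or.inl he)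
  have mx : x ∈ X := hX ▸ subset_closure (Or.inr rfl)
  set E := {z | ∃ g ∈ X, z = g * x * g⁻¹}
  have ED : E ⊆ D := by rintro _ ⟨g, -, rfl⟩; exact hD.1.conj_mem x hx g
  have xE : x ∈ E := ⟨1, one_mem _, by simp⟩
  have eE : ∀ e ∈ sameCommutingClass D d, e ∈ E := fun e he => od_conj hD.1 hx he.1 (E_od hD hd he hx o).symm mx (mE e he)
  have h1 : IsRootInvolutionSet ((↑) ⁻¹' E : Set X) := sub_root hD.1 ED (le_antisymm ((closure_le _).2 (by
    rintro _ ⟨g, hg, rfl⟩; exact mul_mem (mul_mem hg mx) (inv_mem hg))) (hX ▸ closure_mono (by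
    rintro z (hz | rfl); exacts [eE z hz, xE]))) (by
    rintro _ ⟨g, hg, rfl⟩ g' hg'; exact ⟨g' * g, mul_mem hg' hg, by group⟩)
    fun a ha b hb o e => absurd (cm_of hD (ED ha) (ED hb) o) e
  set π := QuotientGroup.mk' (pCore 2 X)
  have cm : ∀ y z : X, (y : G) ∈ D → (z : G) ∈ D → Commute (π y) (π z) → Commute (y : G) z := fun y z hy hz h =>
    cm_of hD hy hz fun o => by
      have o := od_coe.1 o
      have y2 : y * y = 1 := Subtype.ext (sq hD.1 hy)
      have z2 : z * z = 1 := Subtype.ext (sq hD.1 hz)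
      refine o.1 ((inv_eq_of_mul_eq_one_right y2).symm.trans (inv_eq_of_mul_eq_one_right (odd_two (mem_of_sq_mem o.2
        ((QuotientGroup.eq_one_iff _).1 (show π _ = 1 from ?_))) o.2)))
      rw [pow_two, map_mul, map_mul, sq_cm (by rw [← map_mul, y2, map_one]) (by rw [← map_mul, z2, map_one]) h]
  have cl : Cl ((↑) ⁻¹' E : Set X) := by
    rintro ⟨_, _⟩ ⟨g, hg, rfl⟩ ⟨_, _⟩ ⟨g', hg', rfl⟩
    exact ⟨⟨g' * g⁻¹, mul_mem hg' (inv_mem hg)⟩, Subtype.ext (by simp [mul_assoc])⟩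
  have dE := E_self hd
  have nc : ¬ Commute (π ⟨d, mE d dE⟩) (π ⟨x, mx⟩) := fun h => not_comm hD.1 hd hx o (cm _ _ hd hx h)
  have h2 := map_root h1 (QuotientGroup.mk'_surjective (pCore 2 X)) fun y hy e => by
    obtain ⟨g, e'⟩ := cl y hy ⟨x, mx⟩ xE
    exact nc (by rw [e', map_mul, map_mul, e]; simp)
  have h3 : IsOddTranspositionSet (π '' ((↑) ⁻¹' E)) := ⟨h2, by
    rintro _ ⟨a, ha, rfl⟩ _ ⟨b, hb, rfl⟩ h
    have h4 : 4 ∣ orderOf ((a : G) * b) := by rw [← h, ← map_mul, ← coe_mul, orderOf_coe]; exact orderOf_map_dvd _ _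
    by_cases o : Od (a : G) b
    · exact absurd (o.2.of_dvd_nat h4) (by decide)
    · exact absurd (h4.trans (orderOf_dvd_of_pow_eq_one (pow_four_of_comm hD.1 (ED ha) (ED hb) (cm_of hD (ED ha) (ED hb) o))))
        (by decide)⟩
  have k : ∀ z : X, (z : G) ∈ sameCommutingClass D d → π z ∈ sameCommutingClass (π '' ((↑) ⁻¹' E)) (π ⟨d, mE d dE⟩) :=
    fun z hz => mem_E.2 ⟨⟨z, eE _ hz, rfl⟩, by
      rintro _ ⟨y, hy, rfl⟩
      exact ⟨fun h => (show Commute y z from Subtype.ext (E_cm dE hz (ED hy) (cm _ _ (ED hy) hd h))).map π,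
        fun h => (show Commute y ⟨d, mE d dE⟩ from Subtype.ext (E_cm hz dE (ED hy) (cm _ _ (ED hy) hz.1 h))).map π⟩⟩
  refine ⟨_, ⟨d, mE d dE⟩, ⟨x, mx⟩, rfl, rfl, h3, ?_, ⟨_, eE d dE, rfl⟩, ⟨_, xE, rfl⟩,
    od_of h3 ⟨_, eE d dE, rfl⟩ ⟨_, xE, rfl⟩ nc, ?_, ?_, k, cm⟩
  · rintro _ ⟨a, ha, rfl⟩ _ ⟨b, hb, rfl⟩
    obtain ⟨g, rfl⟩ := cl a ha b hb
    exact ⟨π g, by simp⟩
  · subst hX
    rw [eq_top_iff, ← map_top_of_surjective _ (QuotientGroup.mk'_surjective _), ← closure_closure_coe_preimage,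
      MonoidHom.map_closure]
    refine closure_mono ?_
    rintro _ ⟨z, hz | hz, rfl⟩
    exacts [Or.inl (k z hz), Or.inr (congrArg π (Subtype.ext hz))]
  · rintro _ ⟨a, ha, rfl⟩
    exact ⟨a, ED ha, rfl⟩

theorem XS.ident [Finite G] {d x : G} {Ω : Type u} [MulAction G Ω] {ω : Ω} {Q : Subgroup G} (S : XS D d x ω Q) :
    (∃ (F : Type) (_ : Field F) (_ : Fintype F), CharP F 2 ∧ 4 ≤ Fintype.card F ∧ Nonempty (G ≃* PSL(2, F))) ∨ Lie.IsoSuzuki G := by
  have := S.fa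
  have := S.simple
  rcases S.cs with k | ⟨s, r, h, h1, h2, h3⟩
  · obtain ⟨F, _, _, a, b, -, c⟩ := identA' S.r2 k
    exact Or.inl ⟨F, _, _, a, b, c⟩
  · obtain ⟨F, _, _, m, a, b, ⟨e⟩⟩ := S.r2.ident_sz h S.r2.Q_pg h2 h1 h3
    have : LL Q x = ⊤ := S.r2.LL_normal.eq_bot_or_eq_top.resolve_left fun e => S.r2.t_ne_one (mem_bot.1 (e ▸ t_mem_LL Q x))
    exact Or.inr ⟨F, _, _, m, a, b, ⟨(topEquiv.symm.trans (MulEquiv.subgroupCongr this.symm)).trans e⟩⟩

theorem c5051 [Finite G] (hD : IsOddTranspositionSet D) {d x : G} (hd : d ∈ D) (hx : x ∈ D) (o : Od d x) {X : Subgroup G}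
    (hX : closure (sameCommutingClass D d ∪ {x}) = X) :
    (∃ (F : Type) (_ : Field F) (_ : Fintype F), CharP F 2 ∧ 4 ≤ Fintype.card F ∧ Nonempty ((X ⧸ pCore 2 X) ≃* PSL(2, F))) ∨
      Lie.IsoSuzuki (X ⧸ pCore 2 X) ∨ ∃ n : ℕ, Nonempty ((X ⧸ pCore 2 X) ≃* DihedralGroup n) := by
  obtain ⟨D', d', x', -, -, h1, h2, h3, h4, h5, h6, -⟩ := xq hD hd hx o hX
  by_cases hl : Ln D'
  · obtain ⟨_, _, _, _, S⟩ := xs h1 h2 H26.pCore_quotient_pCore hl h3 h4 h5 h6
    exact S.ident.imp_right Or.inl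
  generalize (d' : X ⧸ pCore 2 X) = a at *
  generalize (x' : X ⧸ pCore 2 X) = b at *
  obtain ⟨e⟩ := H08.nonempty_closure_equiv_dihedral (r := a * b) (s := b) (orderOf_pos _).ne' rfl (sq h1.1 h4)
    (by rw [mul_inv_rev, ← mul_assoc, mul_inv_cancel_right, inv h1.1 h3, inv h1.1 h4]) fun h =>
      ne_one h1.1 h4 (eq_one_of_odd (h5.2.of_dvd_nat (orderOf_dvd_of_mem_zpowers h)) (k := 1) (by rw [pow_one, pow_two, sq h1.1 h4]))
  have : closure {a * b, b} = ⊤ := top_le_iff.1 (h6 ▸ (closure_le _).2 (by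
    have m2 : b ∈ closure {a * b, b} := subset_closure (Or.inr rfl)
    rintro z (hz | rfl)
    · rw [nolines h1 h2 H26.pCore_quotient_pCore hl h3 h4 h5 h6 hz]
      simpa [mul_assoc, sq h1.1 h4] using mul_mem (subset_closure (k := {a * b, b}) (Or.inl rfl)) m2
    · exact m2))
  exact Or.inr (Or.inr ⟨_, ⟨(topEquiv.symm.trans (MulEquiv.subgroupCongr this.symm)).trans e⟩⟩)

end H29.RI
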