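import Cfsg.Agent.H29.LD1
import Cfsg.Agent.H07.L1
import Cfsg.Agent.H01.Generation

/-! Sylow type `L₃(4)`, the degenerate case: `H29.LD.d` proves `H07.L4.DStmt` from the third clause of S2775. -/

set_option autoImplicit false

namespace H29.LD
open BG Cfsg H07.L4

universe u v
variable {F : Type v} [Field F] [Fintype F] {G : Type u} [Group G] [Finite G] {u : F → F → F → G}

theorem sylT (h : Hs u) : IsSylowIn 2 (T u) ⊤ :=
  (isSylowIn_iff Nat.prime_two).2 ⟨le_top, h.pT, by rw [Subgroup.relIndex_top_right]; exact h.odd⟩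

omit [Finite G] in
theorem Ece (h : Hs u) : E u ≤ C_(E u) := fun _ r => mem_cent.2 fun _ s => h.Ec s r

omit [Finite G] in
theorem E'c (h : Hs u) : E' u ≤ C_(E' u) := by
  have := Ece h.sw.1
  rwa [h.sw.2.2.1] at this

/-- `E` is strongly closed -/
theorem sc (h : Hs u) (hn : N_(E' u) ≤ N_(Z u)) : IsStronglyClosed (E u) (T u) := by
  refine ⟨h.ET, fun x hx g hf => ?_⟩
  by_contra nE
  have f' : g * x * g⁻¹ ∈ E' u := (h.invol hf (by rw [conj_mul, h.E2 hx]; group)).resolve_left nE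
  obtain ⟨S, hS, l⟩ := sylow_superset Nat.prime_two (h.pT.to_le h.E'T) ((E'c h).trans (cent_le_cent1 f'))
  obtain ⟨c, hc, l'⟩ := sylow_Jsub Nat.prime_two hS (X := cj g (E u)) (isPGroup_cj.2 (h.pT.to_le h.ET))
    (by rw [← cj_cent1]; exact cj_mono g ((Ece h).trans (cent_le_cent1 hx)))
  obtain ⟨k, -, l''⟩ := sylow_Jsub Nat.prime_two (sylT h) (hS.pg Nat.prime_two) le_top
  have k1 : k ∈ N_(E' u) := h.wc' ((cj_mono k l).trans l'')
  have k2 : k * (c * g) ∈ N_(E u) := h.wc (by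
    have := (cj_mono k l').trans l''
    rwa [cj_cj, cj_cj, mul_assoc] at this)
  have e : k * (c * g) * x * (k * (c * g))⁻¹ = k * (g * x * g⁻¹) * k⁻¹ := by
    calc _ = k * (c * (g * x * g⁻¹) * c⁻¹) * k⁻¹ := by group
      _ = _ := by rw [mem_cent1.1 hc]; group
  have : k * (g * x * g⁻¹) * k⁻¹ ∈ Z u := h.inf ▸ ⟨e ▸ conj_mem_of_norm k2 hx, conj_mem_of_norm k1 f'⟩
  exact nE (h.ZE (by simpa [mul_assoc] using conj_mem_of_norm' (hn k1) this))

/-- a subgroup of `N(E)` with Sylow subgroup `E` acts as a group of odd order -/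
theorem sqc (h : Hs u) {D : Subgroup G} (hS : IsSylowIn 2 (E u) D) (hD : D ≤ N_(E u)) {k : G} (hk : k ∈ D)
    (k2 : k ^ 2 ∈ C_(E u)) : k ∈ C_(E u) := by
  obtain ⟨_, j, ⟨m, rfl⟩, hm⟩ := odd_two k
  have t := Ece h (hS.le_of_norm_pg' Nat.prime_two (H26.isPGroup_zpowers ⟨j, hm⟩) (Subgroup.zpowers_le.2 (pow_mem hk _))
    (Subgroup.zpowers_le.2 (pow_mem (hD hk) _)) (Subgroup.mem_zpowers _))
  rwa [pow_succ, pow_mul, mul_mem_cancel_left (pow_mem k2 m)] at t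

theorem nZ (h : Hs u) {D : Subgroup G} (hS : IsSylowIn 2 (E u) D) (hD : D ≤ N_(E u)) (hT : T u ≤ N_(D)) : D ≤ N_(Z u) := by
  let ρ := (E u).normalizerMonoidHom
  have ρe : ∀ (x : N_(E u)) (e : E u), ((ρ x e : E u) : G) = x * e * (x : G)⁻¹ := fun _ _ => rfl
  have ρ1 : ∀ x : N_(E u), ρ x = 1 ↔ (x : G) ∈ C_(E u) := fun x => by
    rw [← MonoidHom.mem_ker, Subgroup.normalizerMonoidHom_ker]; rfl
  have v2 : ∀ x ∈ ((T u).subgroupOf N_(E u)).map ρ, x * x = 1 := by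
    rintro _ ⟨t, ht, rfl⟩
    obtain ⟨a, b, c, r⟩ := h.memT.1 ht
    rw [← map_mul, ρ1, Subgroup.coe_mul, ← show u a b c = t from r, h.sq]
    exact Ece h (h.mE.2 rfl)
  haveI : IsMulCommutative (((T u).subgroupOf N_(E u)).map ρ) := abelian_iff.2 fun x hx => mem_cent.2 fun y hy => by
    rw [← inv_eq_of_mul_eq_one_right (v2 _ (mul_mem hy hx)), mul_inv_rev, inv_eq_of_mul_eq_one_right (v2 _ hx),
      inv_eq_of_mul_eq_one_right (v2 _ hy)]
  have key : (D.subgroupOf N_(E u)).map ρ ≤ ((N_(Z u)).subgroupOf N_(E u)).map ρ := by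
    refine H01.le_of_centralizer_le_of_not_isCyclic (A := ((T u).subgroupOf N_(E u)).map ρ) (fun hc => ?_) ?_ ?_ ?_
    · obtain ⟨g, hg⟩ := hc.exists_generator
      have g2 : g ^ (2 : ℤ) = 1 := by rw [zpow_two]; exact Subtype.ext (v2 g g.2)
      have k : ∀ b : F, b ≠ 0 → ρ ⟨u 0 b 0, h.TE (h.mT _ _ _)⟩ = g := fun b hb => by
        obtain ⟨n, hn⟩ := hg ⟨ρ ⟨u 0 b 0, h.TE (h.mT _ _ _)⟩, ⟨_, h.mT _ _ _, rfl⟩⟩
        obtain ⟨i, rfl | rfl⟩ := Int.even_or_odd' n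
        · simp only [zpow_mul, g2, one_zpow] at hn
          have := mem_cent.1 ((ρ1 _).1 (congrArg Subtype.val hn).symm) _ (h.mE.2 rfl : u 1 0 0 ∈ E u)
          exact (hb (by simpa using h.comm.1 this)).elim
        · simp only [zpow_add, zpow_mul, g2, one_zpow, one_mul, zpow_one] at hn
          exact (congrArg Subtype.val hn).symm
      obtain ⟨b, b0, b1⟩ : ∃ b : F, b ≠ 0 ∧ b ≠ 1 := by
        classical
        by_contra! n
        have : (Finset.univ : Finset F) ⊆ {0, 1} := fun b _ => by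
          by_cases r : b = 0 <;> simp [r, n]
        have := (Finset.card_le_card this).trans Finset.card_le_two
        rw [Finset.card_univ, h.c4] at this
        omega
      have := congrArg (fun φ : MulAut (E u) => ((φ ⟨u 1 0 0, h.mE.2 rfl⟩ : E u) : G)) ((k b b0).trans (k 1 one_ne_zero).symm)
      simp only [ρe, h.cj, h.eq] at this
      exact b1 (by simpa using this.2.2)
    · exact H26.le_normalizer_map ρ (le_norm_iff.2 fun t ht d hd => conj_mem_of_norm (K := D) (hT ht) hd)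
    · refine pg_coprime Nat.prime_two (pg_of_pow fun x hx => by rw [pow_two, v2 x hx]) fun k => ?_
      obtain ⟨_, ⟨y, hy, rfl⟩, o⟩ := H08.even_card_iff.1 (even_iff_two_dvd.2 k)
      have := (ρ1 y).2 (sqc h hS hD hy ((ρ1 (y ^ 2)).1 (by rw [map_pow, ← o, pow_orderOf_eq_one])))
      rw [this, orderOf_one] at o
      exact absurd o (by decide)
    · rintro _ ⟨t, ht, rfl⟩ t1 _ ⟨⟨y, hy, rfl⟩, c⟩
      refine ⟨y, mem_norm_of_cj_le fun x hx => ?_, rfl⟩
      obtain ⟨z, hz, rfl⟩ := mem_cj'.1 hx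
      refine h.cen ht (fun k => t1 ((ρ1 _).2 (Ece h k))) (conj_mem_of_norm y.2 (h.ZE hz)) ?_
      have := congrArg (fun φ : MulAut (E u) => ((φ ⟨z, h.ZE hz⟩ : E u) : G)) (mem_cent1.1 c)
      simp only [MulAut.mul_apply, ρe] at this
      rw [h.Zc (y := (t : G)) hz ht, mul_inv_cancel_right, eq_mul_inv_iff_mul_eq] at this
      exact this.symm
  refine fun y hy => mem_norm_of_cj_le fun x hx => ?_
  obtain ⟨z, hz, rfl⟩ := mem_cj'.1 hx
  obtain ⟨n, hn, r⟩ := key ⟨⟨y, hD hy⟩, hy, rfl⟩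
  have := congrArg (fun φ : MulAut (E u) => ((φ ⟨z, h.ZE hz⟩ : E u) : G)) r
  simp only [ρe] at this
  exact this ▸ conj_mem_of_norm hn hz

/-- semiregular action on `E` -/
theorem sr (h : Hs u) {K : Subgroup G} [K.Normal] (hS : IsSylowIn 2 (E u) K) {y e : G} (hy : y ∈ K ⊓ N_(E u)) (he : e ∈ E u)
    (e1 : e ≠ 1) (c : y * e = e * y) : y ∈ C_(E u) := by
  have hS' : IsSylowIn 2 (E u) (K ⊓ N_(E u)) := hS.sub (le_inf hS.le (le_norm _)) inf_le_left
  have yZ : y ∈ N_(Z u) := nZ h hS' inf_le_right (norm_inf (by rw [Subgroup.normalizer_eq_top]; exact le_top) (norm_norm h.TE)) hy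
  have cm : ∀ t ∈ T u, ∀ x ∈ E u, y * (t * x * t⁻¹) * y⁻¹ = t * (y * x * y⁻¹) * t⁻¹ := fun t ht x hx => by
    obtain ⟨t', t1, t2⟩ := h.nT hy.2 yZ ht
    have k1 : y * t * y⁻¹ * t⁻¹ ∈ K ⊓ N_(E u) := ⟨by
      simpa [mul_assoc] using K.mul_mem hy.1 (Subgroup.Normal.conj_mem inferInstance _ (K.inv_mem hy.1) t),
      (N_(E u)).mul_mem ((N_(E u)).mul_mem ((N_(E u)).mul_mem hy.2 (h.TE ht)) ((N_(E u)).inv_mem hy.2)) ((N_(E u)).inv_mem (h.TE ht))⟩
    have k2 : ∀ x ∈ E u, y * t * y⁻¹ * t⁻¹ * x * (y * t * y⁻¹ * t⁻¹)⁻¹ = t' * t⁻¹ * x * (t' * t⁻¹)⁻¹ := fun x hx => by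
      have := t2 _ (h.nE ((T u).inv_mem ht) hx)
      calc _ = y * t * y⁻¹ * (t⁻¹ * x * t⁻¹⁻¹) * (y * t * y⁻¹)⁻¹ := by group
        _ = _ := by rw [this]; group
    have k3 := sqc h hS' inf_le_right k1 (mem_cent.2 fun x hx => by
      have s := (T u).mul_mem t1 ((T u).inv_mem ht)
      have := St.bot.1 (St.sq (fun b hb => h.E2 (h.ZE hb)) (h.TSt s).1 (h.TSt s).2) x hx
      generalize y * t * y⁻¹ * t⁻¹ = k at k2 ⊢
      generalize t' * t⁻¹ = s' at k2 s this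
      rw [eq_comm, ← mul_inv_eq_iff_eq_mul]
      calc _ = k * (k * x * k⁻¹) * k⁻¹ := by rw [pow_two]; group
        _ = s' * (s' * x * s'⁻¹) * s'⁻¹ := by rw [k2 x hx, k2 _ (h.nE s hx)]
        _ = s' ^ 2 * x * (s' ^ 2)⁻¹ := by rw [pow_two]; group
        _ = _ := this)
    have := mem_cent.1 k3 _ (h.nE ht (conj_mem_of_norm hy.2 hx))
    calc _ = y * t * y⁻¹ * t⁻¹ * (t * (y * x * y⁻¹) * t⁻¹) * (y * t * y⁻¹ * t⁻¹)⁻¹ := by group
      _ = _ := by rw [← this]; group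
  obtain ⟨z, hz, z1, cz⟩ : ∃ z ∈ Z u, z ≠ 1 ∧ y * z * y⁻¹ = z := by
    have c' : y * e * y⁻¹ = e := mul_inv_eq_iff_eq_mul.2 c
    by_cases r : e ∈ Z u
    · exact ⟨e, r, e1, c'⟩
    · have hz : u 0 0 1 ∈ Z u := h.mZ.2 ⟨rfl, rfl⟩
      obtain ⟨t, t1, -, t2⟩ := h.cjZ he r hz
      have := cm t t1 e he
      rw [c', t2, ← conj_mul, c'] at this
      exact ⟨_, hz, fun k => one_ne_zero (h.eq1.1 k).2.2, mul_left_cancel this⟩
  have s1 : y ∈ St (E u) (Z u) := ⟨yZ, fun x hx => by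
    by_cases r : x ∈ Z u
    · exact (Z u).mul_mem ((Z u).inv_mem r) (conj_mem_of_norm yZ r)
    · obtain ⟨t, t1, t3, t2⟩ := h.cjZ hx r hz
      have := cm t t1 x hx
      rw [t2, ← conj_mul, cz] at this
      have w := conj_mem_of_norm hy.2 hx
      refine h.cen t1 (t3 z1) ((E u).mul_mem ((E u).inv_mem hx) w) (mul_inv_eq_iff_eq_mul.1 ?_)
      generalize y * x * y⁻¹ = x' at this w ⊢
      calc _ = (t * x * t⁻¹)⁻¹ * (t * x' * t⁻¹) := by group
        _ = z⁻¹ * (x⁻¹ * x' * z) := by rw [t2, ← this]; group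
        _ = _ := by rw [h.Ec ((E u).mul_mem ((E u).inv_mem hx) w) (h.ZE hz)]; group⟩
  have s2 : y ∈ St (Z u) ⊥ := St.bot.2 fun w hw => by
    have hx : u 1 0 0 ∈ E u := h.mE.2 rfl
    have r : u 1 0 0 ∉ Z u := fun k => one_ne_zero (h.mZ.1 k).1
    generalize u 1 0 0 = x at hx r
    obtain ⟨t, t1, -, t2⟩ := h.cjZ hx r hw
    have := cm t t1 x hx
    have q := s1.2 x hx
    have q' := h.Zc q t1
    have q'' := h.Ec (h.ZE q) (h.ZE hw)
    rw [t2, ← conj_mul] at this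
    generalize y * x * y⁻¹ = x' at this q q' q''
    apply mul_left_cancel (a := x')
    calc _ = t * x * t⁻¹ * (t * (x⁻¹ * x') * t⁻¹) := by rw [this]; group
      _ = x * (w * (x⁻¹ * x')) := by rw [t2, q']; group
      _ = _ := by rw [← q'']; group
  exact sqc h hS' inf_le_right hy (mem_cent.2 fun x hx =>
    (mul_inv_eq_iff_eq_mul.1 (St.bot.1 (St.sq (fun b hb => h.E2 (h.ZE hb)) s1 s2) x hx)).symm)

/-- the third clause of Goldschmidt's theorem S2775 -/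
def Gold : Prop := ∀ (G : Type u) [Group G] [Finite G] (S : Sylow 2 G) (A : Subgroup G), IsMulCommutative A →
  IsStronglyClosed A (S : Subgroup G) → ∀ K : Subgroup G, K = Subgroup.normalClosure (A : Set G) →
  ∀ (Q : Type u) [Group Q] (π : K →* Q), Function.Surjective π → π.ker = pPrimeCore 2 K →
    ∃ T : Sylow 2 Q, (A.subgroupOf K).map π ≤ (T : Subgroup Q) ∧
      (A.subgroupOf K).map π = pCore 2 Q ⊔ omegaOne 2 (T : Subgroup Q)

theorem d (hG : Gold.{u}) : DStmt.{u, v} := by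
  intro G _ _ F _ _ u h hO hn
  obtain ⟨S, hS⟩ := (sylT h).exists_sylow_top Nat.prime_two
  set K := Subgroup.normalClosure (E u : Set G) with hK
  have EK : E u ≤ K := Subgroup.le_normalClosure
  have nK : ∀ X : Subgroup G, X ≤ N_(K) := fun X => by rw [Subgroup.normalizer_eq_top]; exact le_top
  have O1 : H02.pPrimeCoreOf 2 K = ⊥ := eq_bot_iff.2 ((H02.pPrimeCoreOf_le_pPrimeCore K).trans hO.le)
  obtain ⟨R, R1, R2⟩ := hG G S (E u) (abelian_iff.2 (Ece h)) (hS.symm ▸ sc h hn) K hK K (MonoidHom.id K) Function.surjective_id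
    (by rw [H02.pPrimeCoreOf_eq_bot_iff.1 O1]; exact MonoidHom.ker_id)
  rw [Subgroup.map_id] at R1 R2
  have hR := isSylowIn_map Nat.prime_two R
  have R3 : ∀ x ∈ (R : Subgroup K).map K.subtype, x * x = 1 → x ∈ E u := by
    rintro _ ⟨x, hx, rfl⟩ x2
    exact (le_sup_right.trans R2.ge) (mem_omega hx (Subtype.ext (by rw [pow_two]; exact x2)))
  have hT : IsSylowIn 2 (T u ⊓ K) K := (sylT h).inf_normal le_top (nK _)
  obtain ⟨k, hk, e⟩ := sylow_trans Nat.prime_two hR hT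
  have kE : k ∈ N_(E u) := h.wc ((cj_mono k (Y := (R : Subgroup K).map K.subtype) fun x hx => ⟨⟨x, EK hx⟩, R1 hx, rfl⟩).trans (e.ge.trans inf_le_left))
  have R4 : ∀ x ∈ T u ⊓ K, x * x = 1 → x ∈ E u := fun x hx x2 => by
    rw [e] at hx
    obtain ⟨y, hy, rfl⟩ := mem_cj'.1 hx
    exact conj_mem_of_norm kE (R3 y hy (by rw [conj_mul] at x2; exact conj_eq_one_iff.1 x2))
  have hE : IsSylowIn 2 (E u) K := by
    rw [show E u = T u ⊓ K from le_antisymm (le_inf h.ET EK) fun x hx => by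
      obtain ⟨a, b, c, rfl⟩ := h.memT.1 hx.1
      have := R4 _ ((T u ⊓ K).mul_mem hx ⟨h.mT a 0 0, EK (h.mE.2 rfl)⟩) (by rw [h.mul, h.aa, h.sq, zero_mul, h.one])
      rw [h.mul, h.mE, add_zero] at this
      exact h.mE.2 this]
    exact hT
  have hS' : IsSylowIn 2 (E u) (K ⊓ N_(E u)) := hE.sub (le_inf hE.le (le_norm _)) inf_le_left
  have := absyl (Z := Z u) hE (Ece h) (fun _ => h.E2) (by rw [h.cardE]; norm_num)
    (fun W l n o => eq_bot_iff.2 ((H02.le_pPrimeCoreOf l n ((Nat.Prime.coprime_iff_not_dvd Nat.prime_two).2 o).symm).trans O1.le))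
    (fun y hy e he e1 c => sr h hE hy he e1 c) (nZ h hS' inf_le_right (norm_inf (nK _) (norm_norm h.TE)))
    (h.mZ.2 ⟨rfl, rfl⟩ : u 0 0 1 ∈ Z u) (h.mE.2 rfl) (fun k => one_ne_zero (h.eq1.1 k).2.2) (h.mE.2 rfl : u 1 0 0 ∈ E u)
    (fun k => one_ne_zero (h.mZ.1 k).1)
  exact H26.normal_of_top_le ((nK ⊤).trans (hE.norm_le this))

end H29.LD
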