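import Cfsg.Agent.BG.C1_17
import Cfsg.Agent.BG.Api4
import Cfsg.Agent.S0205
import Cfsg.Agent.S0217
import Cfsg.Agent.H08.StronglyEmbedded

/-! Elementary abelian Sylow 2-subgroups of rank at least 3 with semiregular automizer and two classes of involutions. -/

set_option autoImplicit false

namespace H29.LD
open BG Cfsg

universe u
variable {G : Type u} [Group G] [Finite G]

/-- fusion in an abelian Sylow subgroup -/
theorem fus {K E : Subgroup G} (hS : IsSylowIn 2 E K) (hc : E ≤ C_(E)) {x g : G} (hx : x ∈ E) (hg : g ∈ K)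
    (hy : g * x * g⁻¹ ∈ E) : ∃ n ∈ K ⊓ N_(E), n * x * n⁻¹ = g * x * g⁻¹ := by
  have h1 : IsSylowIn 2 E (K ⊓ C_[g * x * g⁻¹]) := hS.sub (le_inf hS.le (hc.trans (cent_le_cent1 hy))) inf_le_left
  have h2 : IsSylowIn 2 (cj g E) (K ⊓ C_[g * x * g⁻¹]) := (hS.cj_of_mem hg).sub (le_inf (hS.cj_of_mem hg).le
    (by rw [← cj_cent1]; exact cj_mono g (hc.trans (cent_le_cent1 hx)))) inf_le_left
  obtain ⟨c, hc', e⟩ := sylow_trans Nat.prime_two h2 h1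
  refine ⟨c * g, ⟨mul_mem hc'.1 hg, cj_eq_self_iff.1 (by rw [← cj_cj, ← e])⟩, ?_⟩
  have := mem_cent1.1 hc'.2
  calc c * g * x * (c * g)⁻¹ = c * (g * x * g⁻¹) * c⁻¹ := by group
    _ = _ := by rw [this]; group

theorem absyl {K E Z : Subgroup G} (hS : IsSylowIn 2 E K) (hc : E ≤ C_(E)) (h2 : ∀ x ∈ E, x * x = 1)
    (h8 : 2 ^ 3 ≤ Nat.card E) (hO : ∀ W ≤ K, K ≤ N_(W) → ¬ 2 ∣ Nat.card W → W = ⊥)
    (hsr : ∀ y ∈ K ⊓ N_(E), ∀ e ∈ E, e ≠ 1 → y * e = e * y → y ∈ C_(E))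
    (hN : K ⊓ N_(E) ≤ N_(Z)) {z e : G} (hz : z ∈ Z) (hzE : z ∈ E) (z1 : z ≠ 1) (he : e ∈ E) (heZ : e ∉ Z) :
    K ≤ N_(E) := by
  haveI : Fact (Nat.Prime 2) := ⟨Nat.prime_two⟩
  let θ : G → Subgroup G := fun a => piCoreOf {2}ᶜ (K ⊓ C_[a])
  have s1 : ∀ a ∈ E, IsSylowIn 2 E (K ⊓ C_[a]) := fun a ha =>
    hS.sub (le_inf hS.le (hc.trans (cent_le_cent1 ha))) inf_le_left
  have sd : ∀ a ∈ E, a ≠ 1 → Sdprod (θ a) E (K ⊓ C_[a]) := fun a ha a1 =>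
    T1_17.burnside (s1 a ha) fun y hy => hsr y ⟨hy.1.1, hy.2⟩ a ha a1 (mem_cent1.1 hy.1.2)
  have od : ∀ a, ¬ 2 ∣ Nat.card (θ a) := fun a => pcore_not_dvd Nat.prime_two _
  have tl : ∀ a, θ a ≤ K ⊓ C_[a] := fun a => pcore_le _ _
  obtain ⟨hW, -⟩ := Cfsg.Agent.S0217.result (p := 2) E (fun a ha b hb => (mem_cent.1 (hc hb) a ha))
    (fun a ha => by rw [pow_two, h2 a ha]) h8 θ (fun a _ _ => (tl a).trans inf_le_right) (fun a _ _ => od a)
    (fun a ha a1 b hb x hx => conj_mem_of_norm ((sd a ha a1).norm hb) hx)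
    (fun a _ _ => Cfsg.Agent.S0205.result (Nat.odd_iff.2 (Nat.two_dvd_ne_zero.1 (od a))))
    (fun a _ _ b hb b1 => ((sd b hb b1).hall_compl' (s1 b hb)).le_pcore_of_pcore
      ((pcore_isPi _ _).of_le inf_le_left) (inf_le_inf_right _ ((tl a).trans inf_le_left)))
  set W := ⨆ a : {a : G // a ∈ E ∧ a ≠ 1}, θ a with hWd
  have WK : W ≤ K := iSup_le fun a => (tl a).trans inf_le_left
  have tW : ∀ a ∈ E, a ≠ 1 → θ a ≤ W := fun a ha a1 => le_iSup (fun a : {a : G // a ∈ E ∧ a ≠ 1} => θ a) ⟨a, ha, a1⟩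
  have nW : K ⊓ N_(E) ≤ N_(W) := le_norm_of_cj_le fun n hn => by
    rw [cj_le_iff]
    refine iSup_le fun a => ?_
    rw [← cj_le_iff]
    have : cj n (θ a) = θ (n * a * n⁻¹) := by
      simp only [θ]; rw [← pcore_cj, cj_inf, cj_cent1, cj_of_mem hn.1]
    rw [this]
    exact tW _ (conj_mem_of_norm hn.2 a.2.1) (fun k => a.2.2 (conj_eq_one_iff.1 k))
  set M := W ⊔ (K ⊓ N_(E)) with hM
  have MK : M ≤ K := sup_le WK inf_le_left
  have EM : E ≤ M := le_sup_of_le_right (le_inf hS.le (le_norm E))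
  have CM : ∀ a ∈ E, a ≠ 1 → K ⊓ C_[a] ≤ M := fun a ha a1 =>
    (sd a ha a1).sup.symm.le.trans (sup_le (le_sup_of_le_left (tW a ha a1)) EM)
  have inE : ∀ t ∈ M, t * t = 1 → ∃ m ∈ M, m * t * m⁻¹ ∈ E := fun t ht t2 => by
    obtain ⟨m, hm, l⟩ := sylow_Jsub Nat.prime_two (hS.sub EM MK) (elemAb_zpowers (x := t) (p := 2) (by rw [pow_two, t2])).pg
      (Subgroup.zpowers_le.2 ht)
    exact ⟨m, hm, l (conj_mem_cj m (Subgroup.mem_zpowers t))⟩
  have key : ∀ t ∈ M, t * t = 1 → t ≠ 1 → ∀ g ∈ K, g * t * g⁻¹ ∈ M → g ∈ M := fun t ht t2 t1 g hg hgt => by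
    obtain ⟨m, hm, a⟩ := inE t ht t2
    obtain ⟨m', hm', a'⟩ := inE _ hgt (by rw [conj_mul, t2]; group)
    have hh : m' * g * m⁻¹ ∈ K := mul_mem (mul_mem (MK hm') hg) (inv_mem (MK hm))
    obtain ⟨n, hn, r⟩ := fus hS hc a hh (by convert a' using 1; group)
    have : n⁻¹ * (m' * g * m⁻¹) ∈ M := CM _ a (fun k => t1 (conj_eq_one_iff.1 k)) ⟨K.mul_mem (K.inv_mem hn.1) hh, mem_cent1.2 (by
      calc _ = n⁻¹ * (m' * g * m⁻¹ * (m * t * m⁻¹) * (m' * g * m⁻¹)⁻¹) * (m' * g * m⁻¹) := by group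
        _ = _ := by rw [← r]; group)⟩
    have := mul_mem (mul_mem (inv_mem hm') (mul_mem ((le_sup_right : _ ≤ M) hn) this)) hm
    simpa [mul_assoc] using this
  have KM : K ≤ M := by
    by_contra hne
    have o : ∀ x ∈ E, x ≠ 1 → ∀ hx : x ∈ K, orderOf (⟨x, hx⟩ : K) = 2 := fun x hx x1 hx' =>
      orderOf_eq_prime (Subtype.ext (by simpa [pow_two] using h2 x hx)) (fun k => x1 (congrArg Subtype.val k))
    have se : IsStronglyEmbedded (M.subgroupOf K) := H08.isStronglyEmbedded_iff.2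
      ⟨fun k => hne (Subgroup.subgroupOf_eq_top.1 k), ⟨⟨z, hS.le hzE⟩, EM hzE, o z hzE z1 _⟩, fun t ht t2 g hg =>
        key t ht (by have := pow_orderOf_eq_one t; rw [t2, pow_two] at this; exact congrArg Subtype.val this)
          (fun k => by rw [show t = 1 from Subtype.ext k, orderOf_one] at t2; exact absurd t2 (by decide)) g g.2 hg⟩
    obtain ⟨g, hg⟩ := isConj_iff.1 (H08.SE.isConj se (o z hzE z1 (hS.le hzE)) (o e he (fun k => heZ (k ▸ one_mem Z)) (hS.le he)))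
    have hg' : (g : G) * z * (g : G)⁻¹ = e := congrArg Subtype.val hg
    obtain ⟨n, hn, r⟩ := fus hS hc hzE g.2 (hg' ▸ he)
    exact heZ (hg' ▸ r ▸ conj_mem_of_norm (hN hn) hz)
  have W0 : W = ⊥ := hO W WK (KM.trans (sup_le_norm_left nW)) hW
  exact (KM.trans (by rw [hM, W0, bot_sup_eq])).trans inf_le_right

end H29.LD
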