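import Mathlib
import Cfsg.Agent.H29.RI2

/-!
# Root involutions III (helper29)

`RI.RK1.fld` (automorphisms of a rank one configuration act semilinearly), `RI.ps` (common neighbours for odd transpositions).
-/

set_option autoImplicit false
set_option linter.unusedSectionVars false

open Cfsg Subgroup H12.RI H02.Suz Relation MulAction

namespace H29.RI

universe u

variable {G : Type u} [Group G] {D : Set G}

theorem aut_comm {F : Type*} [Field F] [Fintype F] [CharP F 2] (σ τ : F ≃+* F) : σ * τ = τ * σ := by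
  obtain ⟨i, rfl⟩ := H02.Hig.exists_Fr_pow σ
  obtain ⟨j, rfl⟩ := H02.Hig.exists_Fr_pow τ
  rw [← pow_add, ← pow_add, add_comm]

theorem aut_inv {F : Type*} [Field F] [Fintype F] [CharP F 2] {σ τ : F ≃+* F} (h1 : σ * σ = 1) (h2 : τ * τ = 1) (h3 : σ ≠ 1)
    (h4 : τ ≠ 1) : σ = τ := by
  classical
  have : IsCyclic (F ≃+* F) := ⟨H02.Hig.Fr F, fun σ => by
    obtain ⟨i, rfl⟩ := H02.Hig.exists_Fr_pow σ
    exact ⟨i, zpow_natCast _ _⟩⟩
  have := Fintype.ofFinite (F ≃+* F)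
  by_contra h
  have h5 := IsCyclic.card_pow_eq_one_le (α := F ≃+* F) (n := 2) (by norm_num)
  have : ({1, σ, τ} : Finset (F ≃+* F)) ⊆ Finset.univ.filter fun a => a ^ 2 = 1 := by
    intro a ha
    simp only [Finset.mem_insert, Finset.mem_singleton] at ha
    rcases ha with rfl | rfl | rfl <;> simp [pow_two, h1, h2]
  have := Finset.card_le_card this
  rw [Finset.card_eq_three.2 ⟨_, _, _, h3.symm, h4.symm, h, rfl⟩] at this
  omega

namespace RK1

variable [Finite G] {X Ω : Type u} [Group X] [MulAction X Ω] {π : G →* X} {ω : Ω} {x : G} {Q : Subgroup X}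
  (R : RK1 D π ω x Q) (hD : IsRootInvolutionSet D)
include R hD

theorem mv {d e g : G} (hd : d ∈ D) (he : e ∈ D) {c c' : Ω} (h : π d • c = c) (h' : π e • c' = c') :
    π g • c = c' ↔ Commute (g * d * g⁻¹) e := by
  have k : π (g * d * g⁻¹) • π g • c = π g • c := by simp [mul_smul, h]
  exact ⟨fun e' => R.of_fix hD (hD.conj_mem d hd g) he k (e' ▸ h'),
    fun e' => R.pt_eq hD he (R.fix hD (hD.conj_mem d hd g) k e'.symm) h'⟩

theorem inv_lift {a : G} (ha : a ∈ D) {z : X} (h1 : z ≠ 1) (h2 : z * z = 1) : ∃ d ∈ D, π d = z := by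
  have := R.fin hD
  obtain ⟨g, e⟩ := R.r2.invol_conj (R.ne a ha) (R.s2 hD ha) h1 h2
  obtain ⟨g, rfl⟩ := R.surj g
  exact ⟨_, hD.conj_mem a ha g, by simpa using e⟩

theorem ker_iff {a : G} (ha : a ∈ D) {g : G} : π g = 1 ↔ ∀ d ∈ D, Commute (g * d * g⁻¹) d := by
  refine ⟨fun e d hd => R.comm _ (hD.conj_mem d hd g) d hd (by simp [e]), fun h => ?_⟩
  have := R.fa
  refine eq_of_smul_eq_smul (α := Ω) fun c => ?_
  obtain ⟨c', hc⟩ := R.pt hD ha
  obtain ⟨y, rfl⟩ := R.r2.trans c' c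
  obtain ⟨y, rfl⟩ := R.surj y
  have k : π (y * a * y⁻¹) • π y • c' = π y • c' := by simp [mul_smul, hc]
  rw [one_smul, R.mv hD (hD.conj_mem a ha y) (hD.conj_mem a ha y) k k]
  exact h _ (hD.conj_mem a ha y)

theorem Q0_of {a d : G} (ha : a ∈ D) (hω : π a • ω = ω) (hd : d ∈ D) (h : Commute d a) : π d ∈ Q0 Q :=
  have := R.fin hD
  R.r2.mem_Q0'.2 ⟨R.fix hD ha hω h, R.s2 hD hd⟩

theorem Q0_lift {a : G} (ha : a ∈ D) (hω : π a • ω = ω) {z : X} (hz : z ∈ Q0 Q) (h1 : z ≠ 1) :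
    ∃ d ∈ D, Commute d a ∧ π d = z := by
  have := R.fin hD
  obtain ⟨d, hd, rfl⟩ := R.inv_lift hD ha h1 (R.r2.Q0_sq hz)
  exact ⟨d, hd, R.of_fix hD hd ha (R.r2.mem_Q0'.1 hz).1 hω, rfl⟩

theorem fld {a : G} (ha : a ∈ D) (hω : π a • ω = ω) :
    ∃ (F : Type) (_ : Field F) (_ : Fintype F) (_ : CharP F 2) (p : G → F), p a = 1 ∧ (∀ d ∈ D, Commute d a → p d ≠ 0) ∧
      (∀ d ∈ D, Commute d a → ∀ e ∈ D, Commute e a → p d = p e → π d = π e) ∧
      (∀ c, c ≠ 0 → ∃ d ∈ D, Commute d a ∧ p d = c) ∧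
      ∀ α : G ≃* G, (∀ d ∈ D, α d ∈ D) → Commute (α a) a → Commute (α (x * a * x⁻¹)) (x * a * x⁻¹) →
        ∃ σ : F ≃+* F, ∀ d ∈ D, Commute d a → p (α d) = p (α a) * σ (p d) := by
  have := R.fin hD
  have S := R.r2
  obtain ⟨n, F, _, _, _, -, -, e2⟩ := S.exists_field
  have q0 := fun d => R.Q0_of hD (d := d) ha hω
  obtain ⟨k, l, p, h⟩ := S.exists_fld e2 (q0 a ha rfl) (R.ne a ha)
  refine ⟨F, inferInstance, inferInstance, inferInstance, fun g => p (π g), h.ps, fun d hd c e => R.ne d hd ((h.eq_zero (q0 d hd c)).1 e),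
    fun d hd c e he c' => h.inj (q0 d hd c) (q0 e he c'), fun c c0 => ?_, fun α h1 h2 h3 => ?_⟩
  · obtain ⟨z, hz, rfl⟩ := h.surj c
    obtain ⟨d, hd, c, rfl⟩ := R.Q0_lift hD ha hω hz fun e => c0 ((h.eq_zero hz).2 e)
    exact ⟨d, hd, c, rfl⟩
  have sj := ((Set.toFinite D).injOn_iff_bijOn_of_mapsTo h1).1 α.injective.injOn
  let β : X →* X := π.liftOfSurjective R.surj ⟨π.comp α.toMonoidHom, fun g hg => (R.ker_iff hD ha).2 fun d hd => by
    obtain ⟨d, hd', rfl⟩ := sj.surjOn hd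
    simpa using ((R.ker_iff hD ha).1 hg d hd').map α⟩
  have hβ : ∀ g, β (π g) = π (α g) := fun g => by simp [β]
  have hb := hD.conj_mem a ha x
  have hω' : π (x * a * x⁻¹) • π x • ω = π x • ω := by simp [mul_smul, hω]
  have m : ∀ {d e c c'}, d ∈ D → e ∈ D → π d • c = c → π e • c' = c' → Commute (α d) d → Commute (α e) e →
      ∀ y, y • c = c' → β y • c = c' := fun hd he k1 k2 k3 k4 y hy => by
    obtain ⟨y, rfl⟩ := R.surj y
    rw [hβ, R.mv hD (h1 _ hd) (h1 _ he) (R.fix hD hd k1 k3) (R.fix hD he k2 k4)]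
    simpa using ((R.mv hD hd he k1 k2).1 hy).map α
  have m1 := m ha ha hω hω h2 h2
  have m2 := m ha hb hω hω' h2 h3
  have hc : ∀ y ∈ Q0 Q, β y ∈ Q0 Q := fun y hy =>
    S.mem_Q0'.2 ⟨m1 y (S.mem_Q0'.1 hy).1, by rw [← map_mul, S.Q0_sq hy, map_one]⟩
  have hK : ∀ y ∈ KK ω (π x), β y ∈ KK ω (π x) := fun y hy => by
    have k1 := S.swap_mul_mem_K (m2 _ rfl) (by rw [← map_mul, S.tt, map_one])
    have k2 := S.swap_mul_mem_K (m2 (y * π x) (by rw [mul_smul, hy.1.2])) (by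
      rw [← map_mul, mul_assoc, ← mul_assoc (π x), S.tkt hy, mul_inv_cancel, map_one])
    simpa [mul_assoc] using S.K_mul k2 (S.K_inv k1)
  choose ι i1 i2 using h.surj
  have h3 : ∀ y ∈ Q0 Q, ι (p y) = y := fun y hy => h.inj (i1 _) hy (i2 _)
  have p0 : p (β (π a)) ≠ 0 := fun e => R.ne _ (h1 a ha) (hβ a ▸ (h.eq_zero (hc _ h.s0)).1 e)
  have h0 : p (β (ι 0)) = 0 := by rw [(h.eq_zero (i1 0)).1 (i2 0), map_one, h.co.add.one]
  let σ : F →+* F :=
    { toFun := fun c => p (β (ι c)) / p (β (π a))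
      map_one' := by rw [← h.ps, h3 _ h.s0, div_self p0, h.ps]
      map_zero' := by rw [h0, zero_div]
      map_add' := fun c d => by
        rw [← add_div, ← h.co.add _ (hc _ (i1 c)) _ (hc _ (i1 d)), h.inj (i1 (c + d)) (mul_mem (i1 c) (i1 d))
          (by rw [h.co.add _ (i1 c) _ (i1 d), i2, i2, i2]), map_mul]
      map_mul' := fun c d => by
        by_cases hc0 : c = 0
        · simp [hc0, h0]
        obtain ⟨y, hy, e⟩ := S.exists_K0 h.s0 h.s_ne (i1 c) fun e => hc0 (by rw [← i2 c, e, h.co.add.one])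
        have hy := S.K_inv hy
        rw [← inv_inv y] at e
        generalize y⁻¹ = y at *
        rw [inv_inv] at e
        have e1 : ι (c * d) = y * ι d * y⁻¹ := h.inj (i1 _) (S.Q0_conj hy.1.1 (i1 d)) (by rw [h.K_act S hy (i1 d), e, i2, i2, i2])
        rw [e1, ← e, map_mul, map_mul, map_mul, map_mul, map_inv, h.K_act S (hK y hy) (hc _ (i1 d)),
          h.K_act S (hK y hy) (hc _ h.s0)]
        field_simp }
  refine ⟨RingEquiv.ofBijective σ (Finite.injective_iff_bijective.1 σ.injective), fun d hd c => ?_⟩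
  rw [RingEquiv.ofBijective_apply]
  simp only [σ, RingHom.coe_mk, MonoidHom.coe_mk, OneHom.coe_mk, h3 _ (q0 d hd c), hβ] at p0 ⊢
  field_simp

end RK1

/-- the class of `x` under `Y` -/
def Orb (Y : Subgroup G) (x : G) : Set G := {z | ∃ g ∈ Y, z = g * x * g⁻¹}

theorem Orb.self (Y : Subgroup G) (x : G) : x ∈ Orb Y x := ⟨1, one_mem _, by simp⟩

theorem Orb.conj {Y : Subgroup G} {x z g : G} (hz : z ∈ Orb Y x) (hg : g ∈ Y) : g * z * g⁻¹ ∈ Orb Y x := by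
  obtain ⟨g', hg', rfl⟩ := hz
  exact ⟨g * g', mul_mem hg hg', by group⟩

theorem Orb.mem {Y : Subgroup G} {x z : G} (hx : x ∈ Y) (hz : z ∈ Orb Y x) : z ∈ Y := by
  obtain ⟨g, hg, rfl⟩ := hz
  exact mul_mem (mul_mem hg hx) (inv_mem hg)

theorem Orb.sub (hD : IsRootInvolutionSet D) {Y : Subgroup G} {x z : G} (hx : x ∈ D) (hz : z ∈ Orb Y x) : z ∈ D := by
  obtain ⟨g, -, rfl⟩ := hz
  exact hD.conj_mem x hx g

theorem Orb.od (hD : IsRootInvolutionSet D) {Y : Subgroup G} {x y z : G} (hx : x ∈ D) (hx' : x ∈ Y) (hy : y ∈ Orb Y x) (hz : z ∈ D)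
    (hz' : z ∈ Y) (o : Od y z) : z ∈ Orb Y x := by
  obtain ⟨g, hg, rfl⟩ := od_conj hD (Orb.sub hD hx hy) hz o (Orb.mem hx' hy) hz'
  exact Orb.conj hy hg

section OT

variable (hD : IsOddTranspositionSet D)
include hD

theorem subcl {T : Set G} {Y : Subgroup G} (hY : closure T = Y) {x : G} (hx : x ∈ D) (hx' : x ∈ Y) (h : T ⊆ Orb Y x) :
    IsOddTranspositionSet ((↑) ⁻¹' Orb Y x : Set Y) ∧ Cl ((↑) ⁻¹' Orb Y x : Set Y) := by
  refine ⟨⟨sub_root hD.1 (fun _ => Orb.sub hD.1 hx) (le_antisymm ((closure_le _).2 fun _ => Orb.mem hx') (hY.ge.trans (Subgroup.closure_mono h)))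
    (fun _ h _ => Orb.conj h) fun a ha b hb o e => absurd (cm_of hD (Orb.sub hD.1 hx ha) (Orb.sub hD.1 hx hb) o) e, fun a ha b hb => ?_⟩, ?_⟩
  · rw [← orderOf_coe]; exact hD.2 _ (Orb.sub hD.1 hx ha) _ (Orb.sub hD.1 hx hb)
  · rintro ⟨_, _⟩ ⟨g, hg, rfl⟩ ⟨_, _⟩ ⟨g', hg', rfl⟩
    exact ⟨⟨g' * g⁻¹, mul_mem hg' (inv_mem hg)⟩, Subtype.ext (by simp [mul_assoc])⟩

/-- case (ii) of the dichotomy holds at most once on a line -/
theorem two_ii {d b x y : G} (hd : d ∈ D) (hb : b ∈ productPartners D d) (hx : x ∈ D) (hy : y ∈ D) (o : Od d x) (yd : Commute y d)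
    (h1 : Commute x (y * d * x * (y * d))) (h2 : Commute x (y * b * x * (y * b))) : False := by
  have dE := E_self hd
  have bE := pp_E hD hd hb
  have pE := pp_E hD hd (partner_mul hD.1 hd hb)
  have y2 := sq hD.1 hy
  have k : ∀ e ∈ sameCommutingClass D d, Commute x (y * e * x * (y * e)) → Commute (y * x * y) (e * x * e) :=
    fun e he h => cm_cj y2 (by
      nth_rewrite 2 [(E_cm dE he hy yd).eq] at h
      simpa only [mul_assoc] using h)
  have e1 : d * b * (d * x * d) * (d * b) = b * x * b := by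
    nth_rewrite 1 [(E_ab dE bE).eq]; simp [mul_assoc, cancel hD.1 hd]
  have c := swp_comm (x := d * x * d) (g := y * x * y) (sq hD.1 pE.1)
    (by simpa only [fix_w (sq hD.1 hd) (E_ab dE pE)] using (od_w (sq hD.1 hd) (E_od hD hd pE hx o).symm).2)
    (Or.inl ⟨by rw [(k d dE h1).eq, mul_inv_cancel_right], by rw [e1, (k b bE h2).eq, mul_inv_cancel_right]⟩)
  have := cm_cj y2 (a := d * b) c.symm
  rw [fix_w y2 (E_cm dE pE hy yd)] at this
  exact not_comm hD.1 pE.1 hx (E_od hD hd pE hx o) this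

end OT

/-- common neighbours -/
def PS (D : Set G) : Prop := ∀ d ∈ D, ∀ e ∈ D, ∀ x ∈ D, Commute d e → Od d x → Od e x →
  ∃ p ∈ D, Commute p d ∧ Commute p e ∧ Commute p x

theorem ps_core [Finite G] (hD : IsOddTranspositionSet D) (hc : Cl D) (hl : Ln D)
    (ih : ∀ (Y : Subgroup G) (E : Set Y), Y ≠ ⊤ → IsOddTranspositionSet E → Cl E → Ln E → IsConnectedSet (CommAdj E) E → PS E)
    {d e x f : G} (hd : d ∈ D) (he : e ∈ D) (hx : x ∈ D) (hf : f ∈ D) (de : Commute d e) (dx : Od d x) (ex : Od e x)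
    (fe : Commute f e) (fx : Commute f x) : ∃ p ∈ D, Commute p d ∧ Commute p e ∧ Commute p x := by
  by_contra! np
  have fd : Od f d := od_of hD hf hd fun h => np f hf h fe fx
  obtain ⟨a, ha, b, hb, h1, h2⟩ : ∃ a ∈ sameCommutingClass D e, ∃ b ∈ productPartners D a,
      ¬ Commute x (d * a * x * (d * a)) ∧ ¬ Commute x (d * b * x * (d * b)) := by
    obtain ⟨b, hb⟩ := hl.at hD.1 hc he
    have hb' := partner_mul hD.1 he hb
    by_cases h1 : Commute x (d * e * x * (d * e))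
    · refine ⟨b, pp_E hD he hb, e * b, ?_, two_ii hD he hb hx hd ex de h1, two_ii hD he hb' hx hd ex de h1⟩
      exact hb.1.2.1 ▸ partner_mul hD.1 hb.1.1 (partner_symm hD.1 he hb)
    by_cases h2 : Commute x (d * b * x * (d * b))
    · refine ⟨e, E_self he, e * b, hb', h1, two_ii hD hb.1.1 ?_ hx hd (E_od hD he (pp_E hD he hb) hx ex)
        (E_cm (E_self he) (pp_E hD he hb) hd de) h2⟩
      exact hb.1.2.1 ▸ partner_mul hD.1 hb.1.1 (partner_symm hD.1 he hb)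
    · exact ⟨e, E_self he, b, hb, h1, h2⟩
  have eE := E_self he
  have bE := E_tr ha (pp_E hD ha.1 hb)
  have pE := E_tr ha (pp_E hD ha.1 (partner_mul hD.1 ha.1 hb))
  set Y := closure {d, a, b, x} with hY
  have md : d ∈ Y := subset_closure (by simp)
  have ma : a ∈ Y := subset_closure (by simp)
  have mb : b ∈ Y := subset_closure (by simp)
  have mx : x ∈ Y := subset_closure (by simp)
  have oE : ∀ c ∈ sameCommutingClass D e, c ∈ Y → c ∈ Orb Y x := fun c h h' =>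
    Orb.od hD.1 hx mx (Orb.self Y x) h.1 h' (E_od hD he h hx ex).symm
  have od := Orb.od hD.1 hx mx (Orb.self Y x) hd md dx.symm
  obtain ⟨k1, k2⟩ := subcl hD hY.symm hx mx (by
    rintro z (rfl | rfl | rfl | rfl)
    exacts [od, oE _ ha ma, oE _ bE mb, Orb.self _ _])
  have k : ∀ c ∈ sameCommutingClass D e, c ∈ Y → ¬ Commute x (d * c * x * (d * c)) → Y ≠ ⊤ ∧ ∃ ξ, ξ * ξ = 1 ∧ Commute x ξ ∧
      Commute a ξ ∧ ξ * d * ξ ∈ Y ∧ ξ ∈ normalizer (Y : Set G) ∧ ∀ y ∈ Y, Commute (ξ * d * ξ * (d * c)) y := fun c hc mc h => by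
    have dc := E_cm eE hc hd de
    obtain ⟨r, hr, c1, c2, c3, -, -, m⟩ := dich hD hd hc.1 hx dc rfl h
    have cY : ∀ y ∈ Y, Commute (r * (d * c)) y := fun y hy => cent_cl (by
      rintro z (rfl | rfl | rfl | rfl)
      exacts [c1.mul_left ((Commute.refl _).mul_left dc.symm),
        (E_cm hc ha hr c2).mul_left ((E_cm eE ha hd de).mul_left (E_ab hc ha)),
        (E_cm hc bE hr c2).mul_left ((E_cm eE bE hd de).mul_left (E_ab hc bE)), c3]) hy
    have fc := E_cm eE hc hf fe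
    have w2 := sq_cm (sq hD.1 hr) (sq hD.1 hd) c1
    have z2 := sq_cm (sq hD.1 hr) (sq_cm (sq hD.1 hd) (sq hD.1 hc.1) dc) (c1.mul_right c2)
    have e1 : r * (d * c) * f * (r * (d * c)) = r * d * f * (r * d) := by
      calc _ = r * d * (c * f) * (r * d * c) := by group
        _ = r * d * (c * f * c) * (r * d) := by rw [(c2.mul_left dc).eq]; group
        _ = _ := by rw [fix_w (sq hD.1 hc.1) fc.symm]
    have cx : Commute x (r * d * f * (r * d)) := by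
      simpa only [fix_w z2 c3, e1] using cm_w z2 fx.symm
    have ce : ∀ c' ∈ sameCommutingClass D e, Commute c' (r * d * f * (r * d)) := fun c' h => by
      have := ((E_cm hc h hr c2).mul_left (E_cm eE h hd de)).symm
      exact (this.mul_right (E_cm eE h hf fe).symm).mul_right this
    have cf : Commute f (r * d * f * (r * d)) := by_contra fun h => by
      obtain ⟨p, hp, -, p2, -, -, -, m⟩ := dich hD hr hd hf c1 rfl h
      exact np p hp p2 (mem_centralizer_singleton_iff.1 (m _ (mem_centralizer_singleton_iff.2 fe)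
        (mem_centralizer_singleton_iff.2 (ce e eE).symm))) (mem_centralizer_singleton_iff.1 (m _
          (mem_centralizer_singleton_iff.2 fx) (mem_centralizer_singleton_iff.2 cx.symm)))
    have hS : ∀ s ∈ ({f, x, a, b} : Set G), s ∈ D ∧ Commute s f := by
      rintro z (rfl | rfl | rfl | rfl)
      exacts [⟨hf, rfl⟩, ⟨hx, fx.symm⟩, ⟨ha.1, (E_cm eE ha hf fe).symm⟩, ⟨bE.1, (E_cm eE bE hf fe).symm⟩]
    obtain ⟨t, ht, rfl⟩ := bij hD (t := r) hf hd fd hS (by simp) ⟨hr, c1, by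
      rintro z (rfl | rfl | rfl | rfl)
      exacts [cf, cx, ce _ ha, ce _ bE]⟩
    obtain ⟨-, x2, xs⟩ := bij_step hD hf hd hS (by simp) ht
    have mr := m Y mx (mul_mem (mul_mem (mul_mem md mc) mx) (mul_mem md mc))
    refine ⟨fun h' => ?_, _, x2, xs x (by simp), xs a (by simp), mr, norm_cl ?_, cY⟩
    · have := (cY f (h' ▸ mem_top f)).mul_left fc.symm
      rw [mul_assoc _ (d * c), mul_assoc d c, sq hD.1 hc.1, mul_one] at this
      refine not_comm hD.1 hf hd fd (cd' hD hr hd hf c1 (fun e' => ?_) this.symm)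
      rw [e', cc (sq hD.1 hd)] at c3
      exact not_comm hD.1 hc.1 hx (E_od hD he hc hx ex) c3
    · rw [inv_eq_of_mul_eq_one_right x2]
      rintro z (rfl | rfl | rfl | rfl)
      · exact mr
      all_goals rw [fix_w x2 (xs _ (by simp)).symm]; assumption
  obtain ⟨ne, ξ, x2, xx, xa, xd, xn, xc⟩ := k a ha ma h1
  obtain ⟨-, η, y2, yx, ya, yd, yn, yc⟩ := k b bE mb h2
  have pp : (⟨b, mb⟩ : Y) ∈ productPartners ((↑) ⁻¹' Orb Y x) ⟨a, ma⟩ :=
    ⟨⟨oE b bE mb, Subtype.ext hb.1.2.1, fun e => hb.1.2.2 congr(($e).1)⟩,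
      show b * a ∈ Orb Y x from hb.1.2.1 ▸ oE _ pE (mul_mem ma mb)⟩
  have k3 := ln_of k1.1 (oE a ha ma) pp
  by_cases cn : IsConnectedSet (CommAdj ((↑) ⁻¹' Orb Y x : Set Y)) ((↑) ⁻¹' Orb Y x)
  · obtain ⟨p, hp, p1, p2, p3⟩ := ih Y _ ne k1 k2 k3 cn ⟨d, md⟩ od ⟨a, ma⟩ (oE a ha ma) ⟨x, mx⟩ (Orb.self _ _)
      (Subtype.ext (E_cm eE ha hd de)) (od_coe.1 dx) (od_coe.1 (E_od hD he ha hx ex))
    exact np p (Orb.sub hD.1 hx hp) congr(($p1).1) (E_cm ha eE (Orb.sub hD.1 hx hp) congr(($p2).1)) congr(($p3).1)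
  have nc : ¬ Cn ((↑) ⁻¹' Orb Y x : Set Y) ⟨a, ma⟩ ⟨x, mx⟩ := fun h => by
    rw [IsConnectedSet] at cn
    push Not at cn
    obtain ⟨u, hu, v, hv, cn⟩ := cn
    obtain ⟨_, _, _, _, R, -⟩ := rk k1.1 k3 hu hv cn
    have : ∀ y, Cn ((↑) ⁻¹' Orb Y x : Set Y) ⟨a, ma⟩ y → y ∈ ((↑) ⁻¹' Orb Y x : Set Y) ∧ Commute ⟨a, ma⟩ y := fun y h => by
      induction h with
      | refl => exact ⟨oE a ha ma, rfl⟩
      | tail _ h ih => exact ⟨h.2.1, R.tr k1.1 (oE a ha ma) h.1 h.2.1 ih.2 h.2.2.2⟩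
    exact not_comm hD.1 ha.1 hx (E_od hD he ha hx ex) congr(($((this _ h).2)).1)
  obtain ⟨_, _, _, _, R, hω⟩ := rk k1.1 k3 (oE a ha ma) (Orb.self _ _) nc
  obtain ⟨F, _, _, _, p, p1, p2, p3, p4, p5⟩ := R.fld k1.1 (oE a ha ma) hω
  have da : Commute (⟨d, md⟩ : Y) ⟨a, ma⟩ := Subtype.ext (E_cm eE ha hd de)
  have k' : ∀ ξ c, c ∈ Y → ξ * ξ = 1 → Commute x ξ → Commute a ξ → (h : ξ * d * ξ ∈ Y) → ξ ∈ normalizer (Y : Set G) →
      (∀ y ∈ Y, Commute (ξ * d * ξ * (d * c)) y) → ∃ σ : F ≃+* F, σ * σ = 1 ∧ ξ * d * ξ ∈ Orb Y x ∧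
        Commute (⟨_, h⟩ : Y) ⟨a, ma⟩ ∧ p ⟨_, h⟩ = σ (p ⟨d, md⟩) := fun ξ c mc x2 xx xa xd xn xc => by
    have xi := inv_eq_of_mul_eq_one_right x2
    let α := Y.normalizerMonoidHom ⟨ξ, xn⟩
    have hα : ∀ y, (α y : G) = ξ * y * ξ := fun y => by simp [α, xi]
    have αE : ∀ y : Y, (y : G) ∈ Orb Y x → (α y : G) ∈ Orb Y x := by
      rintro ⟨_, _⟩ ⟨g, hg, rfl⟩
      refine ⟨_, (α ⟨g, hg⟩).2, ?_⟩
      rw [hα, hα]
      nth_rewrite 2 [← fix_w x2 xx.symm]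
      simp [mul_assoc, xi, cc x2]
    have αa : α ⟨a, ma⟩ = ⟨a, ma⟩ := Subtype.ext (by rw [hα, fix_w x2 xa.symm])
    have αx : α ⟨x, mx⟩ = ⟨x, mx⟩ := Subtype.ext (by rw [hα, fix_w x2 xx.symm])
    have αd : α ⟨d, md⟩ = ⟨_, xd⟩ := Subtype.ext (hα _)
    obtain ⟨σ, hσ⟩ := p5 α αE (by rw [αa]; rfl) (by rw [map_mul, map_mul, map_inv, αa, αx]; rfl)
    rw [αa, p1] at hσ
    refine ⟨σ, RingEquiv.ext fun c => ?_, by simpa only [hα] using αE ⟨d, md⟩ od, by simpa only [αa, αd] using da.map α,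
      by rw [← αd, hσ _ od da, one_mul]⟩
    by_cases c0 : c = 0
    · simp [c0]
    obtain ⟨y, hy, cy, rfl⟩ := p4 c c0
    have := hσ _ (αE y hy) (by simpa only [αa] using cy.map α)
    rw [hσ y hy cy, one_mul, one_mul, show α (α y) = y from Subtype.ext (by simp [hα, mul_assoc, cc x2, x2])] at this
    exact this.symm
  obtain ⟨σ, s2, s3, s4, s5⟩ := k' ξ a ma x2 xx xa xd xn xc
  obtain ⟨τ, t2, t3, t4, t5⟩ := k' η b mb y2 yx ya yd yn yc
  set π := QuotientGroup.mk' (twoZCore Y)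
  have z : ∀ (r c : Y), (∀ y ∈ Y, Commute ((r : G) * (d * c)) y) → π r * (π ⟨d, md⟩ * π c) = 1 := fun r c h => by
    rw [← map_mul, ← map_mul, R.ker_iff k1.1 (a := ⟨d, md⟩) od]
    intro y _
    rw [show r * (⟨d, md⟩ * c) * y = y * (r * (⟨d, md⟩ * c)) from Subtype.ext (h y y.2), mul_inv_cancel_right]; rfl
  have z1 := z ⟨_, xd⟩ ⟨a, ma⟩ xc
  have z2 := z ⟨_, yd⟩ ⟨b, mb⟩ yc
  have n : ∀ (σ : F ≃+* F) (r c : Y), (c : G) ∈ Orb Y x → (r : G) ∈ Orb Y x → Commute r ⟨a, ma⟩ → p r = σ (p ⟨d, md⟩) →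
      π r * (π ⟨d, md⟩ * π c) = 1 → σ ≠ 1 := fun σ r c h1 h2 h3 h4 h5 e => by
    rw [p3 _ h2 h3 _ od da (by rw [h4, e, RingAut.one_apply]), cc (R.s2 k1.1 od)] at h5
    exact R.ne c h1 h5
  have := aut_inv s2 t2 (n σ _ _ (oE a ha ma) s3 s4 s5 z1) (n τ _ _ (oE b bE mb) t3 t4 t5 z2)
  rw [p3 _ s3 s4 _ t3 t4 (by rw [s5, t5, this]), ← z2, mul_right_inj, mul_right_inj] at z1
  exact R.ne _ pp.2 (by rw [map_mul, z1, R.s2 k1.1 pp.1.1])

theorem ps_aux (n : ℕ) : ∀ (G : Type u) [Group G] [Finite G] (D : Set G), Nat.card G < n → IsOddTranspositionSet D → Cl D →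
    Ln D → IsConnectedSet (CommAdj D) D → PS D := by
  induction n with
  | zero => intro _ _ _ _ h; omega
  | succ n ih => ?_
  intro G _ _ D hn hD hc hl cn d hd e he x hx de dx ex
  have core := @ps_core G _ D _ hD hc hl fun Y E hY => ih Y E (by
    obtain ⟨y, hy⟩ : ∃ y, y ∉ Y := by
      by_contra! h
      exact hY (eq_top_iff.2 fun y _ => h y)
    have := Finite.card_subtype_lt (p := fun z => z ∈ Y) hy
    omega)
  obtain ⟨f, hf, fe, fx⟩ : ∃ f ∈ D, Commute f e ∧ Commute f x := by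
    have := cn e he x hx
    clear hx dx ex
    induction this with
    | refl => exact ⟨e, he, rfl, rfl⟩
    | @tail y x _ h ih =>
      obtain ⟨f, hf, fe, fy⟩ := ih
      by_cases c1 : Commute e x
      · exact ⟨e, he, rfl, c1⟩
      by_cases c2 : Commute f x
      · exact ⟨f, hf, fe, c2⟩
      obtain ⟨p, hp, p1, -, p2⟩ := core he hf h.2.1 h.1 fe.symm (od_of hD he h.2.1 c1) (od_of hD hf h.2.1 c2) fy.symm h.2.2.2
      exact ⟨p, hp, p1, p2⟩
  exact core hd he hx hf de dx ex fe fx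

theorem ps [Finite G] (hD : IsOddTranspositionSet D) (hc : Cl D) (hl : Ln D) (cn : IsConnectedSet (CommAdj D) D) : PS D :=
  ps_aux _ G D (Nat.lt_succ_self _) hD hc hl cn

end H29.RI
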