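import Mathlib
import Cfsg.Agent.H29.RI3
import Cfsg.Agent.H03.Focal

/-!
# Root involutions IV (helper29)

Odd transpositions in simple groups: `RI.SG.grp` (`E_d ∪ 1` is a group), `RI.SG.cent` (`O_2⟨E_d, x⟩` is central), `RI.SG.l2`.
-/

set_option autoImplicit false
set_option linter.unusedSectionVars false

open Cfsg Subgroup H12.RI H02.Suz Relation MulAction
open scoped MatrixGroups

namespace H29.RI

universe u

variable {G : Type u} [Group G] {D : Set G}

/-- the group `⟨E_d, x⟩` -/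
abbrev XX (D : Set G) (d x : G) : Subgroup G := closure (sameCommutingClass D d ∪ {x})

theorem XX_E {d x e : G} (he : e ∈ sameCommutingClass D d) : e ∈ XX D d x := subset_closure (Or.inl he)
theorem XX_x (d x : G) : x ∈ XX D d x := subset_closure (Or.inr rfl)
theorem XX_V {d x z : G} (hz : z ∈ closure (sameCommutingClass D d)) : z ∈ XX D d x :=
  Subgroup.closure_mono Set.subset_union_left hz

theorem XX_cent {d x p g : G} (hd : d ∈ D) (hp : p ∈ D) (h1 : Commute p d) (h2 : Commute p x) (hg : g ∈ XX D d x) :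
    Commute p g := cent_cl (by rintro z (hz | rfl); exacts [E_cm (E_self hd) hz hp h1, h2]) hg

theorem E_eq {d e : G} (he : e ∈ sameCommutingClass D d) : sameCommutingClass D e = sameCommutingClass D d := by
  unfold sameCommutingClass; rw [he.2]

/-- the rank one configuration on `X / O_2(X)` -/
structure XQ (D : Set G) (d x : G) {Ω : Type u} [MulAction (XX D d x ⧸ pCore 2 (XX D d x)) Ω] (ω : Ω)
    (Q : Subgroup (XX D d x ⧸ pCore 2 (XX D d x))) : Prop where
  r2 : R2 ω ((⟨x, XX_x d x⟩ : XX D d x) : XX D d x ⧸ pCore 2 (XX D d x)) Q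
  fa : FaithfulSMul (XX D d x ⧸ pCore 2 (XX D d x)) Ω
  simple : IsSimpleGroup (XX D d x ⧸ pCore 2 (XX D d x))
  cs : (∀ z ∈ Q, z * z = 1) ∨ ∃ s r, SR Q ((⟨x, XX_x d x⟩ : XX D d x) : XX D d x ⧸ pCore 2 (XX D d x)) s r ∧
    Nat.card Q = Nat.card (Q0 Q) ^ 2 ∧ NC Q ∧ r * r = s
  q0 : ∀ z : XX D d x, (z : G) ∈ sameCommutingClass D d →
    (z : XX D d x ⧸ pCore 2 (XX D d x)) ∈ Q0 Q ∧ (z : XX D d x ⧸ pCore 2 (XX D d x)) ≠ 1
  lift : ∀ y ∈ Q0 Q, y ≠ 1 → ∃ z : XX D d x, (z : G) ∈ sameCommutingClass D d ∧ (z : XX D d x ⧸ pCore 2 (XX D d x)) = y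
  cm : ∀ y z : XX D d x, (y : G) ∈ D → (z : G) ∈ D → Commute (y : XX D d x ⧸ pCore 2 (XX D d x)) z → Commute (y : G) z

section OT

variable [Finite G] (hD : IsOddTranspositionSet D) (hc : Cl D) (hl : Ln D)
include hD hc hl

theorem key' {d x t : G} (hd : d ∈ D) (hx : x ∈ D) (o : Od d x) (ht : t ∈ D) (htX : t ∈ XX D d x) (td : Commute t d) :
    t ∈ sameCommutingClass D d :=
  let ⟨_, hb⟩ := hl.at hD.1 hc hd
  key hD hc hd hx o hb ht htX td

theorem xql {d x : G} (hd : d ∈ D) (hx : x ∈ D) (o : Od d x) :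
    ∃ (Ω : Type u) (_ : MulAction (XX D d x ⧸ pCore 2 (XX D d x)) Ω) (ω : Ω) (Q : Subgroup _), XQ D d x ω Q := by
  obtain ⟨D', d', x', e1, e2, h1, h2, h3, h4, h5, h6, h7, h8, h9⟩ := xq hD hd hx o rfl
  obtain rfl : d' = ⟨d, XX_E (E_self hd)⟩ := Subtype.ext e1
  obtain rfl : x' = ⟨x, XX_x d x⟩ := Subtype.ext e2
  obtain ⟨b, hb⟩ := hl.at hD.1 hc hd
  have bE := pp_E hD hd hb
  have pE := pp_E hD hd (partner_mul hD.1 hd hb)
  have k1 := h8 ⟨_, XX_E bE⟩ bE
  have k2 := (h8 ⟨_, XX_E pE⟩ pE).1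
  obtain ⟨Ω, _, ω, Q, S⟩ := xs h1 h2 H26.pCore_quotient_pCore
    ⟨_, k2, _, h3, _, k1.1, E_ab (E_self h3) k1, ne_one h1.1 k2, rfl⟩ h3 h4 h5 h6
  refine ⟨Ω, _, ω, Q, S.r2, S.fa, S.simple, S.cs, fun z hz => ⟨(S.mem _).2 (Or.inr (h8 z hz)), ne_one h1.1 (h8 z hz).1⟩,
    fun y hy y1 => ?_, h9⟩
  have := ((S.mem y).1 hy).resolve_left y1
  obtain ⟨z, hz, rfl⟩ := h7 y this.1
  exact ⟨z, key' hD hc hl hd hx o hz z.2 (h9 z _ hz hd (E_ab this (E_self h3))), rfl⟩

theorem zv {a v z t : G} (ha : a ∈ D) (hv : v ∈ D) (o : Od a v) (hz : z ∈ closure (sameCommutingClass D a)) (ht : t ∈ D)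
    (tX : t ∈ XX D a v) (tz : Commute t z) (h : ¬ Commute v (z * v * z⁻¹)) : t ∈ sameCommutingClass D a := by
  obtain ⟨Ω, _, ω, Q, S⟩ := xql hD hc hl ha hv o
  have k : ∀ z (hz : z ∈ closure (sameCommutingClass D a)),
      ((⟨z, XX_V hz⟩ : XX D a v) : XX D a v ⧸ pCore 2 (XX D a v)) ∈ Q0 Q := fun z hz => by
    induction hz using closure_induction with
    | mem e he => exact (S.q0 _ he).1
    | one => exact one_mem _
    | mul _ _ _ _ h h' => exact mul_mem h h'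
    | inv _ _ h => exact inv_mem h
  have k1 := k z hz
  have z1 : ((⟨z, XX_V hz⟩ : XX D a v) : XX D a v ⧸ pCore 2 (XX D a v)) ≠ 1 := fun e =>
    h (S.cm ⟨v, XX_x a v⟩ (⟨z, XX_V hz⟩ * ⟨v, XX_x a v⟩ * ⟨z, XX_V hz⟩⁻¹) hv (hD.1.conj_mem v hv z) (by
      rw [QuotientGroup.mk_mul, QuotientGroup.mk_mul, QuotientGroup.mk_inv, e]; simp))
  refine key' hD hc hl ha hv o ht tX (S.cm ⟨t, tX⟩ ⟨a, XX_E (E_self ha)⟩ ht ha
    (S.r2.Q0_comm (S.r2.mem_Q0'.2 ⟨S.r2.cent_le (Q0_le _ k1) z1 ?_, ?_⟩) (Q0_le _ (S.q0 _ (E_self ha)).1)))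
  · exact (show Commute (⟨t, tX⟩ : XX D a v) ⟨z, XX_V hz⟩ from Subtype.ext tz).map (QuotientGroup.mk' _)
  · rw [← QuotientGroup.mk_mul, show (⟨t, tX⟩ : XX D a v) * ⟨t, tX⟩ = 1 from Subtype.ext (sq hD.1 ht), QuotientGroup.mk_one]

omit hc hl in
theorem XX_symm {a x : G} (ha : a ∈ D) (hx : x ∈ D) (o : Od a x) : XX D a x ≤ XX D x a := by
  obtain ⟨u, hu, e, -, m⟩ := swp hD.1 hx ha o.symm
  have mu := m _ (XX_E (E_self hx)) (XX_x (D := D) x a)
  refine (closure_le _).2 ?_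
  rintro z (hz | rfl)
  · have := E_conj hD.1 hz u
    rw [← e, inv hD.1 hu] at this
    simp only [mul_assoc, cancel hD.1 hu, sq hD.1 hu, mul_one] at this
    simpa [mul_assoc, cancel hD.1 hu, sq hD.1 hu] using mul_mem (mul_mem mu (XX_E this)) mu
  · exact XX_E (E_self hx)

end OT

/-- a connected class of odd transpositions with lines in a simple group -/
structure SG (D : Set G) : Prop where
  ot : IsOddTranspositionSet D
  cl : Cl D
  ln : Ln D
  cn : IsConnectedSet (CommAdj D) D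
  simple : IsSimpleGroup G
  od : ∃ a ∈ D, ∃ b ∈ D, Od a b

namespace SG

variable [Finite G] (S : SG D)
include S

theorem k0 {z : G} (h : ∀ v ∈ D, z * v * z⁻¹ ∈ sameCommutingClass D v) : z = 1 := by
  have hD := S.ot.1
  let K : Subgroup G :=
    { carrier := {z | ∀ v ∈ D, z * v * z⁻¹ ∈ sameCommutingClass D v}
      one_mem' := fun v hv => by simpa using E_self hv
      mul_mem' := fun {a b} ha hb v hv => E_tr (hb v hv) (by simpa [mul_assoc] using ha _ (hb v hv).1)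
      inv_mem' := fun {a} ha v hv => E_symm (hD.conj_mem v hv a⁻¹) (by simpa [mul_assoc] using ha _ (hD.conj_mem v hv a⁻¹)) }
  have : K.Normal := ⟨fun n hn g v hv => by simpa [mul_assoc] using E_conj hD (hn _ (hD.conj_mem v hv g⁻¹)) g⟩
  have := S.simple
  refine mem_bot.1 (((inferInstance : K.Normal).eq_bot_or_eq_top.resolve_right fun e => ?_) ▸ h)
  obtain ⟨a, ha, b, hb, o⟩ := S.od
  obtain ⟨g, rfl⟩ := S.cl a ha b hb
  exact not_comm hD ha hb o (E_ab (E_self ha) ((e ▸ mem_top g : g ∈ K) a ha))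

theorem z1 {z : G} (h : ∀ v ∈ D, Commute z v) : z = 1 := S.k0 fun v hv => by
  rw [(h v hv).eq, mul_inv_cancel_right]; exact E_self hv

theorem k1 {a z : G} (ha : a ∈ D) (hz : z ∈ closure (sameCommutingClass D a))
    (h : ∀ v ∈ D, Od a v → Commute v (z * v * z⁻¹)) : z = 1 := S.k0 fun v hv => by
  by_cases o : Od a v
  · exact key' S.ot S.cl S.ln hv ha o.symm (S.ot.1.conj_mem v hv z)
      (XX_symm S.ot ha hv o (mul_mem (mul_mem (XX_V hz) (XX_x a v)) (inv_mem (XX_V hz)))) (h v hv o).symm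
  · rw [← (cent_cl (fun y hy => E_cm (E_self ha) hy hv (cm_of S.ot ha hv o).symm) hz).eq, mul_inv_cancel_right]
    exact E_self hv

theorem grp {a b : G} (ha : a ∈ D) (hb : b ∈ sameCommutingClass D a) (ne : a ≠ b) : a * b ∈ sameCommutingClass D a := by
  have hD := S.ot
  have aE := E_self ha
  have ab := E_ab aE hb
  have w2 := sq_cm (sq hD.1 ha) (sq hD.1 hb.1) ab
  have wi := inv_eq_of_mul_eq_one_right w2
  have mw : a * b ∈ closure (sameCommutingClass D a) := mul_mem (subset_closure aE) (subset_closure hb)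
  suffices a * b ∈ D from pp_E hD ha (partner_mul hD.1 ha ⟨⟨hb.1, ab.symm, ne.symm⟩, ab.eq ▸ this⟩)
  by_contra hw
  obtain ⟨x, hx, o, h⟩ : ∃ x ∈ D, Od a x ∧ ¬ Commute x (a * b * x * (a * b)) := by
    by_contra! h
    exact ne ((inv hD.1 ha).symm.trans (inv_eq_of_mul_eq_one_right (S.k1 ha mw (wi.symm ▸ h))))
  obtain ⟨r, hr, c1, c2, c3, -, -, m⟩ := dich hD ha hb.1 hx ab rfl h
  have rE := key' hD S.cl S.ln ha hx o hr (m _ (XX_x a x) (mul_mem (mul_mem (XX_V mw) (XX_x a x)) (XX_V mw))) c1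
  have mz : r * (a * b) ∈ closure (sameCommutingClass D a) := mul_mem (subset_closure rE) mw
  have z2 := sq_cm (sq hD.1 hr) w2 (c1.mul_right c2)
  have zi := inv_eq_of_mul_eq_one_right z2
  have za : Commute (r * (a * b)) a := c1.mul_left ((Commute.refl a).mul_left ab.symm)
  have ne : r * (a * b) ≠ 1 := fun e => hw ((inv_eq_of_mul_eq_one_right e).symm.trans (inv hD.1 hr) ▸ hr)
  generalize r * (a * b) = z at *
  have mz' : z ∈ closure (sameCommutingClass D x) := by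
    obtain ⟨u, hu, e, -, m⟩ := swp hD.1 ha hx o
    have c := m (centralizer {z}) (mem_centralizer_singleton_iff.2 za.symm) (mem_centralizer_singleton_iff.2 c3.symm)
    have := (closure_le ((closure (sameCommutingClass D x)).comap (MulAut.conj u).toMonoidHom)).2
      (fun y hy => subset_closure (by simpa [inv hD.1 hu, e] using E_conj hD.1 hy u)) mz
    simpa [mem_centralizer_singleton_iff.1 c] using this
  refine ne (S.k1 ha mz fun v hv ov => by_contra fun h => ?_)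
  have ox : Od x v := od_of hD hx hv fun c => h (by
    rw [← (cent_cl (fun y hy => E_cm (E_self hx) hy hv (Commute.symm c)) mz').eq, mul_inv_cancel_right])
  obtain ⟨s, hs, e, o', m⟩ := swp hD.1 hv (hD.1.conj_mem v hv z) (od_of hD hv (hD.1.conj_mem v hv z) h)
  have c : Commute s z := (swp_comm (sq hD.1 hs) o' (g := z) (Or.inr ⟨e.symm, by simp [e, zi, mul_assoc, cc z2, z2]⟩)).symm
  have k := fun {y} (hy : y ∈ D) oy (my : z ∈ closure (sameCommutingClass D y)) => zv hD S.cl S.ln hy hv oy my hs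
    (m _ (XX_x y v) (mul_mem (mul_mem (XX_V my) (XX_x y v)) (inv_mem (XX_V my)))) c h
  exact not_comm hD.1 hx ha o.symm (E_cm (k ha ov mz) aE hx (E_ab (E_self hx) (k hx ox mz')))

theorem mem_V {d z : G} : z ∈ closure (sameCommutingClass D d) ↔ z ∈ sameCommutingClass D d ∨ z = 1 := by
  refine ⟨fun h => ?_, fun h => h.elim (subset_closure ·) (· ▸ one_mem _)⟩
  induction h using closure_induction with
  | mem e he => exact Or.inl he
  | one => exact Or.inr rfl
  | mul a b _ _ h h' =>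
    rcases h with h | rfl
    · rcases h' with h' | rfl
      · by_cases e : a = b
        · exact Or.inr (e ▸ sq S.ot.1 h.1)
        · exact Or.inl (E_tr h (S.grp h.1 (E_eq h ▸ h') e))
      · exact Or.inl (by rwa [mul_one])
    · rwa [one_mul]
  | inv a _ h => exact h.imp (fun h => by rwa [inv S.ot.1 h.1]) inv_eq_one.2

variable {d x : G} (hd : d ∈ D) (hx : x ∈ D) (o : Od d x) {Ω : Type u} [MulAction (XX D d x ⧸ pCore 2 (XX D d x)) Ω] {ω : Ω}
  {Q : Subgroup (XX D d x ⧸ pCore 2 (XX D d x))} (T : XQ D d x ω Q)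
include hd hx o T

theorem cent {ρ : XX D d x} (hρ : ρ ∈ pCore 2 (XX D d x)) : ρ ∈ center (XX D d x) := by
  have hD := S.ot
  have k : ∀ ρ ∈ pCore 2 (XX D d x), ∀ e ∈ sameCommutingClass D d, Commute (ρ : G) e := fun ρ hρ e he => by
    have e1 : ((ρ * ⟨e, XX_E he⟩ * ρ⁻¹ : XX D d x) : XX D d x ⧸ pCore 2 (XX D d x)) = (⟨e, XX_E he⟩ : XX D d x) := by
      simp [(QuotientGroup.eq_one_iff ρ).2 hρ]
    have h1 := hD.1.conj_mem e he.1 ρ
    have h2 := key' hD S.cl S.ln hd hx o h1 (ρ * ⟨e, XX_E he⟩ * ρ⁻¹).2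
      (E_cm he (E_self hd) h1 (T.cm (ρ * ⟨e, XX_E he⟩ * ρ⁻¹) ⟨e, XX_E he⟩ h1 he.1 (e1 ▸ Commute.refl _)))
    refine mul_inv_eq_iff_eq_mul.1 (by_contra fun ne => ?_)
    refine (T.q0 (ρ * ⟨e, XX_E he⟩ * ρ⁻¹ * ⟨e, XX_E he⟩) (E_tr h2 (S.grp h1 (E_eq h2 ▸ he) ne))).2 ?_
    rw [QuotientGroup.mk_mul, e1, T.r2.Q0_sq (T.q0 _ he).1]
  refine mem_center_iff.2 fun g => Subtype.ext (cent_cl ?_ g.2).symm
  rintro z (hz | rfl)
  · exact k ρ hρ z hz
  obtain ⟨g, hg, e⟩ := od_conj hD.1 hd hx o (XX_E (E_self hd)) (XX_x (D := D) d z)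
  have := (k _ ((inferInstance : (pCore 2 (XX D d z)).Normal).conj_mem' ρ hρ ⟨g, hg⟩) d (E_self hd)).map (MulAut.conj g)
  simpa [mul_assoc, e] using this

theorem fib {y z : XX D d x} (hy : (y : G) ∈ D) (hz : (z : G) ∈ D) (e : (y : XX D d x ⧸ pCore 2 (XX D d x)) = z) : y = z := by
  have hD := S.ot
  have c := T.cm y z hy hz (e ▸ Commute.refl _)
  have := mem_center_iff.1 (S.cent hd hx o T (QuotientGroup.eq.1 e))
  rw [inv_eq_of_mul_eq_one_right (show y * y = 1 from Subtype.ext (sq hD.1 hy))] at this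
  refine Subtype.ext (by_contra fun ne => ?_)
  have c1 := cd hD hy hz hd c ne congr(($(this ⟨d, XX_E (E_self hd)⟩)).1)
  exact not_comm hD.1 hx hd o.symm (E_cm (key' hD S.cl S.ln hd hx o hy y.2 c1.symm) (E_self hd) hx
    (cd hD hy hz hx c ne congr(($(this ⟨x, XX_x d x⟩)).1)))

theorem l2 (h : ∀ z ∈ Q, z * z = 1) : ∃ (F : Type) (_ : Field F) (_ : Fintype F),
    Fintype.card F = Nat.card (closure (sameCommutingClass D d)) ∧ Nonempty (XX D d x ≃* PSL(2, F)) := by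
  have hD := S.ot
  set π := QuotientGroup.mk' (pCore 2 (XX D d x))
  have hO : pCore 2 (XX D d x) = ⊥ := eq_bot_iff.2 fun ρ hρ => by
    have dec : ∀ g ∈ Q.comap π, ∃ e : XX D d x, (e : G) ∈ closure (sameCommutingClass D d) ∧ e⁻¹ * g ∈ center (XX D d x) :=
      fun g hg => by
        by_cases g1 : π g = 1
        · exact ⟨1, one_mem _, by simpa using S.cent hd hx o T ((QuotientGroup.eq_one_iff g).1 g1)⟩
        · obtain ⟨e, he, e'⟩ := T.lift _ (mem_Q0_of hg (h _ hg)) g1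
          exact ⟨e, subset_closure he, S.cent hd hx o T (QuotientGroup.eq.1 e')⟩
    let _ : CommGroup (Q.comap π) := { (inferInstance : Group (Q.comap π)) with
      mul_comm := fun a b => Subtype.ext (by
        obtain ⟨e, he, h1⟩ := dec a a.2
        obtain ⟨e', he', h2⟩ := dec b b.2
        have c : Commute e e' := Subtype.ext (cent_cl (fun y hy => (cent_cl (fun z hz => E_ab hy hz) he).symm) he')
        have := (c.mul_right (mem_center_iff.1 h2 e)).mul_left (mem_center_iff.1 h1 _).symm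
        simpa using this.eq) }
    let τ := MonoidHom.transfer (MonoidHom.id (Q.comap π))
    have t1 : ∀ e (he : e ∈ sameCommutingClass D d), τ ⟨e, XX_E he⟩ = τ ⟨x, XX_x d x⟩ := fun e he => by
      obtain ⟨g, hg, e'⟩ := od_conj hD.1 hx he.1 (E_od hD hd he hx o).symm (XX_x (D := D) d x) (XX_E he)
      rw [show (⟨e, XX_E he⟩ : XX D d x) = ⟨g, hg⟩ * ⟨x, XX_x d x⟩ * ⟨g, hg⟩⁻¹ from Subtype.ext e', map_mul, map_mul, map_inv,
        mul_inv_cancel_comm]
    have t2 : τ ⟨x, XX_x d x⟩ = 1 := by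
      obtain ⟨b, hb⟩ := S.ln.at hD.1 S.cl hd
      have := t1 _ (pp_E hD hd (partner_mul hD.1 hd hb))
      rw [show (⟨d * b, _⟩ : XX D d x) = ⟨d, XX_E (E_self hd)⟩ * ⟨b, XX_E (pp_E hD hd hb)⟩ from rfl, map_mul,
        t1 _ (E_self hd), t1 _ (pp_E hD hd hb)] at this
      simpa using this
    have t3 : τ ρ = 1 := by
      have : closure ((↑) ⁻¹' (sameCommutingClass D d ∪ {x}) : Set (XX D d x)) ≤ τ.ker := (closure_le _).2 (by
        rintro ⟨z, _⟩ (hz | hz)
        exacts [(t1 z hz).trans t2, (congrArg τ (Subtype.ext (show z = x from hz))).trans t2])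
      rw [closure_closure_coe_preimage] at this
      exact this (mem_top ρ)
    have m : ρ ∈ Q.comap π := by rw [mem_comap, show π ρ = 1 from (QuotientGroup.eq_one_iff ρ).2 hρ]; exact one_mem _
    have := (H03.transfer_eq_pow_of_mem_center (MonoidHom.id (Q.comap π)) ⟨ρ, m⟩ (S.cent hd hx o T hρ)).symm.trans t3
    refine odd_two hρ ((index_comap_of_surjective Q (QuotientGroup.mk'_surjective _) ▸ T.r2.odd_index_Q).of_dvd_nat
      (orderOf_dvd_of_pow_eq_one congr(($this).1)))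
  have inj : Function.Injective π := (MonoidHom.ker_eq_bot_iff π).1 ((QuotientGroup.ker_mk' _).trans hO)
  have := T.fa
  have := T.simple
  obtain ⟨F, _, _, -, -, e, ⟨e'⟩⟩ := identA' T.r2 h
  refine ⟨F, _, _, e.trans ?_, ⟨(MulEquiv.ofBijective π ⟨inj, QuotientGroup.mk'_surjective _⟩).trans e'⟩⟩
  have : Q0 Q = ((closure (sameCommutingClass D d)).subgroupOf (XX D d x)).map π := by
    refine le_antisymm (fun y hy => ?_) ?_
    · by_cases y1 : y = 1
      · exact y1 ▸ one_mem _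
      · obtain ⟨z, hz, rfl⟩ := T.lift y hy y1
        exact ⟨z, subset_closure hz, rfl⟩
    · rintro _ ⟨z, hz, rfl⟩
      rcases S.mem_V.1 hz with h | h
      · exact (T.q0 z h).1
      · rw [show z = 1 from Subtype.ext h, map_one]; exact one_mem _
  rw [this, card_map_of_injective inj, Nat.card_congr (subgroupOfEquivOfLe fun _ => XX_V).toEquiv]

end SG

end H29.RI
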