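import Mathlib
import Cfsg.Agent.H29.RI4

/-!
# Root involutions V (helper29)

`RI.jj` (commutators of automorphisms of a rank one class), `RI.Bad` (Suzuki pairs), `RI.Loc` (their local structure).
-/

set_option autoImplicit false
set_option linter.unusedSectionVars false

open Cfsg Subgroup H12.RI H02.Suz Relation MulAction

namespace H29.RI

universe u

variable {G : Type u} [Group G] {D : Set G}

theorem two_mem {Ω : Type*} [Finite G] [MulAction G Ω] {ω : Ω} {t h : G} {Q : Subgroup G} (S : R2 ω t Q) (hh : h • ω = ω) {k : ℕ}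
    (hk : h ^ 2 ^ k = 1) : h ∈ Q := by
  obtain ⟨x, hx, d, hd, rfl⟩ := S.dec h hh
  have : ∀ n : ℕ, (x * d) ^ n * (d ^ n)⁻¹ ∈ Q := fun n => by
    induction n with
    | zero => simp
    | succ n ih => simpa [pow_succ', mul_assoc] using mul_mem hx (S.conjD hd ih)
  have := this (2 ^ k)
  rw [hk, one_mul] at this
  rwa [eq_one_of_odd (S.D_odd hd) (inv_eq_one.1 (S.eq_one_of_mem this (inv_mem (pow_mem hd _)))), mul_one]

theorem eq_of_cm (hD : IsRootInvolutionSet D) {s x : G} (hs : s ∈ D) (hx : x ∈ D) (o : Od s x)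
    (h : Commute (x * s * x) (s * x * s)) : x * s * x = s * x * s := by
  have e : x * s * x * (s * x * s) = (x * s) ^ 3 := by simp [pow_succ, mul_assoc]
  have := eq_one_of_odd (k := 1) (o.symm.2.of_dvd_nat (orderOf_pow_dvd 3)) (by
    rw [pow_one, pow_two, ← e, sq_cm (sq hD (conj hD hs hx)) (sq hD (conj hD hx hs)) h])
  rw [← inv hD (conj hD hs hx)]; exact inv_eq_of_mul_eq_one_right (e ▸ this)

theorem rk' [Finite G] (hD : IsRootInvolutionSet D) (hl : Ln D) (cn : ¬ IsConnectedSet (CommAdj D) D) {a x : G} (ha : a ∈ D)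
    (hx : x ∈ D) (o : ¬ Commute a x) :
    ∃ (Ω : Type u) (_ : MulAction (G ⧸ twoZCore G) Ω) (ω : Ω) (Q : Subgroup (G ⧸ twoZCore G)),
      RK1 D (QuotientGroup.mk' (twoZCore G)) ω x Q ∧ QuotientGroup.mk' (twoZCore G) a • ω = ω := rk hD hl ha hx fun h => by
  rw [IsConnectedSet] at cn
  push Not at cn
  obtain ⟨u, hu, v, hv, cn⟩ := cn
  obtain ⟨_, _, _, _, R, -⟩ := rk hD hl hu hv cn
  have : ∀ y, Cn D a y → y ∈ D ∧ Commute a y := fun y h => by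
    induction h with
    | refl => exact ⟨ha, rfl⟩
    | tail _ h ih => exact ⟨h.2.1, R.tr hD ha h.1 h.2.1 ih.2 h.2.2.2⟩
  exact o (this _ h).2

theorem jj {M : Type u} [Group M] [Finite M] {Z : Set M} (h0 : ∀ u ∈ Z, orderOf u = 2) (hc : ∀ u ∈ Z, ∀ g, g * u * g⁻¹ ∈ Z)
    (h1 : ∀ u ∈ Z, ∀ v ∈ Z, ∀ w ∈ Z, Commute u v → Commute v w → Commute u w)
    (h2 : ∀ u ∈ Z, ∀ v ∈ Z, Commute u v → u ≠ v → u * v ∈ Z) {a a' b g h : M} (ha : a ∈ Z) (ha' : a' ∈ Z) (hb : b ∈ Z)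
    (aa : Commute a a') (ne : a ≠ a') (ab : ¬ Commute a b) (ga : Commute (g * a * g⁻¹) a) (gb : Commute (g * b * g⁻¹) b)
    (ka : Commute (h * a * h⁻¹) a) (kb : Commute (h * b * h⁻¹) b) {k : ℕ} (hk : (g * h * g⁻¹ * h⁻¹) ^ 2 ^ k = 1) {u : M}
    (hu : u ∈ Z) (ua : Commute u a) : g * h * g⁻¹ * h⁻¹ * u * (g * h * g⁻¹ * h⁻¹)⁻¹ = u := by
  have s2 : ∀ u ∈ Z, u * u = 1 := fun u hu => by rw [← pow_two, ← h0 u hu, pow_orderOf_eq_one]
  have od : ∀ u ∈ Z, ∀ v ∈ Z, ¬ Commute u v → Odd (orderOf (u * v)) := fun u hu v hv h => by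
    rw [← Nat.not_even_iff_odd]
    rintro ⟨m, hm⟩
    have ui := inv_eq_of_mul_eq_one_right (s2 u hu)
    have vi := inv_eq_of_mul_eq_one_right (s2 v hv)
    have c2 : (u * v) ^ m * (u * v) ^ m = 1 := by rw [← pow_add, ← hm, pow_orderOf_eq_one]
    have i1 : u * (u * v) * u⁻¹ = (u * v)⁻¹ := by rw [cc (s2 u hu), mul_inv_rev, vi]
    have i2 : v * (u * v) * v⁻¹ = (u * v)⁻¹ := by rw [mul_assoc, mul_inv_cancel_right, mul_inv_rev, vi, ui]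
    have k : ∀ w, w * (u * v) * w⁻¹ = (u * v)⁻¹ → Commute w ((u * v) ^ m) := fun w hw =>
      mul_inv_eq_iff_eq_mul.1 ((inverted_pow hw m).trans (inv_eq_of_mul_eq_one_right c2))
    have k2 : ∀ w ∈ Z, w * (u * v) * w⁻¹ = (u * v)⁻¹ → ∀ j, (u * v) ^ (2 * j) * w ∈ Z := fun w hw e j => by
      convert hc w hw ((u * v) ^ j) using 1
      rw [← inverted_pow e j, two_mul, pow_add, mul_assoc _ w, ← mul_assoc w, ← mul_assoc w, s2 w hw, one_mul,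
        inv_eq_of_mul_eq_one_right (s2 w hw), mul_assoc]
    have m1 : (u * v) ^ m * u ∈ Z := by
      obtain ⟨j, rfl | rfl⟩ := m.even_or_odd'
      · exact k2 u hu i1 j
      · rw [pow_succ, mul_assoc]
        exact k2 _ (by simpa [ui] using hc v hv u) (by simp [mul_assoc, ui, vi, cc (s2 u hu), cc (s2 v hv)]) j
    have c1 : (u * v) ^ m ≠ 1 := pow_ne_one_of_lt_orderOf (by have := orderOf_pos (u * v); omega)
      (by have := orderOf_pos (u * v); omega)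
    have := h2 _ m1 u hu ((k u i1).symm.mul_left (Commute.refl u)) fun e => c1 (by simpa using e)
    rw [mul_assoc, s2 u hu, mul_one] at this
    exact h (h1 u hu _ this v hv (k u i1) (k v i2).symm)
  have : (closure Z).Normal := ⟨fun n hn g => (closure_le ((closure Z).comap (MulAut.conj g).toMonoidHom)).2
    (fun y hy => subset_closure (hc y hy g)) hn⟩
  have hD : IsRootInvolutionSet ((↑) ⁻¹' Z : Set (closure Z)) :=
    ⟨fun d hd => (orderOf_coe d).symm.trans (h0 _ hd), closure_closure_coe_preimage, fun d hd g => hc _ hd g, fun u hu v hv =>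
      (em (Commute (u : M) v)).imp Subtype.ext fun e => Or.inl (by rw [← orderOf_coe]; exact od _ hu _ hv e)⟩
  have mk : ∀ u ∈ Z, u ∈ closure Z := fun _ => (subset_closure ·)
  obtain ⟨x, hx, e, -⟩ := swp hD (x := ⟨a, mk a ha⟩) (y := ⟨b, mk b hb⟩) ha hb
    (od_coe.1 ⟨fun e => ab ((show a = b from e) ▸ Commute.refl _), od a ha b hb ab⟩)
  obtain ⟨_, _, _, _, R, hω⟩ := rk' hD (ln_of hD (a := ⟨a, mk a ha⟩) (b := ⟨a', mk a' ha'⟩) ha
    ⟨⟨ha', Subtype.ext aa.symm, fun e => ne congr(($e).1).symm⟩, h2 _ ha' _ ha aa.symm ne.symm⟩) (fun h => by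
      have : ∀ y, Cn ((↑) ⁻¹' Z : Set (closure Z)) ⟨a, mk a ha⟩ y → Commute a y := fun y h => by
        induction h with
        | refl => rfl
        | tail _ h ih => exact h1 _ ha _ h.1 _ h.2.1 ih congr(($(h.2.2.2)).1)
      exact ab (this _ (h _ ha ⟨b, mk b hb⟩ hb))) (a := ⟨a, mk a ha⟩) ha hx fun c => ab (by
        rw [fix_w (sq hD hx) c.symm] at e
        exact (show a = b from congr(($e).1)) ▸ Commute.refl _)
  obtain ⟨F, _, _, _, p, p1, p2, p3, p4, p5⟩ := R.fld hD ha hω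
  let St : Subgroup M :=
    { carrier := {g | Commute (g * a * g⁻¹) a ∧ Commute (g * b * g⁻¹) b}
      one_mem' := by simp
      mul_mem' := fun {g h} hg hh =>
        ⟨h1 _ (hc _ ha _) _ (hc _ ha g) _ ha (by simpa [mul_assoc] using hh.1.map (MulAut.conj g)) hg.1,
          h1 _ (hc _ hb _) _ (hc _ hb g) _ hb (by simpa [mul_assoc] using hh.2.map (MulAut.conj g)) hg.2⟩
      inv_mem' := fun {g} hg => ⟨by simpa [mul_assoc] using (hg.1.map (MulAut.conj g⁻¹)).symm,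
        by simpa [mul_assoc] using (hg.2.map (MulAut.conj g⁻¹)).symm⟩ }
  let α : M →* MulAut (closure Z) := MulAut.conjNormal
  have st : ∀ g ∈ St, ∀ d : closure Z, (d : M) ∈ Z ∧ Commute d ⟨a, mk a ha⟩ → (α g d : M) ∈ Z ∧ Commute (α g d) ⟨a, mk a ha⟩ :=
    fun g hg d hd => ⟨hc _ hd.1 g, Subtype.ext (h1 _ (hc _ hd.1 g) _ (hc _ ha g) _ ha
      ((show Commute (d : M) a from congr(($(hd.2)).1)).map (MulAut.conj g)) hg.1)⟩
  have key : ∀ g ∈ St, ∃ σ : F ≃+* F, ∀ d : closure Z, (d : M) ∈ Z ∧ Commute d ⟨a, mk a ha⟩ →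
      p (α g d) = p (α g ⟨a, mk a ha⟩) * σ (p d) := fun g hg => by
    obtain ⟨σ, hσ⟩ := p5 (α g) (fun d hd => hc _ hd g) (Subtype.ext hg.1) (by rw [inv hD hx, e]; exact Subtype.ext hg.2)
    exact ⟨σ, fun d hd => hσ d hd.1 hd.2⟩
  have mg : g ∈ St := ⟨ga, gb⟩
  have mh : h ∈ St := ⟨ka, kb⟩
  have mr := mul_mem (mul_mem (mul_mem mg mh) (inv_mem mg)) (inv_mem mh)
  have er : g * h * g⁻¹ * h⁻¹ * (h * g) = g * h := by group
  generalize g * h * g⁻¹ * h⁻¹ = r at *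
  obtain ⟨σ, hσ⟩ := key g mg
  obtain ⟨τ, hτ⟩ := key h mh
  obtain ⟨υ, hυ⟩ := key r mr
  have aa : ((⟨a, mk a ha⟩ : closure Z) : M) ∈ Z ∧ Commute (⟨a, mk a ha⟩ : closure Z) ⟨a, mk a ha⟩ := ⟨ha, rfl⟩
  have n0 := fun g hg => p2 _ (st g hg _ aa).1 (st g hg _ aa).2
  have e1 : ∀ d : closure Z, (d : M) ∈ Z ∧ Commute d ⟨a, mk a ha⟩ →
      p (α r ⟨a, mk a ha⟩) * υ (p (α h ⟨a, mk a ha⟩) * τ (p (α g ⟨a, mk a ha⟩) * σ (p d))) =
        p (α g ⟨a, mk a ha⟩) * σ (p (α h ⟨a, mk a ha⟩) * τ (p d)) := fun d hd => by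
    rw [← hσ d hd, ← hτ _ (st g mg d hd), ← hυ _ (st h mh _ (st g mg d hd)), ← hτ d hd, ← hσ _ (st h mh d hd),
      ← MulAut.mul_apply, ← MulAut.mul_apply, ← MulAut.mul_apply, ← map_mul, ← map_mul, ← map_mul, mul_assoc r, er]
  have e2 : υ * (σ * τ) = 1 * (σ * τ) := RingEquiv.ext fun c => by
    by_cases c0 : c = 0
    · simp [c0]
    obtain ⟨d, hd, hd', rfl⟩ := p4 c c0
    have k1 := e1 d ⟨hd, hd'⟩
    have k2 := e1 _ aa
    simp only [p1, map_one, mul_one, map_mul] at k1 k2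
    rw [one_mul]
    nth_rewrite 1 [aut_comm σ τ]
    refine mul_left_cancel₀ (mul_ne_zero (n0 g mg) ((map_ne_zero σ).2 (n0 h mh))) ?_
    simp only [RingAut.mul_apply]
    linear_combination k1 - υ (τ (σ (p d))) * k2
  obtain rfl := mul_right_cancel e2
  have e3 : ∀ n : ℕ, p (α (r ^ n) ⟨a, mk a ha⟩) = p (α r ⟨a, mk a ha⟩) ^ n := fun n => by
    induction n with
    | zero => simp [p1]
    | succ n ih => rw [pow_succ', map_mul, MulAut.mul_apply, hυ _ (st _ (pow_mem mr n) _ aa), ih, pow_succ', RingAut.one_apply]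
  have e4 : p (α r ⟨a, mk a ha⟩) = 1 := by
    have e5 := e3 (2 ^ k)
    rw [hk, map_one, MulAut.one_apply, p1] at e5
    have := Fact.mk Nat.prime_two
    rw [← sub_eq_zero, ← pow_eq_zero_iff (n := 2 ^ k) (by positivity), sub_pow_char_pow, ← e5, one_pow, sub_self]
  have uu : ((⟨u, mk u hu⟩ : closure Z) : M) ∈ Z ∧ Commute (⟨u, mk u hu⟩ : closure Z) ⟨a, mk a ha⟩ := ⟨hu, Subtype.ext ua⟩
  have k1 := st r mr _ uu
  have := p3 _ k1.1 k1.2 _ uu.1 uu.2 (by rw [hυ _ uu, e4, one_mul, RingAut.one_apply])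
  by_contra ne
  exact R.ne (α r ⟨u, mk u hu⟩ * ⟨u, mk u hu⟩) (h2 _ k1.1 _ hu (h1 _ k1.1 _ ha _ hu congr(($(k1.2)).1) ua.symm) ne)
    (by rw [map_mul, this, R.s2 hD uu.1])

/-- no Suzuki pairs -/
def PP (D : Set G) : Prop := ∀ s ∈ D, ∀ x ∈ D, Od s x → ∀ r ∈ XX D s x, (∃ k, r ^ 2 ^ k = 1) → Commute r s →
  x * s * x = r⁻¹ * x * r → x * s * x = s * x * s

/-- a Suzuki pair -/
structure Bad (D : Set G) (s x a b : G) : Prop where
  hs : s ∈ D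
  hx : x ∈ D
  o : Od s x
  aX : a ∈ XX D s x
  bX : b ∈ XX D s x
  aE : a * s * a⁻¹ ∈ sameCommutingClass D s
  bE : b * s * b⁻¹ ∈ sameCommutingClass D s
  two : ∃ k, (a * b * a⁻¹ * b⁻¹) ^ 2 ^ k = 1
  rs : Commute (a * b * a⁻¹ * b⁻¹) s
  eq : x * s * x = (a * b * a⁻¹ * b⁻¹)⁻¹ * x * (a * b * a⁻¹ * b⁻¹)
  eq2 : ((a * b * a⁻¹ * b⁻¹) ^ 2)⁻¹ * x * (a * b * a⁻¹ * b⁻¹) ^ 2 = s * x * s
  ne : x * s * x ≠ s * x * s

theorem SG.bad [Finite G] (S : SG D) {d x : G} (hd : d ∈ D) (hx : x ∈ D) (o : Od d x) {Ω : Type u}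
    [MulAction (XX D d x ⧸ pCore 2 (XX D d x)) Ω] {ω : Ω} {Q : Subgroup (XX D d x ⧸ pCore 2 (XX D d x))} (T : XQ D d x ω Q)
    (hQ : ¬ ∀ z ∈ Q, z * z = 1) : ∃ s a b, Bad D s x a b := by
  have hD := S.ot
  obtain ⟨s, r, h, -, -, hr⟩ := T.cs.resolve_left hQ
  obtain ⟨s, hs, rfl⟩ := T.lift s (T.r2.s0 h) h.s1
  obtain ⟨k, hk, k1⟩ := T.r2.exists_K_ne
  obtain ⟨a, ha, rfl⟩ := T.r2.exists_comm_K le_rfl hk k1 (T.r2.D_norm_Q hk.1) h.rQ
  obtain ⟨a, rfl⟩ := QuotientGroup.mk_surjective a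
  obtain ⟨b, rfl⟩ := QuotientGroup.mk_surjective k
  have eX : XX D s x = XX D d x := by rw [XX, E_eq hs]
  have nE : ∀ g : XX D d x, (g : XX D d x ⧸ pCore 2 (XX D d x)) • ω = ω → (g : G) * s * (g : G)⁻¹ ∈ sameCommutingClass D s :=
    fun g hg => E_eq hs ▸ key' hD S.cl S.ln hd hx o (hD.1.conj_mem _ hs.1 g) (g * s * g⁻¹).2
      (T.cm (g * s * g⁻¹) ⟨d, XX_E (E_self hd)⟩ (hD.1.conj_mem _ hs.1 g) hd
        (T.r2.Q0_comm (T.r2.Q0_conj hg (T.r2.s0 h)) (Q0_le _ (T.q0 _ (E_self hd)).1)))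
  have er : ((a * b * a⁻¹ * b⁻¹ : XX D d x) : XX D d x ⧸ pCore 2 (XX D d x)) = a * (b * (↑a)⁻¹ * (↑b)⁻¹) := by simp [mul_assoc]
  rw [← er] at h hr
  refine ⟨s, a, b, hs.1, hx, E_od hD hd hs hx o, eX.ge a.2, eX.ge b.2, nE a (T.r2.Qa _ ha), nE b hk.1.1, ?_, ?_, ?_, ?_, fun e => ?_⟩
  · obtain ⟨k, hk⟩ := H26.isPGroup_pCore (p := 2) ⟨(a * b * a⁻¹ * b⁻¹) ^ 2 ^ 2, (QuotientGroup.eq_one_iff _).1 (by
      rw [QuotientGroup.mk_pow, pow_two 2, pow_mul, pow_two, pow_two, hr, h.ss])⟩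
    exact ⟨2 + k, by rw [pow_add, pow_mul]; exact congr((($hk).1 : G))⟩
  · exact mul_inv_eq_iff_eq_mul.1 congr(($(S.fib hd hx o T (y := a * b * a⁻¹ * b⁻¹ * s * (a * b * a⁻¹ * b⁻¹)⁻¹) (z := s)
      (hD.1.conj_mem _ hs.1 _) hs.1 (by
        rw [QuotientGroup.mk_mul, QuotientGroup.mk_mul, ← T.r2.Q0_comm (T.r2.s0 h) h.rQ, QuotientGroup.mk_inv,
          mul_inv_cancel_right]))).1)
  · exact congr(($(S.fib hd hx o T (y := ⟨x, XX_x d x⟩ * s * ⟨x, XX_x d x⟩)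
      (z := (a * b * a⁻¹ * b⁻¹)⁻¹ * (⟨x, XX_x d x⟩ : XX D d x) * (a * b * a⁻¹ * b⁻¹)) (conj hD.1 hs.1 hx)
      (by simpa using hD.1.conj_mem _ hx (a * b * a⁻¹ * b⁻¹ : G)⁻¹) (by simpa only [QuotientGroup.mk_mul, QuotientGroup.mk_inv] using h.eq))).1)
  · exact (congrArg Subtype.val (S.fib hd hx o T (z := s * ⟨x, XX_x d x⟩ * s)
      (y := ((a * b * a⁻¹ * b⁻¹) ^ 2)⁻¹ * ⟨x, XX_x d x⟩ * (a * b * a⁻¹ * b⁻¹) ^ 2)
      (by simpa using hD.1.conj_mem _ hx ((a * b * a⁻¹ * b⁻¹ : G) ^ 2)⁻¹) (conj hD.1 hx hs.1) (by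
        rw [QuotientGroup.mk_mul, QuotientGroup.mk_mul, QuotientGroup.mk_inv, QuotientGroup.mk_pow, pow_two, hr,
          inv_eq_of_mul_eq_one_right h.ss]; rfl)) :)
  · have := (T.r2.sr_unique (T.r2.Qa _ h.sQ) h.rQ h.eq (T.r2.Qa _ h.sQ) h.sQ (by
      rw [inv_eq_of_mul_eq_one_right h.ss]
      exact congrArg QuotientGroup.mk (show ⟨x, XX_x d x⟩ * s * ⟨x, XX_x d x⟩ = s * ⟨x, XX_x d x⟩ * s from Subtype.ext e))).2
    rw [this, h.ss] at hr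
    exact h.s1 hr.symm

theorem SG.pp [Finite G] (S : SG D) (h : ∀ s x a b, ¬ Bad D s x a b) : PP D := fun s hs x hx o r hr ⟨k, hk⟩ c e => by
  obtain ⟨Ω, _, ω, Q, T⟩ := xql S.ot S.cl S.ln hs hx o
  have hQ : ∀ z ∈ Q, z * z = 1 := by_contra fun h' => let ⟨_, _, _, b⟩ := S.bad hs hx o T h'; h _ _ _ _ b
  obtain ⟨h1, h2⟩ := T.q0 ⟨s, XX_E (E_self hs)⟩ (E_self hs)
  have m : ((⟨r, hr⟩ : XX D s x) : XX D s x ⧸ pCore 2 (XX D s x)) ∈ Q := two_mem T.r2 (k := k) (T.r2.cent_le (Q0_le _ h1) h2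
    ((show Commute (⟨r, hr⟩ : XX D s x) ⟨s, XX_E (E_self hs)⟩ from Subtype.ext c).map (QuotientGroup.mk' _)))
    (congrArg QuotientGroup.mk (show (⟨r, hr⟩ : XX D s x) ^ 2 ^ k = 1 from Subtype.ext hk))
  have sr : SR Q ((⟨x, XX_x s x⟩ : XX D s x) : XX D s x ⧸ pCore 2 (XX D s x)) _ _ := ⟨Q0_le _ h1, h2, T.r2.Q0_sq h1, m, congrArg QuotientGroup.mk
    (show ⟨x, XX_x s x⟩ * ⟨s, XX_E (E_self hs)⟩ * ⟨x, XX_x s x⟩ = (⟨r, hr⟩ : XX D s x)⁻¹ * ⟨x, XX_x s x⟩ * ⟨r, hr⟩ from Subtype.ext e)⟩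
  have := sr.eq
  rw [T.r2.r_eq_of_sq sr (hQ _ m), T.r2.Q0_inv h1] at this
  exact congr(($(S.fib hs hx o T (y := ⟨x, XX_x s x⟩ * ⟨s, XX_E (E_self hs)⟩ * ⟨x, XX_x s x⟩)
    (z := (⟨s, XX_E (E_self hs)⟩ : XX D s x) * (⟨x, XX_x s x⟩ : XX D s x) * (⟨s, XX_E (E_self hs)⟩ : XX D s x)) (conj S.ot.1 hs hx) (conj S.ot.1 hx hs) this)).1)

theorem quot_sg [Finite G] (hD : IsOddTranspositionSet D) (hc : Cl D) (hl : Ln D) (cn : IsConnectedSet (CommAdj D) D) {s x : G}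
    (hs : s ∈ D) (hx : x ∈ D) (o : Od s x) : SG (QuotientGroup.mk' (twoZCore G) '' D) ∧ ∀ a ∈ D, ∀ b ∈ D,
      Commute (QuotientGroup.mk' (twoZCore G) a) (QuotientGroup.mk' (twoZCore G) b) → Commute a b := by
  set π := QuotientGroup.mk' (twoZCore G)
  have cm : ∀ a ∈ D, ∀ b ∈ D, Commute (π a) (π b) → Commute a b := fun d hd e he h => cm_of hD hd he fun o =>
    od_mod hD.1 hd he o ((QuotientGroup.eq_one_iff _).1 (by
      change π _ = 1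
      rw [map_mul, map_mul, map_mul, h.eq, mul_assoc (π e), ← map_mul, sq hD.1 hd, map_one, mul_one, ← map_mul, sq hD.1 he, map_one]))
  have ne : ∀ d ∈ D, π d ≠ 1 := fun d hd e => by
    obtain ⟨y, hy, o⟩ := od_at hD.1 hc hs hx o hd
    exact not_comm hD.1 hd hy o (cm d hd y hy (e ▸ Commute.one_left _))
  have h2 := map_root hD.1 (QuotientGroup.mk'_surjective (twoZCore G)) ne
  have h3 : IsOddTranspositionSet (π '' D) := ⟨h2, by
    rintro _ ⟨a, ha, rfl⟩ _ ⟨b, hb, rfl⟩ h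
    have h4 : 4 ∣ orderOf (a * b) := by rw [← h, ← map_mul]; exact orderOf_map_dvd _ _
    by_cases o : Od a b
    · exact absurd (o.2.of_dvd_nat h4) (by decide)
    · exact absurd (h4.trans (orderOf_dvd_of_pow_eq_one (pow_four_of_comm hD.1 ha hb (cm_of hD ha hb o)))) (by decide)⟩
  refine ⟨⟨h3, ?_, ?_, ?_, (Cfsg.Agent.S5048.result hD.1 (fconn hD.1 hc hs hx o) hl).2,
    _, ⟨s, hs, rfl⟩, _, ⟨x, hx, rfl⟩, od_of h3 ⟨s, hs, rfl⟩ ⟨x, hx, rfl⟩ fun h => not_comm hD.1 hs hx o (cm s hs x hx h)⟩, cm⟩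
  · rintro _ ⟨a, ha, rfl⟩ _ ⟨b, hb, rfl⟩
    obtain ⟨g, rfl⟩ := hc a ha b hb
    exact ⟨π g, by simp⟩
  · obtain ⟨_, h0, u, hu, v, hv, h1, -, rfl⟩ := hl
    exact ⟨_, ⟨_, h0, rfl⟩, _, ⟨u, hu, rfl⟩, _, ⟨v, hv, rfl⟩, (show Commute u v from h1).map π, map_mul π u v ▸ ne _ h0, map_mul π u v⟩
  · rintro _ ⟨a, ha, rfl⟩ _ ⟨b, hb, rfl⟩
    have := cn a ha b hb
    clear hb
    induction this with
    | refl => exact .refl
    | tail _ h ih => exact ih.trans (H22.ZD.conn_comm ⟨_, h.1, rfl⟩ ⟨_, h.2.1, rfl⟩ ((show Commute _ _ from h.2.2.2).map π))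

/-- the odd component of `s` in the centraliser of `v` -/
def Gam (D : Set G) (v s : G) : Set G := {z | ReflTransGen (fun a b => b ∈ D ∧ Commute b v ∧ Od a b) s z}

theorem gam_mem {v s z : G} (hs : s ∈ D) (sv : Commute s v) (h : z ∈ Gam D v s) : z ∈ D ∧ Commute z v := by
  induction h with
  | refl => exact ⟨hs, sv⟩
  | tail _ h => exact ⟨h.1, h.2.1⟩

theorem gam_od {v s a b : G} (h : a ∈ Gam D v s) (hb : b ∈ D) (bv : Commute b v) (o : Od a b) : b ∈ Gam D v s :=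
  ReflTransGen.tail h ⟨hb, bv, o⟩

/-- elements preserving all commuting classes -/
def Kr (Γ : Set G) : Set G := {g | ∀ z ∈ Γ, g * z * g⁻¹ ∈ Γ ∧ Commute (g * z * g⁻¹) z}

/-- local structure at a point collinear with a Suzuki pair -/
structure Loc (Γ : Set G) (s x : G) : Prop where
  tr : ∀ a ∈ Γ, ∀ b ∈ Γ, ∀ c ∈ Γ, Commute a b → Commute b c → Commute a c
  t3 : ∀ a ∈ Γ, ∀ b ∈ Γ, Commute a b → ∀ z ∈ Γ, ¬ Commute z a → Commute (a * b * z * (a * b)⁻¹) z → a * b ∈ Kr Γ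
  t4 : ∀ a ∈ Γ, Commute a s → a * s ∉ Kr Γ → ∃ c ∈ Γ, Commute c s ∧ c * (a * s) ∈ Kr Γ
  t5 : ∀ y ∈ Γ, ¬ Commute y s → ∃ e, (e = 1 ∨ e ∈ Γ ∧ Commute e s) ∧ ∃ z ∈ Γ, (z = x ∨ Commute z (x * s * x)) ∧
    Commute (e * z * s * (e * z)⁻¹) y
  t6 : ∃ u ∈ Γ, Od u x ∧ Commute (u * x * s * (u * x)⁻¹) s ∧ ∀ a ∈ Γ, Commute a s →
    ∃ m : ℕ, (u * x) ^ m * s * ((u * x) ^ m)⁻¹ * a ∈ Kr Γ

theorem gam_conj (hD : IsOddTranspositionSet D) {v s g z : G} (hs : s ∈ D) (sv : Commute s v) (hg : g ∈ closure (Gam D v s))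
    (hz : z ∈ Gam D v s) : g * z * g⁻¹ ∈ Gam D v s := by
  have k : ∀ g ∈ Gam D v s, ∀ z ∈ Gam D v s, g * z * g⁻¹ ∈ Gam D v s := fun g hg z hz => by
    obtain ⟨h1, h2⟩ := gam_mem hs sv hg
    obtain ⟨h3, h4⟩ := gam_mem hs sv hz
    by_cases o : Od z g
    · rw [inv hD.1 h1]
      exact gam_od hz (conj hD.1 h3 h1) ((h2.mul_left h4).mul_left h2) (od_sq hD.1 h3 h1 o)
    · rwa [← cm_of hD h3 h1 o, mul_inv_cancel_right]
  induction hg using closure_induction_left with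
  | one => simpa
  | mul_left a ha g _ ih => simpa [mul_assoc] using k a ha _ ih
  | inv_mul_cancel a ha g _ ih => simpa [mul_assoc, inv hD.1 (gam_mem hs sv ha).1] using k a ha _ ih

theorem gam_orb (hD : IsOddTranspositionSet D) {v s : G} (hs : s ∈ D) (sv : Commute s v) :
    Orb (closure (Gam D v s)) s = Gam D v s := by
  refine Set.Subset.antisymm (by rintro _ ⟨g, hg, rfl⟩; exact gam_conj hD hs sv hg .refl) fun z hz => ?_
  induction hz with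
  | refl => exact Orb.self _ _
  | tail h h' ih => exact Orb.od hD.1 hs (subset_closure .refl) ih h'.1 (subset_closure (ReflTransGen.tail h h')) h'.2.2

theorem loc [Finite G] (S : SG D) (ih : ∀ (M : Type u) [Group M] [Finite M] (E : Set M), Nat.card M < Nat.card G → SG E → PP E)
    {s x a b v : G} (B : Bad D s x a b) (hv : v ∈ D) (sv : Commute s v) (xv : Commute x v) : Loc (Gam D v s) s x := by
  have hD := S.ot
  obtain ⟨hs, hx, o, aX, bX, -, -, ⟨k, hk⟩, rs, eq, -, ne⟩ := B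
  have rX := mul_mem (mul_mem (mul_mem aX bX) (inv_mem aX)) (inv_mem bX)
  generalize a * b * a⁻¹ * b⁻¹ = r at *
  set Γ := Gam D v s
  have sΓ : s ∈ Γ := .refl
  have xΓ : x ∈ Γ := gam_od sΓ hx xv o
  have EΓ : ∀ e ∈ sameCommutingClass D s, e ∈ Γ := fun e he =>
    gam_od xΓ he.1 (E_cm (E_self hs) he hv sv.symm).symm (E_od hD hs he hx o).symm
  have mL : ∀ z ∈ Γ, z ∈ closure Γ := fun _ => (subset_closure ·)
  have XL : XX D s x ≤ closure Γ := Subgroup.closure_mono (by rintro z (hz | rfl); exacts [EΓ z hz, xΓ])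
  obtain ⟨k1, k2⟩ := subcl hD (T := Γ) rfl hs (mL s sΓ) (gam_orb hD hs sv).ge
  rw [gam_orb hD hs sv] at k1 k2
  have k3 : Ln ((↑) ⁻¹' Γ : Set (closure Γ)) := by
    obtain ⟨c, hc⟩ := S.ln.at hD.1 S.cl hs
    have h1 := EΓ c (pp_E hD hs hc)
    exact ln_of k1.1 (a := ⟨s, mL s sΓ⟩) (b := ⟨c, mL c h1⟩) sΓ ⟨⟨h1, Subtype.ext hc.1.2.1, fun e => hc.1.2.2 congr(($e).1)⟩,
      show c * s ∈ Γ from hc.1.2.1 ▸ EΓ _ (pp_E hD hs (partner_mul hD.1 hs hc))⟩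
  set s' : closure Γ := ⟨s, mL s sΓ⟩
  set x' : closure Γ := ⟨x, mL x xΓ⟩
  set r' : closure Γ := ⟨r, XL rX⟩
  set π := QuotientGroup.mk' (twoZCore (closure Γ))
  have eq' : π x' * π s' * π x' = (π r')⁻¹ * π x' * π r' := congrArg π (show x' * s' * x' = r'⁻¹ * x' * r' from Subtype.ext eq)
  have hk' : π r' ^ 2 ^ k = 1 := congrArg π (show r' ^ 2 ^ k = 1 from Subtype.ext hk)
  have rs' : Commute (π r') (π s') := (show Commute r' s' from Subtype.ext rs).map π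
  have nn : ∀ cm : ∀ a ∈ ((↑) ⁻¹' Γ : Set (closure Γ)), ∀ b ∈ ((↑) ⁻¹' Γ : Set (closure Γ)), Commute (π a) (π b) → Commute a b,
      π x' * π s' * π x' ≠ π s' * π x' * π s' := fun cm e => ne (eq_of_cm hD.1 hs hx o congr(($(cm _ (conj k1.1 (a := s') (b := x') sΓ xΓ)
        _ (conj k1.1 (a := x') (b := s') xΓ sΓ) (by simp only [map_mul, e]; rfl))).1))
  have cn : ¬ IsConnectedSet (CommAdj ((↑) ⁻¹' Γ : Set (closure Γ))) ((↑) ⁻¹' Γ) := fun cn => by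
    obtain ⟨T, cm⟩ := quot_sg k1 k2 k3 cn (s := s') (x := x') sΓ xΓ (od_coe.1 o)
    refine nn cm (ih _ _ ?_ T _ ⟨s', sΓ, rfl⟩ _ ⟨x', xΓ, rfl⟩ (od_of T.ot ⟨s', sΓ, rfl⟩ ⟨x', xΓ, rfl⟩ fun h =>
      not_comm hD.1 hs hx o congr(($(cm s' sΓ x' xΓ h)).1)) (π r') ?_ ⟨k, hk'⟩ rs' eq')
    · refine (Nat.card_le_card_of_surjective _ (QuotientGroup.mk'_surjective _)).trans_lt ?_
      obtain ⟨y, hy⟩ : ∃ y, y ∉ closure Γ := by
        by_contra! h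
        exact ne_one hD.1 hv (S.z1 fun y _ => cent_cl (fun z hz => (gam_mem hs sv hz).2.symm) (h y))
      exact Finite.card_subtype_lt hy
    · have : ∀ g (hg : g ∈ XX D s x), π ⟨g, XL hg⟩ ∈ XX (π '' ((↑) ⁻¹' Γ)) (π s') (π x') := fun g hg => by
        induction hg using closure_induction with
        | mem z hz =>
          rcases hz with hz | rfl
          · refine XX_E (mem_E.2 ⟨⟨_, EΓ z hz, rfl⟩, ?_⟩)
            rintro _ ⟨y, hy, rfl⟩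
            have yD := (gam_mem hs sv hy).1
            exact ⟨fun h => (show Commute y ⟨z, _⟩ from Subtype.ext (E_cm (E_self hs) hz yD congr(($(cm y hy s' sΓ h)).1))).map π,
              fun h => (show Commute y s' from Subtype.ext (E_cm hz (E_self hs) yD congr(($(cm y hy _ (EΓ z hz) h)).1))).map π⟩
          · exact XX_x _ _
        | one => exact one_mem _
        | mul _ _ _ _ h h' => exact mul_mem h h'
        | inv _ _ h => exact inv_mem h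
      exact this r rX
  obtain ⟨Ω, _, ω, Q, R, hω⟩ := rk' k1.1 k3 cn (a := s') (x := x') sΓ xΓ fun h => not_comm hD.1 hs hx o congr(($h).1)
  have T := R.r2
  have kr : ∀ g : closure Γ, π g = 1 ↔ (g : G) ∈ Kr Γ := fun g => (R.ker_iff k1.1 (a := s') sΓ).trans
    ⟨fun h z hz => ⟨gam_conj hD hs sv g.2 hz, congr(($(h ⟨z, mL z hz⟩ hz)).1)⟩, fun h z hz => Subtype.ext (h z hz).2⟩
  have q0 := fun d => R.Q0_of k1.1 (a := s') (d := d) sΓ hω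
  have s0 := q0 s' sΓ rfl
  have sr : SR Q (π x') (π s') (π r') :=
    ⟨Q0_le _ s0, R.ne s' sΓ, T.Q0_sq s0, two_mem T (T.cent_le (Q0_le _ s0) (R.ne s' sΓ) rs') hk', eq'⟩
  have nr : π r' ≠ π s' := fun e => nn R.comm (by rw [eq', e, T.Q0_inv s0])
  refine ⟨fun a ha b hb c hc h h' => congr(($(R.tr k1.1 (d := ⟨a, mL a ha⟩) (e := ⟨b, mL b hb⟩) (f := ⟨c, mL c hc⟩) ha hb hc
    (Subtype.ext h) (Subtype.ext h'))).1), fun a ha b hb c z hz h h' => ?_, fun a ha c h => ?_, fun y hy h => ?_, ?_⟩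
  · refine (kr (⟨a, mL a ha⟩ * ⟨b, mL b hb⟩)).1 (by_contra fun e => h ?_)
    obtain ⟨α, hα⟩ := R.pt k1.1 (d := ⟨a, mL a ha⟩) ha
    obtain ⟨β, hβ⟩ := R.pt k1.1 (d := ⟨z, mL z hz⟩) hz
    obtain rfl := T.invol_fix_eq e (by
      rw [← map_mul, show (⟨a, mL a ha⟩ * ⟨b, mL b hb⟩ : closure Γ) * (⟨a, mL a ha⟩ * ⟨b, mL b hb⟩) = 1 from
        Subtype.ext (sq_cm (sq hD.1 (gam_mem hs sv ha).1) (sq hD.1 (gam_mem hs sv hb).1) c), map_one])
      (R.fix k1.1 (d := ⟨a, mL a ha⟩) ha hα (Subtype.ext ((Commute.refl a).mul_left c.symm)))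
      ((R.mv k1.1 (d := ⟨z, mL z hz⟩) (e := ⟨z, mL z hz⟩) hz hz hβ hβ).2 (Subtype.ext h'))
    exact congr(($(R.of_fix k1.1 (d := ⟨z, mL z hz⟩) (e := ⟨a, mL a ha⟩) hz ha hβ hα)).1)
  · obtain ⟨d, hd, c', e⟩ := R.Q0_lift k1.1 (a := s') sΓ hω (mul_mem (q0 ⟨a, mL a ha⟩ ha (Subtype.ext c)) s0)
      fun e => h ((kr (⟨a, mL a ha⟩ * s')).1 e)
    exact ⟨d, hd, congr(($c').1), (kr (d * (⟨a, mL a ha⟩ * s'))).1 (by rw [map_mul, map_mul, ← e, R.s2 k1.1 hd])⟩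
  · obtain ⟨c, hc⟩ := R.pt k1.1 (d := ⟨y, mL y hy⟩) hy
    obtain ⟨g, hg, rfl⟩ := T.reg (c := c) fun e => h congr(($(R.of_fix k1.1 (d := ⟨y, mL y hy⟩) (e := s') hy sΓ hc (e ▸ hω))).1)
    obtain ⟨h2, hn, hr⟩ : Nat.card Q = Nat.card (Q0 Q) ^ 2 ∧ NC Q ∧ π r' * π r' = π s' := by
      obtain h | h | h := (T.concl sr).2
      exacts [absurd (T.r_eq_of_sq sr (h _ sr.rQ)) nr, h, absurd h.2.2.1 nr]
    obtain ⟨n, F, _, _, _, -, -, hF⟩ := T.exists_field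
    obtain ⟨φ, p, Y, κ, ρ, C⟩ := T.exists_szC sr T.Q_pg hn h2 hr hF
    have z0 : ∀ g ∈ Q, p g = 0 → g ∈ Q0 Q := fun g hg e => mem_Q0_of hg (C.inj _ (mul_mem hg hg) _ (one_mem _)
      (by rw [C.add g hg g hg, e, C.π1, add_zero]) (by rw [C.mul g hg g hg, e, C.Y1, mul_zero, add_zero, CharTwo.add_self_eq_zero]))
    obtain ⟨z, hz, y1, hy1, h1, h2⟩ : ∃ z ∈ Q0 Q, ∃ y1 : closure Γ, (y1 : G) ∈ Γ ∧ ((y1 : G) = x ∨ Commute (y1 : G) (x * s * x)) ∧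
        z • π y1 • ω = g • π x' • ω := by
      by_cases e : p g = 0
      · exact ⟨g, z0 g hg e, x', xΓ, Or.inl rfl, rfl⟩
      obtain ⟨k, hk, e'⟩ := C.Ksurj _ e
      have g0 := T.conjD hk.1 (inv_mem sr.rQ)
      obtain ⟨d, hd, c', e1⟩ := R.Q0_lift k1.1 (a := s') sΓ hω (T.Q0_conj' hk.1.1 s0) fun e => sr.s1 (by rwa [mul_assoc, inv_mul_eq_one, eq_comm, mul_eq_right] at e)
      refine ⟨g * (k * (π r')⁻¹ * k⁻¹)⁻¹, z0 _ (mul_mem hg (inv_mem g0)) ?_, x' * d * x', conj k1.1 hd (b := x') xΓ,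
        Or.inr (cm_w (sq hD.1 hx) congr(($c').1)), ?_⟩
      · rw [C.add _ hg _ (inv_mem g0), C.πinv g0, C.Kπ k hk _ (inv_mem sr.rQ), C.πinv sr.rQ, C.r1, e', mul_one,
          CharTwo.add_self_eq_zero]
      · rw [map_mul, map_mul, e1, T.tsk sr hk, mul_smul _ _ ω, T.Qa _ (T.conjD hk.1 sr.rQ), mul_smul _ (π x'), mul_smul _ (k * k),
          (mul_mem hk.1 hk.1).2, mul_smul g, inv_smul_smul]
    have m := fun e => R.mv k1.1 (d := s') (e := ⟨y, mL y hy⟩) (g := e * y1) sΓ hy hω hc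
    by_cases z1 : z = 1
    · exact ⟨1, Or.inl rfl, y1, hy1, h1, congr(($((m 1).1 (by rw [← h2, z1, one_smul, one_mul]))).1)⟩
    · obtain ⟨e, he, c', rfl⟩ := R.Q0_lift k1.1 (a := s') sΓ hω hz z1
      exact ⟨e, Or.inr ⟨he, congr(($c').1)⟩, y1, hy1, h1, congr(($((m e).1 (by rw [← h2, map_mul, mul_smul]))).1)⟩
  · obtain ⟨k, hk, hg⟩ := T.exists_gen'
    obtain ⟨u, hu, e⟩ := R.inv_lift k1.1 (a := s') sΓ (z := k * π x') (fun e => T.ta (by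
      have := (mem_DD.1 hk.1).2
      rwa [← mul_smul, e, one_smul, eq_comm] at this)) (by rw [mul_assoc, ← mul_assoc (π x'), T.tkt hk, mul_inv_cancel])
    have e1 : π (u * x') = k := by rw [map_mul, e, T.xtt]
    refine ⟨u, hu, od_of hD (gam_mem hs sv hu).1 hx fun c => ?_,
      congr(($((R.mv k1.1 (d := s') (e := s') (g := u * x') sΓ sΓ hω hω).1 (e1 ▸ hk.1.1))).1), fun a ha c => ?_⟩
    · obtain ⟨k', hk', k1'⟩ := T.exists_K_ne
      obtain ⟨n, rfl⟩ := T.gen_pow hg hk'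
      rw [T.D_sq hk.1 (by
        rw [← e1, ← map_mul, show u * x' * (u * x') = 1 from Subtype.ext (sq_cm (sq hD.1 (gam_mem hs sv hu).1) (sq hD.1 hx) c),
          map_one]), one_pow] at k1'
      exact k1' rfl
    · obtain ⟨c', hc', e2⟩ := T.exists_K0 s0 sr.s1 (q0 ⟨a, mL a ha⟩ ha (Subtype.ext c)) (R.ne _ ha)
      obtain ⟨m, hm⟩ := T.gen_pow hg (T.K_inv hc')
      refine ⟨m, (kr ((u * x') ^ m * s' * ((u * x') ^ m)⁻¹ * ⟨a, mL a ha⟩)).1 ?_⟩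
      rw [map_mul, map_mul, map_mul, map_inv, map_pow, e1, hm, inv_inv, e2, R.s2 k1.1 (d := ⟨a, mL a ha⟩) ha]

end H29.RI
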