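import Mathlib
import Cfsg.Agent.H29.RI5

/-!
# Root involutions VI (helper29)

`RI.SG.no_bad`: a connected class of odd transpositions with lines in a simple group has no Suzuki pair; `RI.c5052`.
-/

set_option autoImplicit false
set_option linter.unusedSectionVars false

open Cfsg Subgroup H12.RI H02.Suz Relation MulAction
open scoped MatrixGroups

namespace H29.RI

universe u

variable {G : Type u} [Group G] {D : Set G}

theorem kr_conj {Γ : Set G} {g k : G} (h : ∀ z ∈ Γ, g * z * g⁻¹ ∈ Γ) (h' : ∀ z ∈ Γ, g⁻¹ * z * g ∈ Γ) (hk : k ∈ Kr Γ) :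
    g * k * g⁻¹ ∈ Kr Γ := fun z hz =>
  ⟨by simpa [mul_assoc] using h _ (hk _ (h' z hz)).1, by simpa [mul_assoc] using (hk _ (h' z hz)).2.map (MulAut.conj g)⟩

theorem norm_one {W : Set G} (hW : ∀ a ∈ W, ∀ b ∈ W, Commute a b) {k s c y b z : G} (ho : Odd (orderOf k))
    (hk : ∀ a ∈ W, k * a * k⁻¹ ∈ W) (ht : ∀ a ∈ W, ∃ m : ℕ, a = k ^ m * s * (k ^ m)⁻¹) (hs : s ∈ W) (hb : b ∈ W) (hsb : s * b ∈ W)
    (hc : c ∈ W) (hy : y ∈ W) (hz : z = c * (y * s)) (zk : Commute z k) (z2 : z * z = 1) : z = 1 := by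
  let _ : CommGroup (closure W) := { (inferInstance : Group (closure W)) with mul_comm := (isMulCommutative_closure hW).1.1 }
  let ψ : closure W →* closure W := ((MulAut.conj k).toMonoidHom.comp (closure W).subtype).codRestrict _ fun v =>
    (closure_le ((closure W).comap (MulAut.conj k).toMonoidHom)).2 (fun y hy => subset_closure (hk y hy)) v.2
  let φ : Monoid.End (closure W) := ψ
  have hφ : ∀ (n : ℕ) v, ((φ ^ n) v : G) = k ^ n * v * (k ^ n)⁻¹ := fun n => by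
    induction n with
    | zero => simp
    | succ n ih => intro v; rw [pow_succ, Monoid.End.coe_mul, Function.comp, ih, pow_succ]; change _ * (k * v * k⁻¹) * _ = _; group
  let N : closure W →* closure W := ∏ i ∈ Finset.range (orderOf k), (φ ^ i : Monoid.End (closure W))
  have hN : ∀ v, N v = ∏ i ∈ Finset.range (orderOf k), (φ ^ i) v := fun v => MonoidHom.finsetProd_apply _ _ _
  have n1 : ∀ v, N (φ v) = N v := fun v => by
    have e := (Finset.prod_range_succ (fun i => (φ ^ i) v) (orderOf k)).symm.trans (Finset.prod_range_succ' _ _)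
    rw [show (φ ^ orderOf k) v = (φ ^ 0) v from Subtype.ext (by rw [hφ, hφ, pow_orderOf_eq_one, pow_zero])] at e
    rw [hN, hN, mul_right_cancel e]
    rfl
  have n2 : ∀ (m : ℕ) v, N ((φ ^ m) v) = N v := fun m v => by
    induction m with
    | zero => rfl
    | succ m ih => rw [pow_succ', Monoid.End.coe_mul, Function.comp, n1, ih]
  have mk : ∀ a ∈ W, a ∈ closure W := fun _ => (subset_closure ·)
  have n3 : ∀ a (ha : a ∈ W), N ⟨a, mk a ha⟩ = N ⟨s, mk s hs⟩ := fun a ha => by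
    obtain ⟨m, e⟩ := ht a ha
    rw [← n2 m ⟨s, mk s hs⟩]
    exact congrArg N (Subtype.ext (e.trans (hφ m ⟨s, mk s hs⟩).symm))
  have n4 : N ⟨s, mk s hs⟩ = 1 := by
    have := n3 _ hsb
    rw [show (⟨s * b, _⟩ : closure W) = ⟨s, mk s hs⟩ * ⟨b, mk b hb⟩ from rfl, map_mul, n3 b hb] at this
    simpa using this
  have n5 := hN (⟨c, mk c hc⟩ * (⟨y, mk y hy⟩ * ⟨s, mk s hs⟩))
  rw [map_mul, map_mul, n3 c hc, n3 y hy, n4, Finset.prod_congr rfl (g := fun _ => ⟨c, mk c hc⟩ * (⟨y, mk y hy⟩ * ⟨s, mk s hs⟩))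
    fun i _ => Subtype.ext (by rw [hφ]; change k ^ i * (c * (y * s)) * _ = c * (y * s); rw [← hz, ← (zk.pow_right i).eq]; simp),
    Finset.prod_const, Finset.card_range] at n5
  have n6 : z ^ orderOf k = 1 := by rw [hz]; simpa using congr(($n5).1).symm
  exact eq_one_of_odd (k := 1) (ho.of_dvd_nat (orderOf_dvd_of_pow_eq_one n6)) (by rwa [pow_one, pow_two])

/-- a point collinear with a Suzuki pair -/
structure Cx (D : Set G) (p s x : G) : Prop where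
  sg : SG D
  hp : p ∈ D
  hs : s ∈ D
  hx : x ∈ D
  sp : Commute s p
  xp : Commute x p
  o : Od s x
  lc : Loc (Gam D p s) s x

namespace Cx

variable [Finite G] {p s x : G} (C : Cx D p s x)
include C

theorem mD {z : G} (h : z ∈ Gam D p s) : z ∈ D := (gam_mem C.hs C.sp h).1
theorem mp {z : G} (h : z ∈ Gam D p s) : Commute z p := (gam_mem C.hs C.sp h).2
theorem ms : s ∈ Gam D p s := .refl
theorem mx : x ∈ Gam D p s := gam_od C.ms C.hx C.xp C.o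
theorem s2 {z : G} (h : z ∈ Gam D p s) : z * z = 1 := sq C.sg.ot.1 (C.mD h)
theorem iv {z : G} (h : z ∈ Gam D p s) : z⁻¹ = z := inv C.sg.ot.1 (C.mD h)
theorem nsx : ¬ Commute s x := not_comm C.sg.ot.1 C.hs C.hx C.o

theorem out {z w : G} (hz : z ∈ D) (zp : Commute z p) (h : z ∉ Gam D p s) (hw : w ∈ Gam D p s) : Commute z w :=
  (cm_of C.sg.ot (C.mD hw) hz fun o => h (gam_od hw hz zp o)).symm

theorem cj {g z : G} (hg : g ∈ Gam D p s) (hz : z ∈ Gam D p s) : g * z * g⁻¹ ∈ Gam D p s :=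
  gam_conj C.sg.ot C.hs C.sp (subset_closure hg) hz

theorem cj' {g z : G} (hg : g ∈ Gam D p s) (hz : z ∈ Gam D p s) : g * z * g ∈ Gam D p s := by simpa [C.iv hg] using C.cj hg hz

theorem ex_od {z : G} (hz : z ∈ Gam D p s) : ∃ w ∈ Gam D p s, Od z w := by
  by_contra! h
  exact C.nsx (C.lc.tr s C.ms z hz x C.mx (cm_of C.sg.ot (C.mD hz) C.hs (h s C.ms)).symm (cm_of C.sg.ot (C.mD hz) C.hx (h x C.mx)))

theorem mE {z e : G} (hz : z ∈ Gam D p s) (he : e ∈ sameCommutingClass D z) : e ∈ Gam D p s :=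
  let ⟨_, hw, o⟩ := C.ex_od hz
  gam_od hw he.1 (E_cm (E_self (C.mD hz)) he C.hp (C.mp hz).symm).symm (E_od C.sg.ot (C.mD hz) he (C.mD hw) o).symm

theorem nE {z : G} (hz : z ∈ Gam D p s) : z ∉ sameCommutingClass D p := fun h =>
  let ⟨_, hw, o⟩ := C.ex_od hz
  not_comm C.sg.ot.1 (C.mD hz) (C.mD hw) o (E_cm (E_self C.hp) h (C.mD hw) (C.mp hw)).symm

/-- the kernel on the commuting classes -/
def K : Subgroup G where
  carrier := Kr (Gam D p s)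
  one_mem' := fun z hz => by simpa
  mul_mem' := fun {a b} ha hb z hz => by
    have h1 := hb z hz
    have h2 := ha _ h1.1
    rw [show a * b * z * (a * b)⁻¹ = a * (b * z * b⁻¹) * a⁻¹ by group]
    exact ⟨h2.1, C.lc.tr _ h2.1 _ h1.1 _ hz h2.2 h1.2⟩
  inv_mem' := fun {a} ha z hz => by
    obtain ⟨w, hw, rfl⟩ := (((Set.toFinite _).injOn_iff_bijOn_of_mapsTo (f := MulAut.conj a) fun z hz => (ha z hz).1).1
      (MulAut.conj a).injective.injOn).surjOn hz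
    simpa [mul_assoc, hw] using (ha w hw).2.symm

theorem mK {g : G} : g ∈ C.K ↔ g ∈ Kr (Gam D p s) := Iff.rfl

theorem kc {g k : G} (hg : g ∈ Gam D p s) (hk : k ∈ C.K) : g * k * g ∈ C.K := by
  simpa only [C.iv hg, C.mK] using kr_conj (fun z hz => C.cj hg hz) (fun z hz => by simpa only [C.iv hg] using C.cj' hg hz) hk

theorem kz {k z : G} (hk : k ∈ C.K) (hz : z ∈ Gam D p s) : z * (k * z * k⁻¹) ∈ C.K := by
  simpa [mul_assoc] using mul_mem (C.kc hz hk) (inv_mem hk)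

theorem kcm {a b : G} (ha : a ∈ Gam D p s) (hb : b ∈ Gam D p s) (h : a * b ∈ C.K) : Commute a b :=
  cm_of C.sg.ot (C.mD ha) (C.mD hb) fun o => not_comm C.sg.ot.1 (C.mD ha) (C.mD (C.cj' hb ha)) (od_sq C.sg.ot.1 (C.mD ha) (C.mD hb) o) (by
    have := cm_w (C.s2 ha) (h a ha).2
    simpa [mul_assoc, C.iv ha, C.iv hb, C.s2 ha, cc (C.s2 ha)] using this.symm.eq)

theorem nK {z : G} (hz : z ∈ Gam D p s) : z ∉ C.K := fun h =>
  let ⟨w, hw, o⟩ := C.ex_od hz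
  not_comm C.sg.ot.1 (C.mD hw) (C.mD (C.cj' hz hw)) (od_sq C.sg.ot.1 (C.mD hw) (C.mD hz) o.symm) (by
    simpa only [C.iv hz] using (h w hw).2.symm.eq)

theorem kE {a b : G} (ha : a ∈ Gam D p s) (hb : b ∈ sameCommutingClass D a) (h : a * b ∈ C.K) : a = b :=
  by_contra fun e => C.nK (C.mE ha (C.sg.grp (C.mD ha) hb e)) h

theorem b1 {u w t : G} (hu : u ∈ Gam D p s) (hw : w ∈ Gam D p s) (o : ¬ Commute u w) (ht : t ∈ Gam D p s) (h : u * t ∈ C.K) :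
    ∃ w' ∈ Gam D p s, w * w' ∈ C.K ∧ t = w * w' * u * (w * w') := by
  have hD := C.sg.ot
  have c := (C.kcm hu ht h).symm
  have w2 := sq_cm (C.s2 ht) (C.s2 hu) c
  have hS : ∀ y ∈ ({w, p} : Set G), y ∈ D ∧ Commute y w := by
    rintro _ (rfl | rfl)
    exacts [⟨C.mD hw, rfl⟩, ⟨C.hp, (C.mp hw).symm⟩]
  have o' := od_of hD (C.mD hu) (C.mD hw) o
  obtain ⟨t', ht', e⟩ := bij hD (t := t) (C.mD hw) (C.mD hu) o'.symm hS (by simp) ⟨C.mD ht, c, by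
    have := h w hw
    rw [← c.eq, inv_eq_of_mul_eq_one_right w2] at this
    rintro _ (rfl | rfl)
    exacts [this.2.symm, (C.mp this.1).symm]⟩
  have w2' := sq_cm (sq hD.1 ht'.1) (C.s2 hu) ht'.2.1
  have m := gam_od hu (cjw hD.1 w2' (C.mD hw)) (ht'.2.2 p (by simp)).symm (by
    simpa only [fix_w w2' (ht'.2.1.mul_left (Commute.refl u))] using od_w w2' o')
  refine ⟨_, m, C.lc.t3 w hw _ m (ht'.2.2 w (by simp)) u hu o ?_, e⟩
  change Commute (xi w u t' * u * (xi w u t')⁻¹) u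
  rw [inv_eq_of_mul_eq_one_right (bij_step hD (C.mD hw) (C.mD hu) hS (by simp) ht').2.1]
  exact e ▸ c

theorem fib {y : G} (hy : y ∈ Gam D p s) (ys : Commute y s) (h : y ∉ sameCommutingClass D s) :
    ∃ t ∈ Gam D p s, t ≠ s ∧ s * t ∈ C.K := by
  have hD := C.sg.ot
  by_contra! h0
  have h1 : ∀ a ∈ Gam D p s, ∀ b ∈ Gam D p s, a * b ∈ C.K → b = a := fun a ha b hb k => by
    obtain ⟨g, hg, rfl⟩ := (gam_orb hD C.hs C.sp).ge ha
    have := kr_conj (g := g⁻¹) (fun z hz => gam_conj hD C.hs C.sp (inv_mem hg) hz)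
      (fun z hz => by simpa using gam_conj hD C.hs C.sp hg hz) k
    have := of_not_not (mt (h0 _ (gam_conj hD C.hs C.sp (inv_mem hg) hb)) (not_not.2 (by simpa [mul_assoc, C.mK] using this)))
    rw [← this]; group
  obtain ⟨c, hc, cs, k⟩ := C.lc.t4 y hy ys fun k => h (by rw [← h1 y hy s C.ms k]; exact E_self C.hs)
  obtain ⟨u, hu, o, h2, h3⟩ := C.lc.t6
  obtain ⟨b, hb⟩ := C.sg.ln.at hD.1 C.sg.cl C.hs
  have bE := pp_E hD C.hs hb
  have pE := pp_E hD C.hs (partner_mul hD.1 C.hs hb)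
  have uL : u * x ∈ closure (Gam D p s) := mul_mem (subset_closure hu) (subset_closure C.mx)
  have cy := C.lc.tr c hc s C.ms y hy cs ys.symm
  have := norm_one (W := {a | a ∈ Gam D p s ∧ Commute a s}) (fun a ha b hb => C.lc.tr a ha.1 s C.ms b hb.1 ha.2 hb.2.symm) o.2
    (fun a ha => ⟨gam_conj hD C.hs C.sp uL ha.1, C.lc.tr _ (gam_conj hD C.hs C.sp uL ha.1) _ (gam_conj hD C.hs C.sp uL C.ms) _ C.ms
      (ha.2.map (MulAut.conj (u * x))) h2⟩)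
    (fun a ha => (h3 a ha.1 ha.2).imp fun m k => h1 _ (gam_conj hD C.hs C.sp (pow_mem uL m) C.ms) a ha.1 k) ⟨C.ms, rfl⟩
    ⟨C.mE C.ms bE, hb.1.2.1⟩ ⟨C.mE C.ms pE, E_ab pE (E_self C.hs)⟩ ⟨hc, cs⟩ ⟨hy, ys⟩ rfl
    (cent_cl (fun z hz => mul_inv_eq_iff_eq_mul.1 (h1 z hz _ (k z hz).1 (C.kz k hz))) uL)
    (sq_cm (C.s2 hc) (sq_cm (C.s2 hy) (C.s2 C.ms) ys) (cy.mul_right cs))
  rw [mul_eq_one_iff_inv_eq, C.iv hc] at this
  exact h (pp_E hD C.hs ⟨⟨C.mD hy, ys, fun e => h (by rw [e]; exact E_self C.hs)⟩, this ▸ C.mD hc⟩)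

theorem same {v : G} (C' : Cx D v s x) (vp : Commute v p) : Gam D v s ⊆ Gam D p s := by
  have : p ∉ Gam D v s := fun h => C.nsx (C'.lc.tr s C'.ms p h x C'.mx C.sp C.xp.symm)
  intro z hz
  induction hz with
  | refl => exact C.ms
  | tail h h' ih => exact gam_od ih h'.1 (C'.out C.hp vp.symm this (ReflTransGen.tail h h')).symm h'.2.2

theorem g1 (hC : ∀ v ∈ D, Commute s v → Commute x v → Cx D v s x) {t : G} (ht : t ∈ Gam D p s) (ts : t ≠ s) (k : s * t ∈ C.K)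
    {v : G} (hv : v ∈ D) (vp : Commute v p) : v ∈ Gam D p s ∨ v ∈ sameCommutingClass D p := by
  have hD := C.sg.ot
  have fc := fconn hD.1 C.sg.cl C.hs C.hx C.o
  have P : ∀ v ∈ D, Commute v p → v ∉ Gam D p s → ∀ z ∈ D, Commute z v → z ∈ Gam D p s ∨ ∀ w ∈ Gam D p s, Commute z w :=
    fun v hv vp h z hz zv => by
      have h1 := fun w => C.out (w := w) hv vp h
      have C' := hC v hv (h1 s C.ms).symm (h1 x C.mx).symm
      refine or_iff_not_imp_left.2 fun n w hw => C'.out hz zv (fun h => n (C.same C' vp h)) ?_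
      induction hw with
      | refl => exact C'.ms
      | tail h h' ih => exact gam_od ih h'.1 (h1 _ (ReflTransGen.tail h h')).symm h'.2.2
  by_contra! h
  obtain ⟨f, hf, fv, fp⟩ : ∃ f ∈ D, Commute f v ∧ ¬ Commute f p := by
    by_contra! h'
    exact h.2 (E_symm hv (E_of hD.1 fc hv C.hp h'))
  have f1 := (P v hv vp h.1 f hf fv).resolve_left fun h => fp (C.mp h)
  have st := C.kcm C.ms ht k
  obtain ⟨g, hg, gs, gt⟩ : ∃ g ∈ D, Commute g s ∧ ¬ Commute g t := by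
    by_contra! h'
    exact ts (C.kE C.ms (E_of hD.1 fc C.hs (C.mD ht) h') k).symm
  have g1 : ∀ v ∈ D, Commute v p → v ∉ Gam D p s → ¬ Commute g v := fun v hv vp h c =>
    gt ((P v hv vp h g hg c).elim (fun h => C.lc.tr g h s C.ms t ht gs st) fun h => h t ht)
  have pn : p ∉ Gam D p s := fun h => C.nE h (E_self C.hp)
  obtain ⟨n, hn⟩ := C.sg.cl s C.hs p C.hp
  have cn : ∀ z ∈ D, Commute z s → n * z * n⁻¹ ∈ D ∧ Commute (n * z * n⁻¹) p := fun z hz c =>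
    ⟨hD.1.conj_mem z hz n, hn ▸ c.map (MulAut.conj n)⟩
  have uc : ∀ {a b : G}, Commute (n * a * n⁻¹) (n * b * n⁻¹) → Commute a b := fun h => by
    simpa [mul_assoc] using h.map (MulAut.conj n⁻¹)
  have od : ∀ a ∈ D, ∀ b ∈ D, Commute b s → ¬ Commute a b → n * a * n⁻¹ ∈ Gam D p s → n * b * n⁻¹ ∈ Gam D p s :=
    fun a ha b hb c e h => gam_od h (cn b hb c).1 (cn b hb c).2 ((od_of hD ha hb e).conj n)
  have n1 : n * p * n⁻¹ ∉ Gam D p s := fun h => fp (uc (C.lc.tr _ (od p C.hp f hf (f1 s C.ms) (fun c => fp c.symm) h)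
    _ (od g hg t (C.mD ht) st.symm gt (od p C.hp g hg gs (fun c => g1 p C.hp rfl pn c.symm) h)) _ h
    ((f1 t ht).map (MulAut.conj n)) ((C.mp ht).map (MulAut.conj n))))
  have n2 : n * g * n⁻¹ ∉ Gam D p s := fun h => n1 (od g hg p C.hp C.sp.symm (g1 p C.hp rfl pn) h)
  have k1 : ∀ z ∈ Gam D p s, n⁻¹ * z * n ∈ Gam D p s ∧ Commute (n⁻¹ * z * n) s := fun z hz => by
    have e : n * (n⁻¹ * z * n) * n⁻¹ = z := by group
    have zD : n⁻¹ * z * n ∈ D := by simpa using hD.1.conj_mem z (C.mD hz) n⁻¹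
    exact ⟨by_contra fun h => g1 _ zD (uc (e.symm ▸ (C.out (cn p C.hp C.sp.symm).1 (cn p C.hp C.sp.symm).2 n1 hz).symm)) h
      (uc (e.symm ▸ C.out (cn g hg gs).1 (cn g hg gs).2 n2 hz)), uc (by rw [e, ← hn]; exact C.mp hz)⟩
  have := (C.lc.tr _ (k1 s C.ms).1 s C.ms _ (k1 x C.mx).1 (k1 s C.ms).2 (k1 x C.mx).2.symm).map (MulAut.conj n)
  exact C.nsx (by simpa [mul_assoc] using this)

/-- same action on the line -/
def Ap (D : Set G) (p s a b : G) : Prop := ∀ y ∈ D, Commute y p → Commute y s → a * y * a⁻¹ = b * y * b⁻¹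

variable (hG : ∀ v ∈ D, Commute v p → v ∈ Gam D p s ∨ v ∈ sameCommutingClass D p)
include hG

theorem clq {w y z : G} (hw : w ∈ Gam D p s) (hy : y ∈ D) (yp : Commute y p) (yw : Commute y w) (hz : z ∈ D) (zp : Commute z p)
    (zw : Commute z w) : Commute y z := by
  rcases hG y hy yp with h | h
  · rcases hG z hz zp with h' | h'
    · exact C.lc.tr y h w hw z h' yw zw.symm
    · exact E_cm (E_self C.hp) h' hy yp
  · exact (E_cm (E_self C.hp) h hz zp).symm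

theorem nl {z z' y : G} (hz : z ∈ Gam D p s) (hz' : z' ∈ Gam D p s) (k : z * z' ∈ C.K) (hy : y ∈ D) (yp : Commute y p)
    (ys : Commute y s) : z * z' * y * (z * z')⁻¹ ∈ D ∧ Commute (z * z' * y * (z * z')⁻¹) p ∧ Commute (z * z' * y * (z * z')⁻¹) s := by
  rcases hG y hy yp with h | h
  · exact ⟨C.mD (k y h).1, C.mp (k y h).1, C.lc.tr _ (k y h).1 y h s C.ms (k y h).2 ys⟩
  · rw [((E_cm (E_self C.hp) h (C.mD hz) (C.mp hz)).mul_left (E_cm (E_self C.hp) h (C.mD hz') (C.mp hz'))).eq, mul_inv_cancel_right]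
    exact ⟨hy, yp, ys⟩

theorem sw {w η y : G} (hw : w ∈ Gam D p s) (ws : ¬ Commute s w) (h1 : Commute η s)
    (h : ∀ y ∈ D, Commute y p → Commute y w → Commute η y) (hy : y ∈ D) (yp : Commute y p) (ys : Commute y s) : Commute η y := by
  have hD := C.sg.ot
  obtain ⟨u, hu, e, -, m⟩ := swp hD.1 C.hs (C.mD hw) (od_of hD C.hs (C.mD hw) ws)
  have u2 := sq hD.1 hu
  have c1 : Commute u η := mem_centralizer_singleton_iff.1 (m _ (mem_centralizer_singleton_iff.2 h1.symm)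
    (mem_centralizer_singleton_iff.2 (h w (C.mD hw) (C.mp hw) rfl).symm))
  have c2 : Commute u p := mem_centralizer_singleton_iff.1 (m _ (mem_centralizer_singleton_iff.2 C.sp)
    (mem_centralizer_singleton_iff.2 (C.mp hw)))
  have := cm_cj u2 (h _ (cjw hD.1 u2 hy) ((c2.mul_left yp).mul_left c2) (e ▸ cm_w u2 ys))
  rwa [fix_w u2 c1] at this

theorem u1 {w g : G} (hw : w ∈ Gam D p s) (ws : ¬ Commute s w) (hg : g ∈ C.K) (h : ∀ y ∈ D, Commute y p → Commute y w → Commute g y) :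
    ∃ w' ∈ Gam D p s, w * w' ∈ C.K ∧ Ap D p s g (w * w') := by
  obtain ⟨w', hw', k, e⟩ := C.b1 C.ms hw ws (hg s C.ms).1 (C.kz hg C.ms)
  have c := C.kcm hw hw' k
  have x2 := sq_cm (C.s2 hw) (C.s2 hw') c
  refine ⟨w', hw', k, fun y hy yp ys => ?_⟩
  have := C.sw hG hw ws (η := w * w' * g) (mul_inv_eq_iff_eq_mul.1 (by
    rw [mul_inv_rev, mul_assoc _ g, mul_assoc _ (g * s), ← mul_assoc (g * s), e, inv_eq_of_mul_eq_one_right x2]
    simp only [mul_assoc (w * w'), mul_assoc s, cc x2, x2, mul_one])) (fun y hy yp yw =>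
      (yw.symm.mul_left (C.clq hG hw (C.mD hw') (C.mp hw') c.symm hy yp yw)).mul_left (h y hy yp yw)) hy yp ys
  calc g * y * g⁻¹ = (w * w')⁻¹ * (w * w' * g * y * (w * w' * g)⁻¹) * (w * w') := by group
    _ = _ := by rw [this.eq, mul_inv_cancel_right, inv_eq_of_mul_eq_one_right x2]

theorem allA {w w' : G} (hw : w ∈ Gam D p s) (ws : ¬ Commute w s) (hw' : w' ∈ Gam D p s) (k : w * w' ∈ C.K) :
    ∃ x' ∈ Gam D p s, x * x' ∈ C.K ∧ Ap D p s (w * w') (x * x') := by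
  let A : G → Prop := fun w => ∀ w' ∈ Gam D p s, w * w' ∈ C.K → ∃ x' ∈ Gam D p s, x * x' ∈ C.K ∧ Ap D p s (w * w') (x * x')
  have m0 : A x := fun x' h k => ⟨x', h, k, fun _ _ _ _ => rfl⟩
  have m1 : ∀ w ∈ Gam D p s, ¬ Commute s w → A w → ∀ z ∈ Gam D p s, Commute z w → A z := fun w hw ws a z hz zw z' hz' k => by
    obtain ⟨w', h1, h2, h3⟩ := C.u1 hG hw ws k fun y hy yp yw => (C.clq hG hw (C.mD hz) (C.mp hz) zw hy yp yw).mul_left
      (C.clq hG hw (C.mD hz') (C.mp hz') (C.lc.tr _ hz' z hz w hw (C.kcm hz hz' k).symm zw) hy yp yw)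
    obtain ⟨x', h4, h5, h6⟩ := a w' h1 h2
    exact ⟨x', h4, h5, fun y hy yp ys => (h3 y hy yp ys).trans (h6 y hy yp ys)⟩
  have m2 : ∀ e ∈ Gam D p s, Commute e s → ∀ w ∈ Gam D p s, A w → A (e * w * e) := fun e he es w hw a z hz k => by
    have k' : w * (e * z * e) ∈ C.K := by simpa [mul_assoc, cc (C.s2 he)] using C.kc he k
    obtain ⟨x', h4, h5, h6⟩ := a _ (C.cj' he hz) k'
    refine ⟨x', h4, h5, fun y hy yp ys => ?_⟩
    obtain ⟨a1, a2, a3⟩ := C.nl hG hw (C.cj' he hz) k' hy yp ys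
    have c1 := C.clq hG C.ms (C.mD he) (C.mp he) es hy yp ys
    rw [← h6 y hy yp ys, ← fix_w (C.s2 he) (C.clq hG C.ms (C.mD he) (C.mp he) es a1 a2 a3)]
    nth_rewrite 2 [← fix_w (C.s2 he) c1]
    simp [mul_assoc, cc (C.s2 he), C.iv he]
  have m3 : ∀ w ∈ Gam D p s, A w → A (w * s * w) := fun w hw a z hz k => by
    have k' : s * (w * z * w) ∈ C.K := by simpa [mul_assoc, cc (C.s2 hw)] using C.kc hw k
    obtain ⟨x', h4, h5, h6⟩ := a _ (k' w hw).1 (C.kz k' hw)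
    refine ⟨x', h4, h5, fun y hy yp ys => ?_⟩
    have c := C.kcm C.ms (C.cj' hw hz) k'
    have c1 := ys.symm.mul_left (C.clq hG C.ms (C.mD (C.cj' hw hz)) (C.mp (C.cj' hw hz)) c.symm hy yp ys)
    have e : w * s * w * z = w * (s * (w * z * w) * w * (s * (w * z * w))⁻¹) * (s * (w * z * w)) := by
      simp [mul_assoc, C.s2 hw]
    rw [← h6 y hy yp ys, e, mul_assoc _ _ y, c1.eq]; group
  obtain ⟨e, he, z, hz, h1, h2⟩ := C.lc.t5 w hw ws
  have xs := C.cj' C.mx C.ms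
  have a1 : A z := h1.elim (· ▸ m0) (m1 _ xs (not_comm C.sg.ot.1 C.hs (C.mD xs) (od_sq C.sg.ot.1 C.hs C.hx C.o)) (m3 x C.mx m0) z hz)
  have zs := C.cj' hz C.ms
  have k1 : ∀ v ∈ Gam D p s, Commute v w → A v → A w := fun v hv c a =>
    m1 v hv (fun h => ws (C.lc.tr w hw v hv s C.ms c.symm h.symm)) a w hw c.symm
  rcases he with rfl | ⟨he, es⟩
  · exact k1 _ zs (by simpa [C.iv hz] using h2) (m3 z hz a1) w' hw' k
  · exact k1 _ (C.cj' he zs) (by simpa [C.iv hz, C.iv he, mul_assoc] using h2) (m2 e he es _ zs (m3 z hz a1)) w' hw' k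

theorem fx {x' y : G} (hx' : x' ∈ Gam D p s) (ne : x' ≠ x) (k : x * x' ∈ C.K) (hy : y ∈ D) (yp : Commute y p) (ys : Commute y s)
    (h : x * x' * y * (x * x')⁻¹ ∈ sameCommutingClass D y) : y ∈ sameCommutingClass D p := (hG y hy yp).resolve_left fun h' =>
  C.nsx (C.lc.tr s C.ms y h' x C.mx ys.symm (cd C.sg.ot C.hx (C.mD hx') hy (C.kcm C.mx hx' k) ne.symm
    (mul_inv_eq_iff_eq_mul.1 (C.kE h' h (C.kz k h')).symm).symm))

theorem stab {m z : G} (hm : m * p * m⁻¹ ∈ sameCommutingClass D p) (hz : z ∈ Gam D p s) : m * z * m⁻¹ ∈ Gam D p s := by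
  have hD := C.sg.ot.1
  refine (hG _ (hD.conj_mem z (C.mD hz) m) (E_cm hm (E_self C.hp) (hD.conj_mem z (C.mD hz) m)
    ((C.mp hz).map (MulAut.conj m)))).resolve_right fun h => C.nE hz ?_
  simpa [mul_assoc] using E_conj hD (E_tr (E_symm C.hp hm) h) m⁻¹

theorem rcent {a b x' : G} (B : Bad D s x a b) (hx' : x' ∈ Gam D p s) (k : x * x' ∈ C.K) :
    Ap D p s (a * b * a⁻¹ * b⁻¹ * (x * x') * (a * b * a⁻¹ * b⁻¹)⁻¹) (x * x') := by
  have hD := C.sg.ot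
  by_cases ne : x' = x
  · rw [ne, C.s2 C.mx, mul_one, mul_inv_cancel]; exact fun _ _ _ _ => rfl
  set l : Set G := {y | y ∈ D ∧ Commute y p ∧ Commute y s}
  let H := normalizer l
  have mH : ∀ {g}, (∀ y ∈ l, g * y * g⁻¹ ∈ l) → g ∈ H := fun h => mem_normalizer_fintype h
  let T := (centralizer l).subgroupOf H
  have : T.Normal := ⟨fun n hn g y hy => by
    have := (show Commute ((g : G)⁻¹ * y * g) n from hn _ (by simpa using (inv_mem g.2 y).1 hy)).map (MulAut.conj (g : G))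
    simpa [mul_assoc] using this.eq⟩
  let φ := QuotientGroup.mk' T
  have hφ : ∀ u v : H, φ u = φ v ↔ Ap D p s u v := fun u v => by
    rw [QuotientGroup.mk'_apply, QuotientGroup.mk'_apply, QuotientGroup.eq]
    refine ⟨fun h y h1 h2 h3 => ?_, fun h y hy => ?_⟩
    · have : y * ((u : G)⁻¹ * v) = (u : G)⁻¹ * v * y := h y ⟨h1, h2, h3⟩
      calc (u : G) * y * (u : G)⁻¹ = u * (y * ((u : G)⁻¹ * v)) * (v : G)⁻¹ := by group
        _ = _ := by rw [this]; group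
    · change y * ((u : G)⁻¹ * v) = (u : G)⁻¹ * v * y
      calc _ = (u : G)⁻¹ * (u * y * (u : G)⁻¹) * v := by group
        _ = _ := by rw [h y hy.1 hy.2.1 hy.2.2]; group
  let Zx : H → Prop := fun ξ => ∃ x' ∈ Gam D p s, x' ≠ x ∧ x * x' ∈ C.K ∧ (ξ : G) = x * x'
  have mZ : ∀ x' ∈ Gam D p s, x * x' ∈ C.K → x * x' ∈ H := fun x' h k => mH fun y hy => C.nl hG C.mx h k hy.1 hy.2.1 hy.2.2
  have pl : p ∈ l := ⟨C.hp, rfl, C.sp.symm⟩
  have n1 : ∀ ξ, Zx ξ → φ ξ ≠ 1 := by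
    rintro ξ ⟨x', h1, h2, h3, e⟩ h
    have := (hφ ξ 1).1 h s C.hs C.sp rfl
    exact C.nE C.ms (C.fx hG h1 h2 h3 C.hs C.sp rfl (by rw [← e, this]; simpa using E_self C.hs))
  have z2 : ∀ ξ, Zx ξ → φ ξ * φ ξ = 1 := by
    rintro ξ ⟨x', h1, -, h3, e⟩
    rw [← map_mul, show ξ * ξ = 1 from Subtype.ext (by rw [coe_mul, e]; exact sq_cm (C.s2 C.mx) (C.s2 h1) (C.kcm C.mx h1 h3)), map_one]
  have zc : ∀ ξ, Zx ξ → ∀ y ∈ D, Commute y p → Commute y x → Commute (ξ : G) y := by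
    rintro ξ ⟨x', h1, -, h3, e⟩ y hy yp yx
    exact e ▸ yx.symm.mul_left (C.clq hG C.mx (C.mD h1) (C.mp h1) (C.kcm C.mx h1 h3).symm hy yp yx)
  have k1 : ∀ (m ξ : H), Zx ξ → m * p * (m : G)⁻¹ ∈ sameCommutingClass D p → ∃ ξ', Zx ξ' ∧ φ m * φ ξ * (φ m)⁻¹ = φ ξ' := by
    rintro m ξ ⟨x', h1, h2, h3, e⟩ hm
    have hm' : (m : G)⁻¹ * p * (m : G)⁻¹⁻¹ ∈ sameCommutingClass D p := by
      simpa [mul_assoc] using E_conj hD.1 (E_symm C.hp hm) (m : G)⁻¹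
    have e1 : m * x * (m : G)⁻¹ * (m * x' * (m : G)⁻¹) = m * ξ * (m : G)⁻¹ := by rw [e]; group
    obtain ⟨y, h4, h5, h6⟩ := C.allA hG (C.stab hG hm C.mx) (fun c => C.nsx ((m.2 x).2
      ⟨C.mD (C.stab hG hm C.mx), C.mp (C.stab hG hm C.mx), c⟩).2.2.symm) (C.stab hG hm h1) (by
        rw [e1, e]; exact kr_conj (fun z => C.stab hG hm) (fun z hz => by simpa using C.stab hG hm' hz) h3)
    have e2 : φ m * φ ξ * (φ m)⁻¹ = φ ⟨_, mZ y h4 h5⟩ := by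
      rw [← map_mul, ← map_inv, ← map_mul, hφ]; rw [e1] at h6; exact h6
    refine ⟨_, ⟨y, h4, fun e' => n1 ξ ⟨x', h1, h2, h3, e⟩ ?_, h5, rfl⟩, e2⟩
    rw [show (⟨_, mZ y h4 h5⟩ : H) = 1 from Subtype.ext (show x * y = 1 by rw [e']; exact C.s2 C.mx), map_one] at e2
    simpa using e2
  have k2 : ∀ ξ ξ', Zx ξ → Zx ξ' → Commute (φ ξ) (φ ξ') := fun ξ ξ' h h' => by
    obtain ⟨y, h1, -, h3, e⟩ := h'
    exact (show Commute ξ ξ' from Subtype.ext (show Commute (ξ : G) ξ' from e ▸ (zc ξ h x C.hx C.xp rfl).mul_right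
      (zc ξ h y (C.mD h1) (C.mp h1) (C.kcm C.mx h1 h3).symm))).map φ
  have k3 : ∀ (n n' ξ ξ' : H), Zx ξ → Zx ξ' → (Commute (φ n * φ ξ * (φ n)⁻¹) (φ n' * φ ξ' * (φ n')⁻¹) ↔
      n' * p * (n' : G)⁻¹ ∈ sameCommutingClass D (n * p * (n : G)⁻¹)) := fun n n' ξ ξ' h h' => by
    refine ⟨fun c => ?_, fun c => ?_⟩
    · set v := n⁻¹ * (n' * ξ' * n'⁻¹) * n with hv
      have e : φ (v * ξ * v⁻¹) = φ ξ := by
        have := c.map (MulAut.conj (φ n)⁻¹)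
        rw [map_mul, map_mul, map_inv, mul_inv_eq_iff_eq_mul]
        simpa [hv, mul_assoc] using this.symm.eq
      have h1 := (v.2 p).1 pl
      have h2 := (hφ _ _).1 e _ h1.1 h1.2.1 h1.2.2
      have h3 := zc ξ h p C.hp rfl C.xp.symm
      obtain ⟨y, a1, a2, a3, a4⟩ := h
      have h4 := C.fx hG a1 a2 a3 h1.1 h1.2.1 h1.2.2 (by
        rw [← a4, ← h2, show ((v * ξ * v⁻¹ : H) : G) * (v * p * (v : G)⁻¹) * ((v * ξ * v⁻¹ : H) : G)⁻¹ =
          v * (ξ * p * (ξ : G)⁻¹) * (v : G)⁻¹ by simp [mul_assoc], h3.eq, mul_inv_cancel_right]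
        exact E_self h1.1)
      obtain ⟨y, a1, a2, a3, a4⟩ := h'
      have h5 := ((n'⁻¹ * n).2 p).1 pl
      have h6 := C.fx hG a1 a2 a3 h5.1 h5.2.1 h5.2.2 (by
        rw [← a4]; simpa [hv, mul_assoc] using E_conj hD.1 h4 ((n' : G)⁻¹ * n))
      exact E_symm (hD.1.conj_mem p C.hp _) (by simpa [mul_assoc] using E_conj hD.1 h6 n')
    · obtain ⟨η, h1, e⟩ := k1 (n⁻¹ * n') ξ' h' (by simpa [mul_assoc] using E_conj hD.1 c (n : G)⁻¹)
      have := (k2 ξ η h h1).map (MulAut.conj (φ n))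
      rw [← e] at this
      simpa [mul_assoc] using this
  have XH : ∀ g ∈ XX D s x, g * s * g⁻¹ ∈ sameCommutingClass D s → g ∈ H ∧ g * p * g⁻¹ = p := fun g hg h => by
    have c := XX_cent C.hs C.hp C.sp.symm C.xp.symm hg
    refine ⟨mH fun y hy => ⟨hD.1.conj_mem y hy.1 g, (c.symm.mul_left hy.2.1).mul_left c.symm.inv_left, ?_⟩,
      by rw [← c.eq, mul_inv_cancel_right]⟩
    exact E_cm h (E_self C.hs) (hD.1.conj_mem y hy.1 g) (hy.2.2.map (MulAut.conj g))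
  obtain ⟨aH, ap⟩ := XH a B.aX B.aE
  obtain ⟨bH, bp⟩ := XH b B.bX B.bE
  obtain ⟨rH, rp⟩ := XH _ (mul_mem (mul_mem (mul_mem B.aX B.bX) (inv_mem B.aX)) (inv_mem B.bX)) (by
    rw [B.rs.eq, mul_inv_cancel_right]; exact E_self C.hs)
  obtain ⟨n, nH, hn⟩ : ∃ n ∈ H, n * p * n⁻¹ = s := by
    obtain ⟨g, hg⟩ := C.sg.cl p C.hp s C.hs
    have h1 : g⁻¹ * p * g ∈ D := by simpa using hD.1.conj_mem p C.hp g⁻¹
    have h2 : Commute (g⁻¹ * p * g) p := by simpa [hg, mul_assoc] using C.sp.symm.map (MulAut.conj g⁻¹)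
    obtain ⟨u, up, us⟩ : ∃ u, Commute u p ∧ Commute (u⁻¹ * (g⁻¹ * p * g) * u) s := by
      by_cases c : Commute s (g⁻¹ * p * g)
      · exact ⟨1, Commute.one_left _, by simpa using c.symm⟩
      obtain ⟨u, hu, e⟩ := od_conj hD.1 C.hs h1 (od_of hD C.hs h1 c) (Y := centralizer {p})
        (mem_centralizer_singleton_iff.2 C.sp) (mem_centralizer_singleton_iff.2 h2)
      exact ⟨u, mem_centralizer_singleton_iff.1 hu, by simp [e, mul_assoc]⟩
    have e : g * u * p * (g * u)⁻¹ = s := by rw [hg, mul_assoc g, up.eq]; group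
    refine ⟨g * u, mH fun y hy => ⟨hD.1.conj_mem y hy.1 _, ?_, e ▸ hy.2.1.map (MulAut.conj (g * u))⟩, e⟩
    have := (C.clq hG C.ms hy.1 hy.2.1 hy.2.2 (by simpa using hD.1.conj_mem _ h1 u⁻¹)
      ((up.inv_left.mul_left h2).mul_left up) us).map (MulAut.conj (g * u))
    simpa [mul_assoc] using this
  have hξ : Zx ⟨_, mZ x' hx' k⟩ := ⟨x', hx', ne, k, rfl⟩
  set ξ : H := ⟨_, mZ x' hx' k⟩
  refine (hφ (⟨_, rH⟩ * ξ * ⟨_, rH⟩⁻¹) ξ).1 (by_contra fun ne => ?_)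
  have i1 : φ ξ = φ 1 * φ ξ * (φ 1)⁻¹ := by simp
  have i2 : ∀ g (hg : g ∈ H), g * p * g⁻¹ = p → Commute (φ ⟨g, hg⟩ * φ ξ * (φ ⟨g, hg⟩)⁻¹) (φ ξ) := fun g hg e => by
    nth_rewrite 2 [i1]
    rw [k3 _ _ _ _ hξ hξ, e]; simpa using E_self C.hp
  have i3 : ∀ g (hg : g ∈ H), g * s * g⁻¹ ∈ sameCommutingClass D s → Commute (φ ⟨g, hg⟩ * (φ ⟨n, nH⟩ * φ ξ * (φ ⟨n, nH⟩)⁻¹) *
      (φ ⟨g, hg⟩)⁻¹) (φ ⟨n, nH⟩ * φ ξ * (φ ⟨n, nH⟩)⁻¹) := fun g hg e => by
    have := (k3 ⟨n, nH⟩ (⟨g, hg⟩ * ⟨n, nH⟩) _ _ hξ hξ).2 (by simpa [← hn, mul_assoc] using e)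
    simpa only [map_mul, mul_inv_rev, mul_assoc] using this.symm
  obtain ⟨j, hj⟩ := B.two
  have er : φ ⟨a, aH⟩ * φ ⟨b, bH⟩ * (φ ⟨a, aH⟩)⁻¹ * (φ ⟨b, bH⟩)⁻¹ = φ ⟨_, rH⟩ := rfl
  refine ne (jj (Z := {m | ∃ n ξ, Zx ξ ∧ m = φ n * φ ξ * (φ n)⁻¹}) ?_ ?_ ?_ ?_ ⟨1, ξ, hξ, i1⟩ ⟨⟨_, rH⟩, ξ, hξ, rfl⟩
    ⟨⟨n, nH⟩, ξ, hξ, rfl⟩ (i2 _ rH rp).symm (Ne.symm ne) (fun c => C.nE C.ms ?_) (i2 a aH ap) (i3 a aH B.aE) (i2 b bH bp)
    (i3 b bH B.bE) (k := j) (by rw [er, ← map_pow, show (⟨_, rH⟩ : H) ^ 2 ^ j = 1 from Subtype.ext hj, map_one])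
    ⟨1, ξ, hξ, i1⟩ rfl)
  · rintro _ ⟨n, ξ, h, rfl⟩
    rw [orderOf_conj, H17.BC.ord_two (n1 ξ h) (z2 ξ h)]
  · rintro _ ⟨n, ξ, h, rfl⟩ g
    obtain ⟨g, rfl⟩ := QuotientGroup.mk'_surjective T g
    exact ⟨g * n, ξ, h, by simp [φ, mul_assoc]⟩
  · rintro _ ⟨n, ξ, h, rfl⟩ _ ⟨n', ξ', h', rfl⟩ _ ⟨n'', ξ'', h'', rfl⟩ c c'
    exact (k3 _ _ _ _ h h'').2 (E_tr ((k3 _ _ _ _ h h').1 c) ((k3 _ _ _ _ h' h'').1 c'))
  · rintro _ ⟨n, ξ, h, rfl⟩ _ ⟨n', ξ', h', rfl⟩ c ne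
    obtain ⟨η, h1, e⟩ := k1 (n⁻¹ * n') ξ' h' (by simpa [mul_assoc] using E_conj hD.1 ((k3 _ _ _ _ h h').1 c) (n : G)⁻¹)
    have e1 : φ n' * φ ξ' * (φ n')⁻¹ = φ n * φ η * (φ n)⁻¹ := by rw [← e]; simp [mul_assoc]
    rw [e1] at ne ⊢
    obtain ⟨y, a1, a2, a3⟩ := C.u1 hG C.mx C.nsx (g := ξ * η) (mul_mem (h.choose_spec.2.2.2 ▸ h.choose_spec.2.2.1)
      (h1.choose_spec.2.2.2 ▸ h1.choose_spec.2.2.1)) fun y hy yp yx => (zc ξ h y hy yp yx).mul_left (zc η h1 y hy yp yx)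
    have e2 : φ ξ * φ η = φ ⟨_, mZ y a1 a2⟩ := (hφ (ξ * η) ⟨_, mZ y a1 a2⟩).2 a3
    refine ⟨n, _, ⟨y, a1, fun e' => ne ?_, a2, rfl⟩, by rw [← e2]; group⟩
    rw [show (⟨_, mZ y a1 a2⟩ : H) = 1 from Subtype.ext (show x * y = 1 by rw [e']; exact C.s2 C.mx), map_one, mul_eq_one_iff_inv_eq,
      inv_eq_of_mul_eq_one_right (z2 ξ h)] at e2
    rw [e2]
  · nth_rewrite 1 [i1] at c
    rw [k3 _ _ _ _ hξ hξ] at c
    simpa [hn] using c

theorem fin {a b t : G} (B : Bad D s x a b) (ht : t ∈ Gam D p s) (ts : t ≠ s) (k : s * t ∈ C.K) : False := by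
  have hD := C.sg.ot
  have rc := fun x' => C.rcent hG (x' := x') B
  obtain ⟨-, -, -, aX, bX, -, -, -, rs, -, eq2, -⟩ := B
  have rX := mul_mem (mul_mem (mul_mem aX bX) (inv_mem aX)) (inv_mem bX)
  generalize a * b * a⁻¹ * b⁻¹ = r at *
  obtain ⟨x', hx', k', e⟩ := C.b1 C.ms C.mx C.nsx ht k
  have ne : x ≠ x' := fun e' => ts (by rw [e, ← e', C.s2 C.mx, one_mul, mul_one])
  have c := C.kcm C.mx hx' k'
  have rp := XX_cent C.hs C.hp C.sp.symm C.xp.symm rX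
  have st : ∀ g, Commute p g → ∀ z ∈ Gam D p s, g * z * g⁻¹ ∈ Gam D p s := fun g hg z =>
    C.stab hG (by rw [← hg.eq, mul_inv_cancel_right]; exact E_self C.hp)
  have k1 : r⁻¹ * (x * x') * r * (x * x') ∈ C.K := mul_mem (by
    simpa only [inv_inv, C.mK] using kr_conj (st _ rp.inv_right) (by simpa using st _ rp) k') k'
  have x2 := sq_cm (C.s2 C.mx) (C.s2 hx') c
  have xi := inv_eq_of_mul_eq_one_right x2
  obtain ⟨t', ht', k2, e'⟩ := C.b1 C.mx C.ms (fun c => C.nsx c.symm) (k1 x C.mx).1 (C.kz k1 C.mx)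
  have c2 := C.kcm C.ms ht' k2
  have y2 := sq_cm (C.s2 C.ms) (C.s2 ht') c2
  have rl : ∀ y ∈ D, Commute y p → Commute y s → r * y * r⁻¹ ∈ D ∧ Commute (r * y * r⁻¹) p ∧ Commute (r * y * r⁻¹) s :=
    fun y hy yp ys => ⟨hD.1.conj_mem y hy r, (rp.symm.mul_left yp).mul_left rp.symm.inv_left, (rs.mul_left ys).mul_left rs.inv_left⟩
  have c3 : ∀ y ∈ D, Commute y p → Commute y s → Commute (r⁻¹ * (x * x') * r * (x * x')) y := fun y hy yp ys => by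
    obtain ⟨a1, a2, a3⟩ := C.nl hG C.mx hx' k' hy yp ys
    obtain ⟨b1, b2, b3⟩ := rl _ a1 a2 a3
    have := rc x' hx' k' _ b1 b2 b3
    rw [Commute, SemiconjBy, ← mul_inv_eq_iff_eq_mul]
    calc _ = r⁻¹ * (x * x' * (r * (x * x' * y * (x * x')⁻¹) * r⁻¹) * (x * x')⁻¹) * r := by group
      _ = x * x' * (x * x') * y * (x * x' * (x * x'))⁻¹ := by rw [← this]; group
      _ = y := by rw [x2]; simp
  have c4 : Commute r t' := by
    obtain ⟨z, hz, k3, e3⟩ := C.b1 C.ms C.mx C.nsx ht' k2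
    have := rc z hz k3 s C.hs C.sp rfl
    have z2 := inv_eq_of_mul_eq_one_right (sq_cm (C.s2 C.mx) (C.s2 hz) (C.kcm C.mx hz k3))
    rw [Commute, SemiconjBy, ← mul_inv_eq_iff_eq_mul, e3]
    calc _ = r * (x * z) * r⁻¹ * (r * s * r⁻¹) * (r * (x * z)⁻¹ * r⁻¹) := by rw [z2]; group
      _ = r * (x * z) * r⁻¹ * s * (r * (x * z) * r⁻¹)⁻¹ := by rw [rs.eq]; group
      _ = _ := by rw [this, z2]
  have e1 : r⁻¹ * (x * x') * r = r⁻¹ * (x * x') * r * (x * x') * (x * x') := by rw [mul_assoc _ (x * x') (x * x'), x2, mul_one]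
  generalize r⁻¹ * (x * x') * r * (x * x') = η at *
  have c5 : Commute (s * t' * η) x := mul_inv_eq_iff_eq_mul.1 (by
    rw [mul_inv_rev, mul_assoc _ η, mul_assoc _ (η * x), ← mul_assoc (η * x), e', inv_eq_of_mul_eq_one_right y2]
    simp only [mul_assoc (s * t'), mul_assoc x, cc y2, y2, mul_one])
  have c6 : ∀ y ∈ D, Commute y p → Commute y s → Commute (s * t' * η) y := fun y hy yp ys =>
    (ys.symm.mul_left (C.clq hG C.ms (C.mD ht') (C.mp ht') c2.symm hy yp ys)).mul_left (c3 y hy yp ys)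
  have c7 : Commute (s * t' * η) r := cent_cl (by
    rintro z (hz | rfl)
    exacts [c6 z hz.1 (C.mp (C.mE C.ms hz)) (E_ab hz (E_self C.hs)), c5]) rX
  have c8 : Commute η r := by simpa only [← mul_assoc _ (s * t'), y2, one_mul] using (rs.mul_right c4).symm.mul_left c7
  have c9 : Commute (η * η) x := by
    have h1 := ((c3 s C.hs C.sp rfl).mul_right (c3 t' (C.mD ht') (C.mp ht') c2.symm)).eq
    have := c5.mul_left c5
    rwa [mul_assoc, ← mul_assoc η, h1, mul_assoc (s * t') η, cc y2] at this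
  have e2 : (r ^ 2)⁻¹ * x * r ^ 2 * ((r ^ 2)⁻¹ * x' * r ^ 2) = η * η * (x * x') := by
    calc _ = r⁻¹ * (r⁻¹ * (x * x') * r) * r := by rw [pow_two]; group
      _ = r⁻¹ * (η * r) * (r⁻¹ * (x * x') * r) := by rw [e1]; nth_rewrite 2 [← e1]; group
      _ = _ := by rw [c8.eq, e1]; group
  have m : ∀ z ∈ D, (r ^ 2)⁻¹ * z * r ^ 2 ∈ D := fun z hz => by simpa using hD.1.conj_mem z hz (r ^ 2)⁻¹
  have := cd hD (m x C.hx) (m x' (C.mD hx')) C.hx (by simpa using (c.map (MulAut.conj (r ^ 2)⁻¹)).eq) (by simpa using ne)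
    (e2 ▸ (c9.mul_left ((Commute.refl x).mul_left c.symm)).symm)
  exact not_comm hD.1 C.hx (conj hD.1 C.hx C.hs) (od_sq hD.1 C.hx C.hs C.o.symm) (eq2 ▸ this)

end Cx

theorem SG.ex_y [Finite G] (S : SG D) {s x : G} (hs : s ∈ D) (hx : x ∈ D) (o : Od s x) :
    ∃ y ∈ D, Commute y s ∧ y ∉ sameCommutingClass D s ∧ Od y x := by
  have hD := S.ot
  by_contra! h
  let Δ : G → Set G := fun a => {y | y ∈ D ∧ Commute y a ∧ y ∉ sameCommutingClass D a}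
  have cj : ∀ g a b, Δ a ⊆ Δ b → Δ (g * a * g⁻¹) ⊆ Δ (g * b * g⁻¹) := fun g a b h y hy => by
    have := h (a := g⁻¹ * y * g) ⟨by simpa using hD.1.conj_mem y hy.1 g⁻¹, by simpa [mul_assoc] using hy.2.1.map (MulAut.conj g⁻¹),
      fun e => hy.2.2 (by simpa [mul_assoc] using E_conj hD.1 e g)⟩
    exact ⟨hy.1, by simpa [mul_assoc] using this.2.1.map (MulAut.conj g),
      fun e => this.2.2 (by simpa [mul_assoc] using E_conj hD.1 e g⁻¹)⟩
  have h1 : Δ s ⊆ Δ x := fun y hy => ⟨hy.1, cm_of hD hy.1 hx (h y hy.1 hy.2.1 hy.2.2),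
    fun e => not_comm hD.1 hs hx o (E_cm e (E_self hx) hs hy.2.1.symm)⟩
  have h2 : Δ s = Δ x := by
    obtain ⟨u, hu, e, -⟩ := swp hD.1 hs hx o
    have := cj u _ _ h1
    rw [inv hD.1 hu, e, ← e, ← mul_assoc, ← mul_assoc, sq hD.1 hu, one_mul, mul_assoc s, sq hD.1 hu, mul_one, e] at this
    exact h1.antisymm this
  obtain ⟨p, hp, p1, -, p2⟩ := ps hD S.cl S.ln S.cn s hs s hs x hx rfl o o
  have := (Blk.all (r := fun a b => a ∈ D ∧ b ∈ D ∧ Δ a = Δ b) ⟨fun a ha => ⟨ha, ha, rfl⟩, fun a b h => ⟨h.2.1, h.1, h.2.2.symm⟩,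
    fun a b c h h' => ⟨h.1, h'.2.1, h.2.2.trans h'.2.2⟩, fun a b h => h.2.1, fun a b g h => ⟨hD.1.conj_mem _ h.1 g,
      hD.1.conj_mem _ h.2.1 g, (cj g _ _ h.2.2.le).antisymm (cj g _ _ h.2.2.ge)⟩, fun a ha => ?_,
    fun a ha b hb _ => od_of hD ha hb, fun a ha b b' h h' e => ?_⟩ hD.1 S.cl S.ln s hs p hp).2.2
  · exact (this.le ⟨hp, p1, fun e => not_comm hD.1 hx hs o.symm (E_cm e (E_self hs) hx p2.symm)⟩).2.2 (E_self hp)
  · obtain ⟨g, rfl⟩ := S.cl s hs a ha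
    exact ⟨_, ⟨ha, hD.1.conj_mem x hx g, (cj g _ _ h2.le).antisymm (cj g _ _ h2.ge)⟩,
      not_comm hD.1 ha (hD.1.conj_mem x hx g) (o.conj g)⟩
  · refine (h'.2.2.le ⟨ha, e, fun e' => h ⟨ha, h'.1, Set.ext fun y => and_congr_right fun hy => ?_⟩⟩).2.1
    rw [E_eq e']
    exact and_congr_left fun _ => ((mem_E.1 e').2 y hy).symm

theorem no_bad (n : ℕ) : ∀ (G : Type u) [Group G] [Finite G] (D : Set G), Nat.card G < n → SG D → ∀ s x a b, ¬ Bad D s x a b := by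
  induction n with
  | zero => intro _ _ _ _ h; omega
  | succ n ih => ?_
  intro G _ _ D hn S s x a b B
  have hC : ∀ v ∈ D, Commute s v → Commute x v → Cx D v s x := fun v hv sv xv => ⟨S, hv, B.hs, B.hx, sv, xv, B.o,
    loc S (fun M _ _ E h T => T.pp (ih M E (by omega) T)) B hv sv xv⟩
  obtain ⟨y, hy, ys, yE, o⟩ := S.ex_y B.hs B.hx B.o
  obtain ⟨p, hp, p1, p2, p3⟩ := ps S.ot S.cl S.ln S.cn s B.hs y hy x B.hx ys.symm B.o o
  have C := hC p hp p1.symm p3.symm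
  obtain ⟨t, ht, ts, k⟩ := C.fib (gam_od C.mx hy p2.symm o.symm) ys yE
  exact C.fin (fun v => C.g1 hC ht ts k) B ht ts k

theorem SG.psl [Finite G] (S : SG D) {d x : G} (hd : d ∈ D) (hx : x ∈ D) (o : Od d x) : ∃ (F : Type) (_ : Field F) (_ : Fintype F),
    Fintype.card F = Nat.card (closure (sameCommutingClass D d)) ∧ Nonempty (XX D d x ≃* PSL(2, F)) := by
  obtain ⟨Ω, _, ω, Q, T⟩ := xql S.ot S.cl S.ln hd hx o
  exact S.l2 hd hx o T (by_contra fun h => let ⟨_, _, _, B⟩ := S.bad hd hx o T h; no_bad _ G D (Nat.lt_succ_self _) S _ _ _ _ B)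

theorem tz_bot (hO : pCore 2 G = ⊥) (hZ : center G = ⊥) : twoZCore G = ⊥ := eq_bot_iff.2 fun z hz => hZ ▸ mem_center_iff.2 fun g => by
  have := mem_center_iff.1 hz (QuotientGroup.mk' _ g)
  rw [← map_mul, ← map_mul, QuotientGroup.mk'_apply, QuotientGroup.mk'_apply, QuotientGroup.eq, hO, mem_bot] at this
  exact inv_mul_eq_one.1 this

theorem ex_od' [Finite G] (hD : IsRootInvolutionSet D) (hO : pCore 2 G = ⊥) {d : G} (hd : d ∈ D) : ∃ a ∈ D, ∃ b ∈ D, Od a b := by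
  by_contra! h
  have := baer_self (T := D) (fun _ => sq hD) (fun a ha b hb => (not_od_iff hD ha hb).1 (h a ha b hb)) fun a ha b _ => hD.conj_mem a ha b
  rw [hD.generates] at this
  exact ne_one hD hd (mem_bot.1 (hO ▸ H26.le_pCore this (mem_top d)))

theorem simple_of [Finite G] (hD : IsRootInvolutionSet D) (hc : Cl D) (hO : pCore 2 G = ⊥) (hZ : center G = ⊥) (hl : Ln D) :
    IsSimpleGroup G := by
  obtain ⟨d, hd, -⟩ := id hl
  obtain ⟨a, ha, b, hb, o⟩ := ex_od' hD hO hd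
  have := (Cfsg.Agent.S5048.result hD (fconn hD hc ha hb o) hl).2
  exact ((QuotientGroup.quotientMulEquivOfEq (tz_bot hO hZ)).trans QuotientGroup.quotientBot).symm.isSimpleGroup

end H29.RI
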