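import Mathlib
import Cfsg.Agent.H29.RI2

/-!
# Root involutions VII (helper29)

Triangles of root involutions: `tri3`, `phi`, `lemK`, `desc`.
-/

set_option autoImplicit false
set_option linter.unusedSectionVars false

open Cfsg Subgroup H12.RI Relation
open scoped commutatorElement

namespace H29.RI

universe u

variable {G : Type u} [Group G] {D : Set G}

theorem cjm {g : G} (hg : g * g = 1) (a b : G) : g * (a * b) * g = g * a * g * (g * b * g) := by
  simp [mul_assoc, cc hg]

theorem cji {g a b : G} (hg : g * g = 1) (h : g * a * g = b) : g * b * g = a := by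
  simp [← h, mul_assoc, cc hg, hg]

theorem pp_mk {a b : G} (hb : b ∈ D) (c : Commute b a) (ne : b ≠ a) (h : b * a ∈ D) : b ∈ productPartners D a := ⟨⟨hb, c, ne⟩, h⟩

theorem pp_cm {a b : G} (h : b ∈ productPartners D a) : Commute b a := h.1.2.1

theorem pp_w (hD : IsRootInvolutionSet D) {a b w : G} (hw : w * w = 1) (hb : b ∈ productPartners D a) :
    w * b * w ∈ productPartners D (w * a * w) := by
  simpa only [inv_eq_of_mul_eq_one_right hw] using pp_conj hD hb w

/-- two members inducing different transvections on a four-group generate `S₃` -/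
theorem tri3 (hD : IsRootInvolutionSet D) {P x a w : G} (hP : P ∈ D) (hx : x ∈ D) (ha : a ∈ productPartners D P)
    (hw : w * w = 1) (c : Commute a w) (e1 : P * w * P = w * a) (e2 : x * a * x = a * w) (e3 : x * w * x = w) :
    Od P x ∧ P * x * P = x * P * x := by
  have P2 := sq hD hP
  have x2 := sq hD hx
  have a2 := sq hD ha.1.1
  have e0 : P * a * P = a := fix_w P2 (pp_cm ha).symm
  have f1 : P * (a * w) * P = w := by rw [cjm P2, e0, e1, ← c.eq, cc a2]
  have f2 : x * (w * a) * x = a := by rw [cjm x2, e3, e2, c.eq, cc hw]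
  have o : Od P x := by_contra fun o => by
    have h4 := (not_od_iff hD hP hx).1 o
    have k : (P * x) ^ 4 * a * (x * P) ^ 4 = w := by
      calc _ = P * (x * (P * (x * (P * (x * (P * (x * a * x) * P) * x) * P) * x) * P) * x) * P := by simp only [pow_succ]; group
        _ = w := by rw [e2, f1, e3, e1, f2, e0, e2, f1]
    have h4' : (x * P) ^ 4 = 1 := (not_od_iff hD hx hP).1 fun o' => o o'.symm
    rw [h4, h4', one_mul, mul_one] at k
    rw [k, e3, hw] at e2
    exact ne_one hD ha.1.1 (k.trans e2)
  refine ⟨o, ?_⟩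
  have hx' : x * P * x * (x * P)⁻¹ ∈ D := hD.conj_mem x hx _
  rw [mul_inv_rev, inv hD hP, inv hD hx] at hx'
  by_contra ne
  refine l2 hD hP hx' ⟨fun e => ne ?_, ?_⟩ ha ?_
  · calc _ = x * P * x * (P * x) * x * P := by rw [← e]
      _ = _ := by simp [mul_assoc, cc x2, P2]
  · rw [show P * (x * P * x * (P * x)) = (P * x) ^ 3 by simp only [pow_succ]; group]
    exact o.2.of_dvd_nat (orderOf_pow_dvd 3)
  · have : x * P * x * (P * x) * a * (x * P * x * (P * x)) = a := by
      calc _ = x * (P * (x * (P * (x * a * x) * P) * x) * P) * x := by group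
        _ = a := by rw [e2, f1, e3, e1, f2]
    calc _ = x * P * x * (P * x) * a * (x * P * x * (P * x)) * (x * P * x * (P * x)) := by rw [this]
      _ = _ := by rw [mul_assoc, sq hD hx', mul_one]

/-- for an `S₃`-pair the two commutator maps are mutually inverse -/
theorem phi (hD : IsRootInvolutionSet D) {d x z : G} (hd : d ∈ D) (hx : x ∈ D) (o : Od d x) (br : d * x * d = x * d * x)
    (hz : z ∈ productPartners D d) (h : ¬ Od z x) : d * (z * x * z * x) * d = z * x * z * x * z := by
  have d2 := sq hD hd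
  have x2 := sq hD hx
  have z2 := sq hD hz.1.1
  obtain ⟨h1, h2⟩ := step_mem hD hd hx o hz h
  have j2 : d * x * d * (d * x * d) = 1 := by simp [mul_assoc, cc d2, cc x2, d2]
  have h3 := pp_w hD j2 hz
  have zd := pp_cm hz
  rw [show d * x * d * d * (d * x * d) = x by rw [br]; nth_rewrite 2 [← br]; simp [mul_assoc, cc d2, cc x2, d2]] at h3
  have c1 : Commute z (z * x * z * x) := (pp_cm (sq_partner' hD hz.1.1 hx h (l2 hD hd hx o hz))).symm
  have c2 := sq_comm hD h1.1.1 hd h2
  have e1 : x * z * x = z * (z * x * z * x) := by simp [mul_assoc, cc z2]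
  generalize z * x * z * x = ζ at *
  have c3 : Commute z (d * ζ * d) := (zd.mul_right c1).mul_right zd
  have e2 : d * x * d * z * (d * x * d) = z * (d * ζ * d) := by
    calc _ = d * (x * (d * z * d) * x) * d := by group
      _ = _ := by rw [fix_w d2 zd.symm, e1, cjm d2, fix_w d2 zd.symm]
  rw [e2] at h3
  have := step_inj hD hx hd o.symm h1 h2 h3 (by
    calc _ = z * (d * ζ * d) * z * ζ := by rw [c2, fix_w z2 c3]
      _ = _ := by simp only [mul_assoc, cc d2, zd.left_comm, d2, mul_one])
  nth_rewrite 2 [this]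
  rw [fix_w z2 c3]

/-- the key commutator computation -/
theorem lemK (hD : IsRootInvolutionSet D) {d x z w a e : G} (hd : d ∈ D) (hx : x ∈ D) (o : Od d x) (br : d * x * d = x * d * x)
    (hz : z ∈ productPartners D d) (h : ¬ Od z x) (hw : w * w = 1) (wx : Commute w x) (e2 : x * a * x = a * w)
    (ad : Commute a d) (za : Commute z a) (he : e ∈ D) (e3 : z * w * z = e * w) (ed : Commute e d) (ez : Commute e z)
    (h' : ¬ Od e x) : Commute e x := by_contra fun ne => by
  have d2 := sq hD hd
  have x2 := sq hD hx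
  have z2 := sq hD hz.1.1
  have e2' := sq hD he
  have k := phi hD hd hx o br hz h
  have c1 : Commute z (z * x * z * x) := (pp_cm (sq_partner' hD hz.1.1 hx h (l2 hD hd hx o hz))).symm
  have ζ2 := sq hD (step_mem hD hd hx o hz h).1.1.1
  have e1 : x * z * x = z * (z * x * z * x) := by simp [mul_assoc, cc z2]
  have hε := sq_partner hD he hx h' ne
  have ε2 := sq hD hε.1.1
  have ce := (pp_cm (sq_partner' hD he hx h' ne)).symm
  have e4 : x * e * x = e * (e * x * e * x) := by simp [mul_assoc, cc e2']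
  generalize z * x * z * x = ζ at *
  generalize e * x * e * x = ε at *
  have zd := pp_cm hz
  have w1 : x * w * x = w := fix_w x2 wx.symm
  have f1 : ζ * w * ζ = z * ε * z * w := by
    have := congrArg (fun y => z * (x * y * x) * z) e3
    simp only [cjm x2, e1, e4, w1] at this
    calc _ = z * (z * ζ * w * (z * ζ)) * z := by simp only [mul_assoc, cc z2, c1.left_comm, c1.eq, z2, mul_one]
      _ = e * (z * ε * z) * (z * w * z) := by rw [this]; simp only [mul_assoc, cc z2, ez.symm.left_comm]
      _ = _ := by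
        rw [e3, ((ez.mul_right ce).mul_right ez).eq]; simp only [mul_assoc, cc e2']
  have f2 : ζ * (a * w) * ζ = a * (e * w) := by
    have := cm_w x2 za
    rw [e1, e2] at this
    calc _ = z * (z * ζ * (a * w)) * ζ := by simp only [mul_assoc, cc z2]
      _ = z * a * z * (z * w * z) := by rw [this.eq]; simp only [mul_assoc, cc z2, ζ2, mul_one]
      _ = _ := by rw [fix_w z2 za, e3]
  have f3 : ζ * a * ζ = a * e * (z * ε * z) := by
    rw [cjm ζ2, f1] at f2
    calc _ = ζ * a * ζ * (z * ε * z * w) * w * (z * ε * z) := by simp only [mul_assoc, cc z2, cc hw, cc ε2, z2, mul_one]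
      _ = _ := by rw [f2]; simp only [mul_assoc, cc hw]
  have f4 := congrArg (fun y => d * y * d) f3
  simp only [cjm d2, k, fix_w d2 ad.symm, fix_w d2 ed.symm, fix_w d2 zd.symm] at f4
  rw [show ζ * z * a * (ζ * z) = ζ * (z * a * z) * ζ by simp only [mul_assoc, c1.eq], fix_w z2 za, f3, mul_right_inj, mul_left_inj,
    mul_right_inj] at f4
  refine l2 hD hx hd o.symm hε ?_
  nth_rewrite 1 [f4]
  simp only [mul_assoc, d2, mul_one]

/-- descent in a 2-group generated by a set closed under commutators -/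
theorem desc [Finite G] {T : Set G} (hp : IsPGroup 2 (closure T)) (h2 : ∀ x ∈ T, x * x = 1)
    (hcl : ∀ x ∈ T, ∀ y ∈ T, x * y * x * y = 1 ∨ x * y * x * y ∈ T) {P : G → Prop} (h1 : P 1) {x : G} (hx : x ∈ T) (hP : ¬ P x) :
    ∃ p ∈ T, ¬ P p ∧ ∀ y ∈ T, P (p * y * p * y) := by
  by_contra! h
  have := hp.isNilpotent
  obtain ⟨n, hn⟩ := Subgroup.nilpotent_iff_lowerCentralSeries.1 this
  have k : ∀ k, ∃ p : closure T, (p : G) ∈ T ∧ ¬ P p ∧ p ∈ (⊤ : Subgroup (closure T)).lowerCentralSeries k := fun k => by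
    induction k with
    | zero => exact ⟨⟨x, subset_closure hx⟩, hx, hP, mem_top _⟩
    | succ k ih =>
      obtain ⟨p, hp, h3, h4⟩ := ih
      obtain ⟨y, hy, h5⟩ := h p hp h3
      have e : ((⁅p, ⟨y, subset_closure hy⟩⁆ : closure T) : G) = p * y * p * y := by
        simp [commutatorElement_def, inv_eq_of_mul_eq_one_right (h2 _ hp), inv_eq_of_mul_eq_one_right (h2 _ hy)]
      exact ⟨⁅p, ⟨y, subset_closure hy⟩⁆, e ▸ (hcl _ hp y hy).resolve_left fun e' => h5 (e' ▸ h1), e ▸ h5,
        commutator_mem_commutator h4 (mem_top _)⟩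
  obtain ⟨p, -, h3, h4⟩ := k n
  rw [hn, mem_bot] at h4
  exact h3 (h4 ▸ h1)

end H29.RI
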