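import Mathlib
import Cfsg.Agent.H29.RI7

/-!
# Root involutions VIII (helper29)

The Root Structure Theorem: `RI.ND.claim` (commutators of isolated members of `C_D(r)` lie in `E(r)`), `RI.ND.wd_pp`.
-/

set_option autoImplicit false
set_option linter.unusedSectionVars false

open Cfsg Subgroup H12.RI Relation

namespace H29.RI

universe u

variable {G : Type u} [Group G] {D : Set G}

local notation "𝐄" => sameCommutingClass
local notation "𝐗" => productPartners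

/-- isolated members of `C_D(r)` -/
def Wd (D : Set G) (r w : G) : Prop := w ∈ D ∧ Commute w r ∧ ∀ c ∈ D, Commute c r → ¬ Od w c
/-- `E_r ∪ {1}` -/
def EA (D : Set G) (r y : G) : Prop := y = 1 ∨ y ∈ 𝐄 D r
/-- central modulo `E(r)` -/
def Cen (D : Set G) (r z : G) : Prop := Wd D r z ∧ ∀ y, Wd D r y → EA D r (z * y * z * y)
/-- `E_d ∪ {1}` is closed under products -/
def HE (D : Set G) : Prop := ∀ d, ∀ e ∈ 𝐄 D d, ∀ e' ∈ 𝐄 D d, EA D d (e * e')

theorem E_mk {r e e' : G} (he : e ∈ 𝐄 D r) (he' : e' ∈ 𝐄 D r) : e' ∈ 𝐄 D e := ⟨he'.1, he.2.symm.trans he'.2⟩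
theorem E_c {r e y : G} (he : e ∈ 𝐄 D r) (hy : y ∈ D) (h : Commute y r) : Commute y e := ((mem_E.1 he).2 y hy).1 h
theorem E_c' {r e y : G} (he : e ∈ 𝐄 D r) (hy : y ∈ D) (h : Commute y e) : Commute y r := ((mem_E.1 he).2 y hy).2 h
theorem EA.cm {r y w : G} (h : EA D r y) (hw : w ∈ D) (c : Commute w r) : Commute w y := by
  rcases h with rfl | h
  exacts [Commute.one_right _, E_c h hw c]
theorem EA.base {r r' y : G} (h : EA D r y) (hr : r' ∈ 𝐄 D r) : EA D r' y := h.imp_right (E_mk hr)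
theorem Wd.base {r r' w : G} (h : Wd D r w) (hr : r' ∈ 𝐄 D r) : Wd D r' w :=
  ⟨h.1, E_c hr h.1 h.2.1, fun c hc e => h.2.2 c hc (E_c' hr hc e)⟩
theorem Wd.base' {r r' w : G} (h : Wd D r' w) (hr : r' ∈ 𝐄 D r) : Wd D r w :=
  ⟨h.1, E_c' hr h.1 h.2.1, fun c hc e => h.2.2 c hc (E_c hr hc e)⟩
theorem Cen.base {r r' w : G} (h : Cen D r w) (hr : r' ∈ 𝐄 D r) : Cen D r' w :=
  ⟨h.1.base hr, fun y hy => (h.2 y (hy.base' hr)).base hr⟩
theorem Cen.base' {r r' w : G} (h : Cen D r' w) (hr : r' ∈ 𝐄 D r) : Cen D r w :=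
  ⟨h.1.base' hr, fun y hy => (h.2 y (hy.base hr)).imp_right (E_tr hr)⟩
theorem Wd.nod {r a b : G} (ha : Wd D r a) (hb : Wd D r b) : ¬ Od a b := ha.2.2 b hb.1 hb.2.1
theorem EA.mul (hE : HE D) {r a b : G} (ha : EA D r a) (hb : EA D r b) : EA D r (a * b) := by
  rcases ha with rfl | ha
  · rwa [one_mul]
  rcases hb with rfl | hb
  · rw [mul_one]; exact Or.inr ha
  exact hE r a ha b hb
theorem cm_one {a b : G} (ha : a * a = 1) (hb : b * b = 1) : a * b * a * b = 1 ↔ Commute a b :=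
  ⟨fun h => by
    have := congrArg (fun y => a * y * b) h
    simp only [mul_assoc, cc ha, hb, mul_one] at this
    exact this.symm, fun h => by rw [mul_assoc (a * b), sq_cm ha hb h]⟩

section

variable (hD : IsRootInvolutionSet D)
include hD

theorem EA.sq {r y : G} (h : EA D r y) : y * y = 1 := by
  rcases h with rfl | h
  exacts [mul_one _, H12.RI.sq hD h.1]
theorem E_od' {d e x : G} (hd : d ∈ D) (he : e ∈ 𝐄 D d) (hx : x ∈ D) (o : Od d x) : Od e x :=
  sub_of_comm hD hd he.1 (fun _ hy h => E_c' he hy h) x hx o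
theorem E_od'' {d e x : G} (hd : d ∈ D) (he : e ∈ 𝐄 D d) (hx : x ∈ D) (o : Od e x) : Od d x := E_od' hD he.1 (E_symm hd he) hx o
theorem E_w {d e w : G} (hw : w * w = 1) (he : e ∈ 𝐄 D d) : w * e * w ∈ 𝐄 D (w * d * w) := by
  simpa only [inv_eq_of_mul_eq_one_right hw] using E_conj hD he w
theorem wd_pp {r y : G} (hr : r ∈ D) (hy : y ∈ 𝐗 D r) : Wd D r y :=
  ⟨hy.1.1, pp_cm hy, fun _ hc e => not_od_of_partner hD hr hy hc e⟩
theorem wd_E {r e : G} (hr : r ∈ D) (he : e ∈ 𝐄 D r) : Wd D r e :=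
  ⟨he.1, E_ab he (E_self hr), fun _ hc h => not_od_of_comm hD hc he.1 (E_c he hc h).symm⟩
theorem Wd.w {r y w : G} (h : Wd D r y) (hw : w * w = 1) : Wd D (w * r * w) (w * y * w) :=
  ⟨cjw hD hw h.1, cm_w hw h.2.1, fun c hc e o => h.2.2 _ (cjw hD hw hc) (cm_cj hw e) (by
    simpa only [cji hw rfl] using od_w hw o)⟩
theorem Cen.w {r z w : G} (h : Cen D r z) (hw : w * w = 1) : Cen D (w * r * w) (w * z * w) :=
  ⟨h.1.w hD hw, fun y hy => by
    have := h.2 _ (by simpa only [cji hw rfl] using hy.w hD hw)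
    rw [show w * z * w * y * (w * z * w) * y = w * (z * (w * y * w) * z * (w * y * w)) * w by simp [mul_assoc, hw]]
    rcases this with e | e
    exacts [Or.inl (by rw [e, mul_one, hw]), Or.inr (E_w hD hw e)]⟩
theorem Wd.mul {r a b : G} (ha : Wd D r a) (hb : Wd D r b) (c : Commute a b) (h : a * b ∈ D) : Wd D r (a * b) :=
  ⟨h, ha.2.1.mul_left hb.2.1, fun y hy e o => o.symm.not_pow (sq hD h)
    (chain hD hy ha.1 hb.1 c (fun o => ha.2.2 y hy e o.symm) fun o => hb.2.2 y hy e o.symm)⟩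
theorem Wd.cj {r a b : G} (ha : Wd D r a) (hb : b * b = 1) (c : Commute b r) : Wd D r (b * a * b) := by
  simpa only [fix_w hb c] using ha.w hD hb
theorem Wd.cm {r a b : G} (ha : Wd D r a) (hb : Wd D r b) (h : ¬ Commute a b) : Wd D r (a * b * a * b) := by
  have := ha.mul hD (ha.cj hD (sq hD hb.1) hb.2.1) (show _ = _ by
    simpa only [mul_assoc] using sq_comm hD ha.1 hb.1 (ha.nod hb)) (by simpa only [mul_assoc] using (sq_mem hD ha.1 hb.1 (ha.nod hb) h).2)
  simpa only [mul_assoc] using this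

theorem Cen.kill {r z p q : G} (h : Cen D r z) (hp : Wd D r p) (hq : Wd D r q) : Commute z (p * q * p * q) := by
  have z2 := sq hD h.1.1
  have k : ∀ y, Wd D r y → y * z * y = z * (z * y * z * y) := fun y hy => by simp only [mul_assoc, cc z2]
  have a2 := (h.2 p hp).sq hD
  have c1 := (h.2 p hp).cm hq.1 hq.2.1
  have c2 := (h.2 q hq).cm hp.1 hp.2.1
  have c3 := (h.2 p hp).cm hp.1 hp.2.1
  have c4 := (h.2 q hq).cm hq.1 hq.2.1
  have b2 := (h.2 q hq).sq hD
  have k1 := k p hp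
  have k2 := k q hq
  have p2 := sq hD hp.1
  have q2 := sq hD hq.1
  have c5 : Commute (z * p * z * p) (z * q * z * q) := by
    have := (h.2 p hp).cm h.1.1 h.1.2.1
    exact ((this.symm.mul_right c1.symm).mul_right this.symm).mul_right c1.symm
  generalize z * p * z * p = α at *
  generalize z * q * z * q = β at *
  have : p * (q * (p * (q * z * q) * p) * q) * p = z := by
    simp only [k1, k2, cjm p2, cjm q2, fix_w p2 c2, fix_w p2 c3, fix_w q2 c1, fix_w q2 c4]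
    simp only [mul_assoc, c5.left_comm, b2, a2, mul_one]
  rw [Commute, SemiconjBy]
  nth_rewrite 1 [← this]
  simp only [mul_assoc, cc p2, cc q2, q2, mul_one]

theorem Cen.mul (hE : HE D) {r a b : G} (ha : Cen D r a) (hb : Cen D r b) (c : Commute a b) (h : a * b ∈ D) : Cen D r (a * b) :=
  ⟨ha.1.mul hD hb.1 c h, fun y hy => by
    have := (ha.2 y hy).mul hE (hb.2 y hy)
    have c1 := (ha.2 y hy).cm hb.1.1 hb.1.2.1
    have e : y * a * y = a * (a * y * a * y) := by simp only [mul_assoc, cancel hD ha.1.1]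
    rwa [show a * y * a * y * (b * y * b * y) = a * b * y * (a * b) * y from ?_] at this
    calc _ = a * b * (y * a * y) * (y * b * y) := by
          rw [e]; generalize a * y * a * y = α at *
          simp only [mul_assoc, c.symm.left_comm, cancel hD ha.1.1, c1.left_comm]
      _ = _ := by simp only [mul_assoc, cancel hD hy.1]⟩

theorem pg_wd [Finite G] (r : G) : IsPGroup 2 (closure {w | Wd D r w}) :=
  baer_self (fun _ h => sq hD h.1) (fun _ h _ h' => (not_od_iff hD h.1 h'.1).1 (Wd.nod h h')) fun x h y h' => by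
    rw [inv hD h'.1]; exact Wd.cj hD h (sq hD h'.1) h'.2.1

theorem E_inj (hE : HE D) {r e e' x : G} (he : e ∈ 𝐄 D r) (he' : e' ∈ 𝐄 D r) (hx : x ∈ D) (h : ¬ Commute x r)
    (e1 : e * x * e * x = e' * x * e' * x) : e = e' := by
  have e2 := sq hD he.1
  have e2' := sq hD he'.1
  rcases hE r e he e' he' with k | k
  · rw [← inv hD he.1]; exact inv_eq_of_mul_eq_one_right k
  · refine absurd (E_c' k hx ?_) h
    rw [mul_left_inj] at e1
    calc x * (e * e') = e * (e * x * e) * e' := by simp only [mul_assoc, cc e2]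
      _ = _ := by rw [e1]; simp only [mul_assoc, e2', mul_one]

/-- the map `e ↦ [[e, x], z]` permutes `E_r` -/
theorem lam [Finite G] (hE : HE D) {r z x e : G} (hr : r ∈ D) (h : Cen D r z) (hx : x ∈ D) (o : Od z x) (h1 : ¬ Od r x)
    (h2 : ¬ Commute x r) (he : e ∈ 𝐄 D r) :
    ∃ e' ∈ 𝐄 D r, z * (e' * x * e' * x) * z * (e' * x * e' * x) = e := by
  have k : ∀ e ∈ 𝐄 D r, e * x * e * x ∈ 𝐗 D x ∧ Wd D r (e * x * e * x) := fun e he =>
    have n1 : ¬ Od e x := fun o => h1 (E_od'' hD hr he hx o)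
    have n2 : e * x ≠ x * e := fun c => h2 (E_c' he hx c.symm)
    ⟨sq_partner hD he.1 hx n1 n2, (wd_pp hD he.1 (sq_partner' hD he.1 hx n1 n2)).base' he⟩
  have k' : ∀ e ∈ 𝐄 D r, z * (e * x * e * x) * z * (e * x * e * x) ∈ 𝐄 D r := fun e he =>
    (h.2 _ (k e he).2).resolve_left fun e1 =>
      l2 hD hx h.1.1 o.symm (k e he).1 ((cm_one (sq hD h.1.1) (sq hD (k e he).2.1)).1 e1).symm
  have inj : Function.Injective fun e : 𝐄 D r => (⟨_, k' e e.2⟩ : 𝐄 D r) := by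
    rintro ⟨a, ha⟩ ⟨b, hb⟩ e
    have e := congrArg Subtype.val e
    simp only [sq_comm hD h.1.1 (k _ ha).2.1 (h.1.nod (k _ ha).2), sq_comm hD h.1.1 (k _ hb).2.1 (h.1.nod (k _ hb).2)] at e
    exact Subtype.ext (E_inj hD hE ha hb hx h2 (step_inj hD hx h.1.1 o.symm (k a ha).1 ((k a ha).2.nod h.1) (k b hb).1 e))
  obtain ⟨⟨a, ha⟩, e⟩ := Finite.injective_iff_surjective.1 inj ⟨e, he⟩
  exact ⟨a, ha, congrArg Subtype.val e⟩

end

/-- non-degenerate class with trivial centre -/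
structure ND (D : Set G) : Prop where
  nd : IsNondegenerateRootInvolutionSet D
  cl : Cl D
  z : center G = ⊥

namespace ND

variable [Finite G] (N : ND D)
include N

theorem rt : IsRootInvolutionSet D := N.nd.1

theorem ex_x {a c : G} (ha : a ∈ D) (hc : c ∈ D) (h : c ∉ 𝐄 D a) : ∃ x ∈ D, Od a x ∧ ¬ Od c x := by
  by_contra! k
  exact h (E_of N.rt (nd_f N.nd N.cl) ha hc fun y hy e => comm_of_sub N.rt (nd_f N.nd N.cl) ha hc k hy e)

theorem line {a c : G} (ha : a ∈ D) (hc : c ∈ 𝐗 D a) (h : c ∉ 𝐄 D a) : ∃ s ∈ 𝐗 D a, s * c * s = c * a := by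
  obtain ⟨x, hx, o, o'⟩ := N.ex_x ha hc.1.1 h
  obtain ⟨s, hs, e⟩ := sq_ex N.nd N.cl hc.1.1 (partner_symm N.rt ha hc) hx o o'
  exact ⟨s, hs, by rw [pp_cm hc, ← e, mul_assoc _ c c, sq N.rt hc.1.1, mul_one]⟩

theorem pair {a c : G} (ha : a ∈ D) (hc : c ∈ 𝐗 D a) (h : c ∉ 𝐄 D a) : ∃ s ∈ 𝐗 D a, ∃ t ∈ 𝐗 D c,
    s * c * s = c * a ∧ t * a * t = c * a ∧ Od t s ∧ t * s * t = s * t * s ∧ t * s * t * c * (t * s * t) = a := by
  obtain ⟨s, hs, e⟩ := N.line ha hc h
  obtain ⟨t, ht, e'⟩ := N.line hc.1.1 (partner_symm N.rt ha hc) fun k => h (E_symm hc.1.1 k)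
  have t2 := sq N.rt ht.1.1
  have e3 := fix_w t2 (pp_cm ht)
  have := tri3 N.rt hs.1.1 ht.1.1 (partner_symm N.rt ha hs) (sq N.rt hc.1.1) (pp_cm hc).symm e e' e3
  refine ⟨s, hs, t, ht, e, e'.trans (pp_cm hc).symm, this.1.symm, this.2.symm, ?_⟩
  calc _ = t * (s * (t * c * t) * s) * t := by group
    _ = a := by rw [e3, e, cjm t2, e3, e', (pp_cm hc).symm.eq, cc (sq N.rt hc.1.1)]

theorem swap {a c : G} (ha : a ∈ D) (hc : c ∈ 𝐗 D a) (h : c ∉ 𝐄 D a) : ∃ j, j * j = 1 ∧ j * c * j = a ∧ j * a * j = c := by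
  obtain ⟨s, hs, t, ht, -, -, -, -, e⟩ := N.pair ha hc h
  have := sq N.rt (conj N.rt hs.1.1 ht.1.1)
  exact ⟨_, this, e, cji this e⟩

/-- a member centralizing `X_r` and `r` lies in `E_r` -/
theorem zc {r z : G} (hr : r ∈ D) (hz : z ∈ D) (c : Commute z r) (h : z ∉ 𝐄 D r) : ∃ w ∈ 𝐗 D r, ¬ Commute z w := by
  have hD := N.rt
  by_contra! k
  obtain ⟨x, hx, o, o'⟩ := N.ex_x hr hz h
  have n1 : ¬ Commute z x := fun e => ne_one hD hz (mem_bot.1 (N.z ▸ mem_center_iff.2 fun g => (cent_cl (by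
    rintro y (hy | rfl)
    exacts [k y hy, e]) (gen N.nd N.cl hr hx o ▸ mem_top g)).symm))
  have h1 := sq_partner hD hz hx o' n1
  have h2 := sq_partner' hD hz hx o' n1
  generalize z * x * z * x = v at h1 h2
  have n2 := l2 hD hx hr o.symm h1
  have o2 := not_od_of_partner hD hz h2 hr c.symm
  have h3 := sq_partner hD h1.1.1 hr o2 n2
  have h4 := pp_cm (sq_partner' hD h1.1.1 hr o2 n2)
  have v2 := sq hD h1.1.1
  have r2 := sq hD hr
  have e1 : v * r * v = r * (v * r * v * r) := by rw [← pp_cm h3, mul_assoc _ r r, r2, mul_one]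
  generalize v * r * v * r = u at h3 h4 e1
  obtain ⟨b, hb, e⟩ := N.line hr h3 fun e => n2 (E_c' e h1.1.1 h4.symm)
  have b2 := sq hD hb.1.1
  have o3 : ¬ Od b v := fun o => not_od_of_partner hD hz h2 hb.1.1 (k b hb).symm o.symm
  have o4 : ¬ Od v (r * b) := fun o => o.not_pow (sq hD (partner_mul hD hr hb).1.1)
    (chain hD h1.1.1 hr hb.1.1 (pp_cm hb).symm o2 fun o => o3 o.symm)
  have c1 := sq_comm hD h1.1.1 (partner_mul hD hr hb).1.1 o4
  have c2 : Commute b (v * b * v) := show _ = _ by simpa only [mul_assoc] using sq_comm hD hb.1.1 h1.1.1 o3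
  have c3 := pp_cm hb
  have c4 := pp_cm h3
  have u2 := sq hD h3.1.1
  rw [mul_assoc (r * b), mul_assoc (r * b), cjm v2, e1] at c1
  have e2 := congrArg (fun y => v * y * v) e
  simp only [cjm v2, fix_w v2 h4.symm, e1] at e2
  have b2' := sq hD (conj hD hb.1.1 h1.1.1)
  generalize v * b * v = b' at *
  have f1 : b * u = u * r * b := by rw [← e, mul_assoc _ b b, b2, mul_one]
  have f2 : b' * r = u * b' := by
    rw [← mul_assoc, c4.eq, mul_assoc r, u2, mul_one] at e2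
    rw [← e2]; simp only [mul_assoc, cc b2']
  have f3 : r * (b * b') = u * (r * (b * b')) := by
    calc _ = r * u * (b' * r) * b := by rw [f2, c2.eq]; simp only [mul_assoc, cc u2]
      _ = b * u * b' := by rw [← mul_assoc, mul_assoc _ r b, c1]; simp only [mul_assoc, c3.symm.left_comm, cc r2]
      _ = _ := by rw [f1]; simp only [mul_assoc]
  exact ne_one hD h3.1.1 (right_eq_mul.1 f3)

variable (hE : HE D)
include hE

/-- a central line is a full line -/
theorem cex {r z e : G} (hr : r ∈ D) (h : Cen D r z) (hz : z ∉ 𝐄 D r) (he : e ∈ 𝐄 D r) : e ∈ 𝐗 D z := by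
  have hD := N.rt
  obtain ⟨w, hw, n⟩ := N.zc hr h.1.1 h.1.2.1 hz
  have hw' := wd_pp hD hr hw
  have h1 := (h.2 w hw').resolve_left fun e => n ((cm_one (sq hD h.1.1) (sq hD hw'.1)).1 e)
  have h2 := sq_partner' hD h.1.1 hw'.1 (h.1.nod hw') n
  obtain ⟨x, hx, o, o'⟩ := N.ex_x h.1.1 h1.1 fun k => hz (E_tr h1 (E_symm h.1.1 k))
  have n' : ¬ Commute x r := fun c => l2 hD h.1.1 hx o h2 (E_c h1 hx c).symm
  obtain ⟨e', he', rfl⟩ := lam hD hE hr h hx o (fun k => o' (E_od' hD hr h1 hx k)) n' he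
  have n1 : ¬ Od e' x := fun k => o' (E_od' hD hr h1 hx (E_od'' hD hr he' hx k))
  have n2 : e' * x ≠ x * e' := fun c => n' (E_c' he' hx c.symm)
  have := (wd_pp hD he'.1 (sq_partner' hD he'.1 hx n1 n2)).base' he'
  exact sq_partner' hD h.1.1 this.1 (h.1.nod this) fun c => l2 hD hx h.1.1 o.symm (sq_partner hD he'.1 hx n1 n2) c.symm

theorem cen_sw {r z : G} (hr : r ∈ D) (h : Cen D r z) (hz : z ∉ 𝐄 D r) : Cen D z r := by
  obtain ⟨j, j2, e1, e2⟩ := N.swap h.1.1 (N.cex hE hr h hz (E_self hr)) fun k => hz (E_symm h.1.1 k)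
  simpa only [e1, e2] using h.w N.rt j2

theorem cen_E {r z y : G} (hr : r ∈ D) (h : Cen D r z) (hz : z ∉ 𝐄 D r) (hy : y ∈ 𝐄 D z) : Cen D r y :=
  N.cen_sw hE hy.1 ((N.cen_sw hE hr h hz).base hy) fun k => hz (E_symm h.1.1 (E_tr hy k))

theorem onto {r z w a : G} (hr : r ∈ D) (h : Cen D r z) (hz : z ∉ 𝐄 D r) (hw : Wd D r w) (n : ¬ Commute z w) (ha : a ∈ 𝐄 D r) :
    ∃ y ∈ 𝐄 D z, y * w * y * w = a := by
  have hD := N.rt
  obtain ⟨j, j2, e1, -⟩ := N.swap h.1.1 (N.cex hE hr h hz (E_self hr)) fun k => hz (E_symm h.1.1 k)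
  have k : ∀ e ∈ 𝐄 D r, j * e * j ∈ 𝐄 D z := fun e he => e1 ▸ E_w hD j2 he
  have k' : ∀ e ∈ 𝐄 D r, j * e * j * w * (j * e * j) * w ∈ 𝐄 D r := fun e he =>
    ((N.cen_E hE hr h hz (k e he)).2 w hw).resolve_left fun c =>
      n (E_c' (k e he) hw.1 ((cm_one (sq hD (k e he).1) (sq hD hw.1)).1 c).symm).symm
  have inj : Function.Injective fun e : 𝐄 D r => (⟨_, k' e e.2⟩ : 𝐄 D r) := by
    rintro ⟨a, ha⟩ ⟨b, hb⟩ e
    simpa using E_inj hD hE (k a ha) (k b hb) hw.1 (fun c => n c.symm) (congrArg Subtype.val e)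
  obtain ⟨⟨b, hb⟩, e⟩ := Finite.injective_iff_surjective.1 inj ⟨a, ha⟩
  exact ⟨_, k b hb, congrArg Subtype.val e⟩

/-- the basic configuration of a counterexample -/
theorem cfg {r P w z : G} (hr : r ∈ D) (hP : Wd D r P) (hw : Wd D r w) (n1 : ¬ Commute P w) (h : Cen D r z) (hz : z ∈ 𝐗 D P)
    (n2 : ¬ Commute z w) : ∃ x ∈ D, Commute w x ∧ x * (P * w * P * w) * x = P * w * P * w * w ∧ Od z x ∧ ¬ Od r x ∧ ¬ Commute x r ∧
      ∃ r₁ ∈ 𝐄 D r, x * r₁ * x = r₁ * w := by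
  have hD := N.rt
  have w2 := sq hD hw.1
  have z2 := sq hD h.1.1
  have h1 := (h.2 w hw).resolve_left fun e => n2 ((cm_one z2 w2).1 e)
  have h2 := sq_partner hD h.1.1 hw.1 (h.1.nod hw) n2
  have h3 := sq_partner hD hP.1 hw.1 (hP.nod hw) n1
  have h4 := sq_partner' hD hP.1 hw.1 (hP.nod hw) n1
  obtain ⟨x, hx, e⟩ := N.line hw.1 h3 fun k => n1 (E_c' k hP.1 (pp_cm h4).symm)
  have x2 := sq hD hx.1.1
  obtain ⟨o, br⟩ := tri3 hD hP.1 hx.1.1 h4 w2 (pp_cm h3) (by rw [← pp_cm h3, mul_assoc _ w w, w2, mul_one]) e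
    (fix_w x2 (pp_cm hx))
  have o1 := not_od_of_partner hD hw.1 hx h1.1 (pp_cm h2)
  have n3 : ¬ Commute x r := fun c => hP.2.2 x hx.1.1 c o
  have o2 : ¬ Od r x := fun k => o1 (E_od' hD hr h1 hx.1.1 k).symm
  have o3 : Od z x := by_contra fun k => n3 (E_c' h1 hx.1.1 (lemK hD hP.1 hx.1.1 o br hz k w2 (pp_cm hx).symm e (pp_cm h4)
    (h.kill hD hP hw) h1.1 (by rw [mul_assoc _ w w, w2, mul_one]) (E_c h1 hP.1 hP.2.1).symm (E_c h1 h.1.1 h.1.2.1).symm
    fun k => o1 k.symm).symm)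
  refine ⟨x, hx.1.1, (pp_cm hx).symm, e, o3, o2, n3, ?_⟩
  obtain ⟨e', he', e1⟩ := lam hD hE hr h hx.1.1 o3 o2 n3 h1
  have n4 : ¬ Od e' x := fun k => o2 (E_od'' hD hr he' hx.1.1 k)
  have n5 : e' * x ≠ x * e' := fun c => n3 (E_c' he' hx.1.1 c.symm)
  have h5 := (wd_pp hD he'.1 (sq_partner' hD he'.1 hx.1.1 n4 n5)).base' he'
  rw [sq_comm hD h.1.1 h5.1 (h.1.nod h5), sq_comm hD h.1.1 hw.1 (h.1.nod hw)] at e1
  refine ⟨e', he', ?_⟩
  rw [← step_inj hD hx.1.1 h.1.1 o3.symm (sq_partner hD he'.1 hx.1.1 n4 n5) (h5.nod h.1) (partner_symm hD hw.1 hx) e1]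
  simp only [mul_assoc, cancel hD he'.1]

theorem caseA {r p w z : G} (hr : r ∈ D) (hp : Wd D r p) (h : ∀ y, Wd D r y → ∀ y', Wd D r y' →
    EA D r (p * y * p * y * y' * (p * y * p * y) * y')) (hw : Wd D r w) (hc : Cen D r z) (hz : z ∈ 𝐗 D p) (n : ¬ Commute z w) :
    EA D r (p * w * p * w) := by_contra fun k => by
  have hD := N.rt
  have p2 := sq hD hp.1
  have w2 := sq hD hw.1
  have n1 : ¬ Commute p w := fun c => k (Or.inl ((cm_one p2 w2).2 c))
  obtain ⟨x, hx, c1, e1, -, -, -, r₁, hr₁, e2⟩ := N.cfg hE hr hp hw n1 hc hz n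
  have h1 : Cen D r (p * w * p * w) := ⟨hp.cm hD hw n1, h w hw⟩
  have h2 := partner_symm hD hp.1 (sq_partner' hD hp.1 hw.1 (hp.nod hw) n1)
  have h3 := partner_symm hD hw.1 (sq_partner hD hp.1 hw.1 (hp.nod hw) n1)
  have e0 : p * w * p = p * w * p * w * w := by rw [mul_assoc _ w w, w2, mul_one]
  generalize p * w * p * w = a at *
  have ha := h1.1.1
  have x2 := sq hD hx
  have a2 := sq hD ha
  have h4 := N.cex hE hr h1 (fun t => k (Or.inr t)) hr₁
  obtain ⟨s, hs, t, ht, e3, e4, o, br, e5⟩ := N.pair ha h4 fun t => k (Or.inr (E_tr hr₁ (E_symm ha t)))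
  have s2 := sq hD hs.1.1
  have t2 := sq hD ht.1.1
  have c2 := pp_cm h3
  have e6 : x * (r₁ * a) * x = r₁ * a := by rw [cjm x2, e1, e2, mul_assoc, c2.left_comm, w2, mul_one]
  have n2 : a ∉ 𝐄 D (r₁ * a) := fun t => ne_one hD hw.1 (by
    have c : Commute x (r₁ * a) := by rw [Commute, SemiconjBy]; nth_rewrite 2 [← e6]; rw [mul_assoc _ x x, x2, mul_one]
    rwa [fix_w x2 (E_c t hx c), left_eq_mul] at e1)
  have g1 : Cen D (r₁ * a) a := by simpa only [e3, fix_w s2 (pp_cm hs)] using (h1.base hr₁).w hD s2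
  have g2 : Cen D (r₁ * a) (a * w) := by simpa only [e6, e1] using g1.w hD x2
  have g3 : Cen D (r₁ * a) w := by
    simpa only [cc a2] using g1.mul hD hE g2 ((Commute.refl a).mul_right c2.symm) (by simpa only [cc a2] using hw.1)
  have g4 : Cen D r (s * w * s) := by
    have := g3.w hD s2
    rw [cji s2 e3] at this
    exact this.base' hr₁
  have ht' := (wd_pp hD hr₁.1 ht).base' hr₁
  have g5 : Wd D (r₁ * a) (t * p * t) := wd_pp hD h4.2 (e4 ▸ pp_w hD t2 h2)
  have e7 : t * p * t = p * (p * t * p * t) := by simp only [mul_assoc, cc p2]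
  have n3 : ¬ Commute (p * t * p * t) w := fun c => by
    have := g3.2 _ g5
    have κ2 : p * t * p * t * (p * t * p * t) = 1 := by
      nth_rewrite 1 [sq_comm hD hp.1 ht.1.1 (hp.nod ht')]; simp only [mul_assoc, cc p2, cc t2, t2]
    have c3 : Commute p (p * t * p * t) := by
      rw [Commute, SemiconjBy]; nth_rewrite 2 [sq_comm hD hp.1 ht.1.1 (hp.nod ht')]; simp only [mul_assoc, cc p2, p2, mul_one]
    rw [e7] at this
    generalize p * t * p * t = κ at *
    rw [show w * (p * κ) * w * (p * κ) = a by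
      calc _ = w * (p * w * p) * (κ * κ) := by simp only [mul_assoc, c.left_comm, c3.symm.left_comm]
        _ = _ := by rw [κ2, e0, c2.left_comm, w2, mul_one, mul_one]] at this
    exact this.elim (ne_one hD ha) n2
  have n4 : ¬ Commute p t := fun c => n3 (by rw [(cm_one p2 t2).2 c]; exact Commute.one_left _)
  have g6 : Cen D r (p * t * p * t) := ⟨hp.cm hD ht' n4, h t ht'⟩
  have g7 := sq_partner hD hp.1 ht.1.1 (hp.nod ht') n4
  have c4 := h1.kill hD hp ht'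
  have c5 := g4.kill hD hp ht'
  generalize p * t * p * t = κ at *
  have κ2 := sq hD g6.1.1
  have o1 : ¬ Od κ s := fun o => not_od_of_partner hD ha hs g6.1.1 c4.symm o.symm
  have e8 := phi hD ht.1.1 hs.1.1 o br g7 o1
  have c6 := pp_cm (sq_partner' hD g6.1.1 hs.1.1 o1 (l2 hD ht.1.1 hs.1.1 o g7))
  have e9 : s * κ * s = κ * (κ * s * κ * s) := by simp only [mul_assoc, cc κ2]
  generalize κ * s * κ * s = ζ at *
  have g8 : Cen D a ζ := by
    have := (g6.base hr₁).w hD (sq hD (conj hD hs.1.1 ht.1.1))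
    rwa [e5, show t * s * t * κ * (t * s * t) = ζ by
      calc _ = t * (s * (t * κ * t) * s) * t := by group
        _ = _ := by rw [fix_w t2 (pp_cm g7).symm, e9, cjm t2, e8, fix_w t2 (pp_cm g7).symm, c6.eq, cc κ2]] at this
  have k1 := g8.2 _ ((wd_pp hD ha h3).cj hD s2 (pp_cm hs))
  have k2 := E_w hD s2 (E_mk hr₁ ((g6.2 w hw).resolve_left fun e => n3 ((cm_one κ2 w2).1 e)))
  rw [e3, cjm s2, cjm s2, cjm s2, e9] at k2
  generalize s * w * s = w' at *
  rw [show κ * ζ * w' * (κ * ζ) * w' = ζ * w' * ζ * w' by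
    simp only [mul_assoc, c6.left_comm, c5.left_comm, cc κ2]] at k2
  exact k1.elim (ne_one hD k2.1) fun t => n2 (E_tr k2 (E_symm ha t))

theorem caseB {r p q w : G} (hr : r ∈ D) (hp : Wd D r p) (hq : Wd D r q) (hw : Wd D r w) (hc : Cen D r (p * q * p * q))
    (hz : p * q * p * q ∉ 𝐄 D r) (n : ¬ Commute (p * q * p * q) w) (h : EA D r (p * w * p * w)) : False := by
  have hD := N.rt
  have p2 := sq hD hp.1
  have q2 := sq hD hq.1
  have w2 := sq hD hw.1
  have n0 : ¬ Commute p q := fun c => n (by rw [(cm_one p2 q2).2 c]; exact Commute.one_left _)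
  have h1 := sq_partner hD hp.1 hq.1 (hp.nod hq) n0
  have h2 := pp_cm (sq_partner' hD hp.1 hq.1 (hp.nod hq) n0)
  have e0 : p * q * p = q * (p * q * p * q) := by rw [← pp_cm h1, mul_assoc _ q q, q2, mul_one]
  generalize p * q * p * q = z at *
  have z2 := sq hD hc.1.1
  have hρ := (hc.2 w hw).resolve_left fun e => n ((cm_one z2 w2).1 e)
  have e1 : z * w * z = z * w * z * w * w := by rw [mul_assoc _ w w, w2, mul_one]
  generalize z * w * z * w = ρ at *
  have e2 : p * w * p = p * w * p * w * w := by rw [mul_assoc _ w w, w2, mul_one]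
  generalize p * w * p * w = a at *
  have a2 := h.sq hD
  have ρ2 := sq hD hρ.1
  have c1 := h.cm hw.1 hw.2.1
  have c2 := h.cm hq.1 hq.2.1
  have c3 := h.cm hc.1.1 hc.1.2.1
  have c4 := E_c hρ hq.1 hq.2.1
  have c5 := E_c hρ hw.1 hw.2.1
  have e3 : p * (q * w * q * w) * p = q * w * q * w * ρ := by
    calc _ = q * (z * (a * w) * z) * (z * q * z) * (a * w) := by
          rw [cjm p2, cjm p2, cjm p2, e0, e2]; simp only [mul_assoc, cc z2, (pp_cm h1).left_comm]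
      _ = _ := by
          rw [cjm z2, e1, fix_w z2 c3, fix_w z2 (pp_cm h1)]
          simp only [mul_assoc, c1.symm.left_comm, c2.symm.left_comm, (h.cm hρ.1 (E_ab hρ (E_self hr))).symm.left_comm, cc a2,
            c4.symm.left_comm, c5.symm.eq]
  have n1 : ¬ Commute q w := fun c => by
    rw [(cm_one q2 w2).2 c, mul_one, p2, one_mul] at e3
    exact ne_one hD hρ.1 e3.symm
  obtain ⟨x, hx, c6, e4, o, o1, n2, r₁, hr₁, e5⟩ := N.cfg hE hr hq hw n1 hc h1 n
  obtain ⟨π, π2, c7, c8, e6⟩ : ∃ π : G, π * π = 1 ∧ (∀ e ∈ 𝐄 D r, Commute π e) ∧ Commute π w ∧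
      π * (q * w * q * w) * π = q * w * q * w * ρ := by
    rcases h with rfl | h
    · exact ⟨p, p2, fun e he => E_c he hp.1 hp.2.1, (cm_one p2 w2).1 (by rw [e2, one_mul, w2]), e3⟩
    obtain ⟨y, hy, e⟩ := N.onto hE hr hc hz hw n h
    have g := N.cen_E hE hr hc hz hy
    have y2 := sq hD hy.1
    have c := E_c hy hp.1 h2.symm
    refine ⟨p * y, sq_cm p2 y2 c, fun e he => (E_c he hp.1 hp.2.1).mul_left (E_c he g.1.1 g.1.2.1), ?_, ?_⟩
    · have : y * w = w * a * y := by rw [c1.eq, ← e]; simp only [mul_assoc, cc w2, y2, mul_one]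
      have e' : p * w = a * w * p := by rw [← e2, mul_assoc _ p p, p2, mul_one]
      rw [Commute, SemiconjBy, mul_assoc, this, ← mul_assoc, ← mul_assoc, e']
      simp only [mul_assoc, (E_c h hp.1 hp.2.1).left_comm, c1.left_comm, cc a2]
    · rw [← e3]
      nth_rewrite 2 [c.eq]
      nth_rewrite 2 [← fix_w y2 (g.kill hD hq hw)]
      simp only [mul_assoc]
  have x2 := sq hD hx
  have K : ∀ {r g y : G}, g * g = 1 → (∀ z, Cen D r z → Commute z y) → ∀ z, Cen D (g * r * g) z → Commute z (g * y * g) :=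
    fun g2 hy z hz => (cm_cj g2 (by simpa only [cji g2 rfl] using (hy _ (by simpa only [cji g2 rfl] using hz.w hD g2)).symm)).symm
  have n4 : ¬ Od ρ x := fun k => o1 (E_od'' hD hr hρ hx k)
  have n5 : ρ * x ≠ x * ρ := fun c => n2 (E_c' hρ hx c.symm)
  have h5 := sq_partner hD hρ.1 hx n4 n5
  have e7 : x * ρ * x = ρ * (ρ * x * ρ * x) := by simp only [mul_assoc, cc ρ2]
  generalize ρ * x * ρ * x = v at *
  refine l2 hD hx hc.1.1 o.symm h5 (Commute.symm ?_)
  have k0 : ∀ z, Cen D r₁ z → Commute z (q * w * q * w) := fun z hz => hz.kill hD (hq.base hr₁) (hw.base hr₁)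
  have k1 := K π2 (K x2 k0)
  rw [e5, e4, cjm π2, cjm π2, e6, fix_w π2 c8, fix_w π2 (c7 _ hr₁)] at k1
  have k2 := K x2 k1
  rw [cji x2 e5, cjm x2, cjm x2, e4, e7, fix_w x2 c6.symm] at k2
  have k3 := K (r := r₁) (y := w * (ρ * v) * w) w2 (fun z hz => by
    have := (k0 z hz).inv_right.mul_right (k2 z hz)
    generalize q * w * q * w = b at this
    simpa only [mul_assoc, inv_mul_cancel_left] using this) z
  rw [fix_w w2 (E_c hr₁ hw.1 hw.2.1), cji w2 rfl] at k3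
  simpa only [cc ρ2] using (E_c hρ hc.1.1 hc.1.2.1).mul_right (k3 (hc.base hr₁))

/-- commutators of isolated members of `C_D(r)` lie in `E(r)` -/
theorem claim {r p q : G} (hr : r ∈ D) (hp : Wd D r p) (hq : Wd D r q) : EA D r (p * q * p * q) := by_contra fun h => by
  have hD := N.rt
  obtain ⟨p, hp, h1, h2⟩ := desc (pg_wd hD r) (fun _ h => sq hD h.1) (fun x hx y hy => by
      by_cases c : Commute x y
      exacts [Or.inl ((cm_one (sq hD hx.1) (sq hD hy.1)).2 c), Or.inr (Wd.cm hD hx hy c)])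
    (P := fun x => ∀ y, Wd D r y → EA D r (x * y * x * y)) (fun y hy => Or.inl (by simpa using sq hD hy.1)) hp fun k => h (k q hq)
  simp only [not_forall] at h1
  obtain ⟨q, hq, h1⟩ := h1
  have n : ¬ Commute p q := fun c => h1 (Or.inl ((cm_one (sq hD hp.1) (sq hD hq.1)).2 c))
  have hc : Cen D r (p * q * p * q) := ⟨Wd.cm hD hp hq n, h2 q hq⟩
  obtain ⟨w, hw, n'⟩ := N.zc hr hc.1.1 hc.1.2.1 fun k => h1 (Or.inr k)
  have hw := wd_pp hD hr hw
  exact N.caseB hE hr hp hq hw hc (fun k => h1 (Or.inr k)) n'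
    (N.caseA hE hr hp h2 hw hc (sq_partner' hD hp.1 hq.1 (Wd.nod hp hq) n) n')

theorem pp_of {r w : G} (hr : r ∈ D) (hw : Wd D r w) (ne : w ≠ r) : w ∈ 𝐗 D r := by
  by_cases h : w ∈ 𝐄 D r
  · refine pp_mk hw.1 hw.2.1 ne ((hE r w h r (E_self hr)).resolve_left fun e => ne ?_).1
    rw [← inv N.rt hw.1]; exact inv_eq_of_mul_eq_one_right e
  · exact partner_symm N.rt hw.1 (N.cex hE hr ⟨hw, fun y hy => N.claim hE hr hw hy⟩ h (E_self hr))

theorem wd_eq {r : G} (hr : r ∈ D) : {w | Wd D r w} = 𝐗 D r ∪ {r} := Set.ext fun w =>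
  ⟨fun h => (em (w = r)).symm.imp_left (N.pp_of hE hr h), fun h => h.elim (wd_pp N.rt hr) fun e => by rw [e]; exact wd_E N.rt hr (E_self hr)⟩

end ND

theorem wd_cl [Finite G] (hD : IsRootInvolutionSet D) {r y : G} (hy : y ∈ D) (h : y ∈ closure {w | Wd D r w}) : Wd D r y :=
  ⟨hy, (cent_cl (fun _ hw => hw.2.1.symm) h).symm, fun c hc e o => by
    have : c * y * c⁻¹ ∈ closure {w | Wd D r w} := (mem_normalizer_iff.1 (norm_cl fun w hw => subset_closure (by
      rw [inv hD hc]; exact Wd.cj hD hw (sq hD hc) e)) y).1 h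
    obtain ⟨k, hk⟩ := pg_wd hD r ⟨_, mul_mem h this⟩
    refine o.not_pow (sq hD hc) (k := k + 1) ?_
    rw [pow_succ', pow_mul]
    simpa [pow_two, inv hD hc, mul_assoc] using congrArg Subtype.val hk⟩

theorem he_of (h : ∀ d ∈ D, (sameCommutingSubgroup D d : Set G) = 𝐄 D d ∪ {1}) : HE D := fun d e he e' he' => by
  have : e * e' ∈ (sameCommutingSubgroup D e : Set G) := mul_mem (subset_closure (E_self he.1)) (subset_closure (E_mk he he'))
  rw [h e he.1] at this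
  exact this.symm.imp_right (E_tr he)

theorem ea_of (hE : HE D) (hD : IsRootInvolutionSet D) {d y : G} : y ∈ sameCommutingSubgroup D d ↔ EA D d y :=
  ⟨fun h => closure_induction (fun _ h => Or.inr h) (Or.inl rfl) (fun _ _ _ _ h h' => h.mul hE h')
    (fun _ _ h => by rwa [inv_eq_of_mul_eq_one_right (h.sq hD)]) h, fun h => h.elim (fun e => e ▸ one_mem _) fun h => subset_closure h⟩

theorem ND.ex_pp [Finite G] (N : ND D) {d : G} (hd : d ∈ D) : ∃ z ∈ 𝐗 D d, z ∉ 𝐄 D d := by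
  obtain ⟨a, ha, b, hb, h, h'⟩ := nd_four N.nd
  have h1 := sq_partner' N.rt ha hb h h'
  have h2 := pp_cm (sq_partner N.rt ha hb h h')
  obtain ⟨g, rfl⟩ := N.cl a ha d hd
  refine ⟨_, pp_conj N.rt h1 g, fun k => h' (E_c' ?_ hb h2.symm).symm⟩
  simpa [mul_assoc] using E_conj N.rt k g⁻¹

end H29.RI
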