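import Cfsg.Agent.H05.Tu0

/-! S4504, part E: the projective general linear group does not occur. -/

set_option autoImplicit false

namespace H29.Tu
open Module Matrix H05.Tu
universe u

theorem eig {G : Type u} [Group G] {p n : ℕ} (hp : p.Prime) (ρ : Representation ℂ G (Fin n → ℂ)) (hρ : Function.Injective ρ)
    {g : G} (g1 : g ≠ 1) (gp : g ^ p = 1) (c : ∀ b, 0 < b → b < p → ∃ d : G, g * d = d * g ^ b) : p - 1 ≤ n := by
  set T : Module.End ℂ (Fin n → ℂ) := ρ g with hT
  have Tp : T ^ p = 1 := by rw [hT, ← map_pow, gp, map_one]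
  have T1 : T - 1 ≠ 0 := fun e => g1 (hρ (by rw [map_one]; exact sub_eq_zero.1 e))
  set S : Module.End ℂ (Fin n → ℂ) := ∑ i ∈ Finset.range p, T ^ i with hS
  have ST : S * (T - 1) = 0 := by rw [hS, geom_sum_mul, Tp, sub_self]
  have cm : S * T = T * S := by
    rw [hS, Finset.sum_mul, Finset.mul_sum]; exact Finset.sum_congr rfl fun i _ => by rw [← pow_succ, ← pow_succ']
  have inv : ∀ v ∈ LinearMap.ker S, T v ∈ LinearMap.ker S := fun v hv => by
    rw [LinearMap.mem_ker] at hv ⊢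
    rw [← Module.End.mul_apply, cm, Module.End.mul_apply, hv, map_zero]
  obtain ⟨w, hw⟩ : ∃ w, (T - 1) w ≠ 0 := by
    by_contra! h; exact T1 (LinearMap.ext h)
  have : Nontrivial (LinearMap.ker S) := ⟨⟨(T - 1) w, by rw [LinearMap.mem_ker, ← Module.End.mul_apply, ST]; rfl⟩, 0,
    fun e => hw (congrArg Subtype.val e)⟩
  obtain ⟨ζ, hζ⟩ := Module.End.exists_eigenvalue (T.restrict inv)
  obtain ⟨v, hv⟩ := hζ.exists_hasEigenvector
  have v0 : v.1 ≠ 0 := fun e => hv.2 (Subtype.ext e)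
  have Tv : T v.1 = ζ • v.1 := congrArg Subtype.val hv.apply_eq_smul
  have Ti : ∀ i : ℕ, (T ^ i) v.1 = ζ ^ i • v.1 := fun i => by
    induction i with
    | zero => simp
    | succ i ih => rw [pow_succ', Module.End.mul_apply, ih, map_smul, Tv, smul_smul, pow_succ]
  have zp : ζ ^ p = 1 := by
    have := Ti p
    rw [Tp, Module.End.one_apply] at this
    exact (smul_left_injective ℂ v0 (by simpa using this)).symm
  have z1 : ζ ≠ 1 := by
    rintro rfl
    have h : (∑ i ∈ Finset.range p, T ^ i) v.1 = 0 := v.2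
    rw [LinearMap.sum_apply] at h
    simp only [Ti, one_pow, one_smul, Finset.sum_const, Finset.card_range] at h
    rw [← Nat.cast_smul_eq_nsmul ℂ, smul_eq_zero] at h
    rcases h with h | h
    · exact hp.ne_zero (by exact_mod_cast h)
    · exact v0 h
  haveI := Fact.mk hp
  have oz : orderOf ζ = p := orderOf_eq_prime zp z1
  choose d hd using fun i : Fin (p - 1) => c (i + 1) (by omega) (by omega)
  have li := Module.End.eigenvectors_linearIndependent' T (fun i : Fin (p - 1) => ζ ^ (i.1 + 1))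
    (fun i j e => by
      have := pow_injOn_Iio_orderOf (x := ζ) (by rw [oz]; show i.1 + 1 < p; omega) (by rw [oz]; show j.1 + 1 < p; omega) e
      exact Fin.ext (by omega))
    (fun i => ρ (d i) v.1) fun i => ⟨Module.End.mem_eigenspace_iff.2 (by
      rw [hT, ← Module.End.mul_apply, ← map_mul, hd, map_mul, map_pow, Module.End.mul_apply, ← hT, Ti, map_smul]), fun e => v0 (by
        have := congrArg (ρ (d i)⁻¹) e
        rwa [← Module.End.mul_apply, ← map_mul, inv_mul_cancel, map_one, map_zero] at this)⟩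
  simpa using li.fintype_card_le_finrank

variable {F : Type} [Field F]

def U (t : F) : GL (Fin 2) F := ⟨!![1, t; 0, 1], !![1, -t; 0, 1], by simp [one_fin_two], by simp [one_fin_two]⟩
def L : GL (Fin 2) F := ⟨!![1, 0; 1, 1], !![1, 0; -1, 1], by simp [one_fin_two], by simp [one_fin_two]⟩
def Dg (b : F) (h : b ≠ 0) : GL (Fin 2) F := ⟨!![1, 0; 0, b], !![1, 0; 0, b⁻¹], by simp [one_fin_two, h], by simp [one_fin_two, h]⟩

theorem U_pow (t : F) (k : ℕ) : U t ^ k = U (k * t) := by
  induction k with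
  | zero => ext1; simp [U, one_fin_two]
  | succ k ih => rw [pow_succ, ih]; ext1; simp [U]; ring_nf

theorem U_D (t b : F) (h : b ≠ 0) : U t * Dg b h = Dg b h * U (b * t) := by
  ext1; simp [U, Dg, mul_comm]

theorem U_c {t : F} (h : U t ∈ Subgroup.center (GL (Fin 2) F)) : t = 0 := by
  have := congrArg (fun M : GL (Fin 2) F => M.1 0 0) (Subgroup.mem_center_iff.1 h L)
  simpa [U, L] using this

theorem e : EStmt.{u} := by
  intro G _ _ p hp x _ h5 n ρ hρ hn hZ ⟨e⟩
  let π : G →* ProjGenLinGroup (Fin 2) (ZMod p) := e.toMonoidHom.comp (QuotientGroup.mk' _)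
  have πs : Function.Surjective π := e.surjective.comp (QuotientGroup.mk'_surjective _)
  have πk : ∀ g, π g = 1 → g ∈ Subgroup.center G := fun g h => (QuotientGroup.eq_one_iff g).1 (e.map_eq_one_iff.1 h)
  let q : GL (Fin 2) (ZMod p) →* ProjGenLinGroup (Fin 2) (ZMod p) := QuotientGroup.mk' _
  obtain ⟨g, hg⟩ := πs (q (U 1))
  set m := Nat.card (Subgroup.center G)
  have zm : ∀ z ∈ Subgroup.center G, z ^ m = 1 := fun z hz => congrArg Subtype.val (pow_card_eq_one' (x := (⟨z, hz⟩ : Subgroup.center G)))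
  have gp : (g ^ m) ^ p = 1 := by
    rw [← pow_mul, mul_comm, pow_mul]
    refine zm _ (πk _ ?_)
    rw [map_pow, hg, ← map_pow, U_pow, ZMod.natCast_self, zero_mul, ← zero_mul (1 : ZMod p), ← Nat.cast_zero, ← U_pow, pow_zero, map_one]
  have πg : π (g ^ m) = q (U m) := by rw [map_pow, hg, ← map_pow, U_pow, mul_one]
  have := eig hp.1 ρ hρ (g := g ^ m) (fun h => hZ (by
    rw [h, map_one] at πg
    exact (ZMod.natCast_eq_zero_iff _ _).1 (U_c ((QuotientGroup.eq_one_iff _).1 πg.symm)))) gp fun b b0 bp => ?_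
  · omega
  have hb : (b : ZMod p) ≠ 0 := fun h => absurd (Nat.le_of_dvd b0 ((ZMod.natCast_eq_zero_iff _ _).1 h)) (by omega)
  obtain ⟨d, hd⟩ := πs (q (Dg _ hb))
  have hz : ((g ^ m) ^ b)⁻¹ * (d⁻¹ * g ^ m * d) ∈ Subgroup.center G := πk _ (by
    rw [map_mul, map_mul, map_mul, map_inv, map_inv, map_pow, πg, hd, ← map_pow, U_pow, mul_assoc, ← map_mul, U_D, map_mul]; group)
  obtain ⟨z, hz, r⟩ : ∃ z ∈ Subgroup.center G, d⁻¹ * g ^ m * d = (g ^ m) ^ b * z := ⟨_, hz, by group⟩
  have zp : z ^ p = 1 := by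
    have h1 : (d⁻¹ * g ^ m * d) ^ p = 1 := by
      have := conj_pow (a := d⁻¹) (b := g ^ m) (i := p)
      rw [inv_inv, gp] at this; rw [this]; group
    rwa [r, (show Commute ((g ^ m) ^ b) z from Subgroup.mem_center_iff.1 hz _).mul_pow, ← pow_mul, mul_comm b, pow_mul, gp, one_pow,
      one_mul] at h1
  have z1 : z = 1 := by
    have := (Nat.Coprime.eq_one_of_dvd (Nat.Coprime.coprime_dvd_left (orderOf_dvd_of_pow_eq_one zp)
      ((Nat.Prime.coprime_iff_not_dvd hp.1).2 hZ)) (orderOf_dvd_of_pow_eq_one (zm z hz)))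
    exact orderOf_eq_one_iff.1 this
  exact ⟨d, by rw [z1, mul_one] at r; rw [← r]; group⟩

end H29.Tu
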