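import Mathlib

/-! Two-closed transitive groups of degree `2 p ^ 2`. -/

set_option autoImplicit false

namespace H29.TC2

open Subgroup MulAction

variable {G Ω : Type*} [Group G] [Finite G] [MulAction G Ω]

omit [Finite G] in
theorem isCoatom_of_index_prime {H : Subgroup G} (h : H.index.Prime) : IsCoatom H := by
  refine ⟨fun ht => h.one_lt.ne' (by rw [ht, index_top]), fun K hK => ?_⟩
  have h1 := relIndex_mul_index hK.le
  rcases (Nat.dvd_prime h).1 (Dvd.intro_left _ h1) with h2 | h2
  · exact index_eq_one.1 h2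
  · rw [h2] at h1
    have : H.relIndex K = 1 := Nat.eq_of_mul_eq_mul_right h.pos (by rw [h1, one_mul])
    exact absurd (relIndex_eq_one.1 this) hK.not_ge

omit [Finite G] in
/-- a subgroup all of whose orbits have prime length `p` and which is a `p`-group yields a
fixed point free element of order `p` in a two-closed group -/
theorem closed_fpf [FaithfulSMul G Ω] [Nonempty Ω] {p : ℕ} (hp : p.Prime)
    (hcl : ∀ σ : Equiv.Perm Ω, (∀ a b : Ω, ∃ g : G, σ a = g • a ∧ σ b = g • b) → ∃ g : G, ∀ a : Ω, σ a = g • a)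
    {M : Type*} [Group M] [Finite M] [MulAction M Ω] (hMG : ∀ m : M, ∃ g : G, ∀ ω : Ω, m • ω = g • ω)
    (hM : IsPGroup p M) (hi : ∀ a : Ω, (stabilizer M a).index = p) :
    ∃ g : G, (orderOf g).Prime ∧ ∀ ω : Ω, g • ω ≠ ω := by
  classical
  haveI := Fact.mk hp
  have hn : ∀ a : Ω, (stabilizer M a).Normal := by
    intro a
    haveI := hM.isNilpotent
    have hc : IsCoatom (stabilizer M a) := isCoatom_of_index_prime (by rw [hi]; exact hp)
    exact Subgroup.NormalizerCondition.normal_of_coatom _ Group.normalizerCondition_of_isNilpotent hc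
  have hst : ∀ (m : M) (a : Ω), stabilizer M (m • a) = stabilizer M a := by
    intro m a
    rw [stabilizer_smul_eq_stabilizer_map_conj]
    ext x
    rw [mem_map_equiv]
    simp only [MulAut.conj_symm_apply]
    constructor
    · intro h
      have := (hn a).conj_mem _ h m
      simpa [mul_assoc] using this
    · intro h
      simpa using (hn a).conj_mem _ h m⁻¹
  have hex : ∀ H : Subgroup M, ∃ m : M, H ≠ ⊤ → m ∉ H := by
    intro H
    by_cases h : H = ⊤
    · exact ⟨1, fun h' => absurd h h'⟩
    · obtain ⟨m, hm⟩ : ∃ m, m ∉ H := by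
        by_contra hc
        push Not at hc
        exact h (eq_top_iff.2 fun x _ => hc x)
      exact ⟨m, fun _ => hm⟩
  choose f hf using hex
  have hnt : ∀ a : Ω, stabilizer M a ≠ ⊤ := by
    intro a h
    have := hi a
    rw [h, index_top] at this
    exact hp.one_lt.ne this
  let σ : Equiv.Perm Ω :=
    { toFun := fun a => f (stabilizer M a) • a
      invFun := fun a => (f (stabilizer M a))⁻¹ • a
      left_inv := fun a => by simp only [hst]; simp
      right_inv := fun a => by simp only [hst]; simp }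
  obtain ⟨g, hg⟩ := hcl σ (by
    intro a b
    by_cases h : stabilizer M a = stabilizer M b
    · obtain ⟨g, hg⟩ := hMG (f (stabilizer M a))
      exact ⟨g, hg a, by rw [← hg, h]; rfl⟩
    · have hc : IsCoatom (stabilizer M a) := isCoatom_of_index_prime (by rw [hi]; exact hp)
      have hc' : IsCoatom (stabilizer M b) := isCoatom_of_index_prime (by rw [hi]; exact hp)
      have ht : stabilizer M a ⊔ stabilizer M b = ⊤ := hc.sup_eq_top_of_ne hc' h
      haveI := hn b
      have : (f (stabilizer M a))⁻¹ * f (stabilizer M b) ∈ stabilizer M a ⊔ stabilizer M b := ht ▸ mem_top _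
      rw [← SetLike.mem_coe, mul_normal] at this
      obtain ⟨u, hu, v, hv, huv⟩ := this
      obtain ⟨g, hg⟩ := hMG (f (stabilizer M a) * u)
      refine ⟨g, ?_, ?_⟩ <;> rw [← hg]
      · change f (stabilizer M a) • a = (f (stabilizer M a) * u) • a
        rw [mul_smul, mem_stabilizer_iff.1 hu]
      · change f (stabilizer M b) • b = (f (stabilizer M a) * u) • b
        have e : f (stabilizer M a) * u = f (stabilizer M b) * v⁻¹ := by
          have : u = (f (stabilizer M a))⁻¹ * f (stabilizer M b) * v⁻¹ := by rw [← huv]; simp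
          rw [this]; group
        rw [e, mul_smul, mem_stabilizer_iff.1 (inv_mem hv)])
  have hfp : ∀ ω : Ω, g • ω ≠ ω := by
    intro ω h
    rw [← hg] at h
    exact hf _ (hnt ω) h
  have hpow : ∀ (k : ℕ) (a : Ω), (g ^ k) • a = (f (stabilizer M a) ^ k) • a := by
    intro k
    induction k with
    | zero => simp
    | succ k ih =>
      intro a
      rw [pow_succ, mul_smul, ← hg, ih]
      change (f (stabilizer M (f (stabilizer M a) • a)) ^ k) • f (stabilizer M a) • a = _
      rw [hst, pow_succ, mul_smul]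
  have hp1 : g ^ p = 1 := by
    apply FaithfulSMul.eq_of_smul_eq_smul (α := Ω)
    intro a
    rw [hpow, one_smul]
    haveI := hn a
    have := (stabilizer M a).pow_index_mem (f (stabilizer M a))
    rw [hi] at this
    exact this
  refine ⟨g, ?_, hfp⟩
  rw [orderOf_eq_prime hp1]
  · exact hp
  · rintro rfl
    exact hfp (Classical.arbitrary Ω) (one_smul _ _)

theorem orb_p {p : ℕ} (hp : p.Prime) (hG : IsPGroup p G) (c : Ω)
    (hi : ∀ q : G, (stabilizer G (q • c)).index = p ^ 2) (X : Set G) (T : Subgroup G) (hT : T ≠ ⊤)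
    (hS : stabilizer G c ≤ T) (hX : X ⊆ T) (x : G) (hx : x ∈ X) (q0 : G) (hq0 : x • q0 • c ≠ q0 • c)
    (q : G) : (stabilizer (normalClosure X) (q • c)).index = p := by
  haveI := Fact.mk hp
  haveI := hG.isNilpotent
  obtain ⟨L, hL, hTL⟩ := (eq_top_or_exists_le_coatom T).resolve_left hT
  haveI hLn : L.Normal := Subgroup.NormalizerCondition.normal_of_coatom _ Group.normalizerCondition_of_isNilpotent hL
  set N := normalClosure X with hN
  have hNL : N ≤ L := normalClosure_le_normal (hX.trans hTL)
  set S := stabilizer G (q • c) with hSd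
  have hSL : S ≤ L := by
    intro s hs
    have : q⁻¹ * s * q ∈ stabilizer G c := by
      rw [mem_stabilizer_iff, mul_smul, mul_smul, mem_stabilizer_iff.1 hs, inv_smul_smul]
    have := hLn.conj_mem _ (hTL (hS this)) q
    simpa [mul_assoc] using this
  have e1 : orbit N (q • c) = orbit (N ⊔ S : Subgroup G) (q • c) := by
    ext d
    constructor
    · rintro ⟨n, rfl⟩
      exact ⟨⟨n, mem_sup_left n.2⟩, rfl⟩
    · rintro ⟨⟨u, hu⟩, rfl⟩
      rw [← SetLike.mem_coe, normal_mul] at hu
      obtain ⟨n, hn, s, hs, rfl⟩ := hu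
      refine ⟨⟨n, hn⟩, ?_⟩
      change n • q • c = (n * s) • q • c
      rw [mul_smul, mem_stabilizer_iff.1 hs]
  have e2 : (stabilizer N (q • c)).index = S.relIndex (N ⊔ S) := by
    rw [index_stabilizer, e1, ← index_stabilizer]; rfl
  rw [e2]
  have h1 := relIndex_mul_index (le_sup_right : S ≤ N ⊔ S)
  rw [hi q] at h1
  obtain ⟨i, hi2, h2⟩ := (Nat.dvd_prime_pow hp).1 (Dvd.intro _ h1)
  have i0 : i ≠ 0 := by
    rintro rfl
    have h3 : N ≤ S := le_sup_left.trans (relIndex_eq_one.1 (h2.trans (pow_zero p)))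
    apply hq0
    have h4 : (q * q0⁻¹) * x * (q * q0⁻¹)⁻¹ ∈ N := (normalClosure_normal).conj_mem _ (subset_normalClosure hx) _
    have h5 := mem_stabilizer_iff.1 (h3 h4)
    simp only [mul_inv_rev, inv_inv, mul_smul, inv_smul_smul, smul_left_cancel_iff] at h5
    rw [inv_smul_eq_iff] at h5
    exact h5
  have i2 : i ≠ 2 := by
    rintro rfl
    rw [h2] at h1
    have : (N ⊔ S).index = 1 := Nat.eq_of_mul_eq_mul_left (pow_pos hp.pos 2) (by rw [h1, mul_one])
    exact hL.1 (eq_top_iff.2 ((index_eq_one.1 this).symm.le.trans (sup_le hNL hSL)))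
  rw [h2, show i = 1 by omega, pow_one]

theorem main [FaithfulSMul G Ω] [Finite Ω] (htrans : IsPretransitive G Ω) (p : ℕ) (hp : p.Prime)
    (hcard : Nat.card Ω = 2 * p ^ 2)
    (hcl : ∀ σ : Equiv.Perm Ω, (∀ a b : Ω, ∃ g : G, σ a = g • a ∧ σ b = g • b) → ∃ g : G, ∀ a : Ω, σ a = g • a) :
    ∃ g : G, (orderOf g).Prime ∧ ∀ ω : Ω, g • ω ≠ ω := by
  classical
  haveI := Fact.mk hp
  haveI : Nonempty Ω := (Nat.card_pos_iff.1 (by rw [hcard]; have := hp.pos; positivity)).1
  obtain ⟨P⟩ : Nonempty (Sylow p G) := inferInstance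
  set Q : Subgroup G := (P : Subgroup G) with hQd
  have hQ : IsPGroup p Q := P.isPGroup'
  have hco : ¬ p ∣ Q.index := P.not_dvd_index
  have hidx : ∀ a : Ω, (stabilizer G a).index = 2 * p ^ 2 := fun a => by
    rw [index_stabilizer_of_transitive, hcard]
  have hrel : ∀ a : Ω, (stabilizer Q a).index * Q.index = Q.relIndex (stabilizer G a) * (2 * p ^ 2) := by
    intro a
    have e1 := relIndex_mul_index (inf_le_right : stabilizer G a ⊓ Q ≤ Q)
    have e2 := relIndex_mul_index (inf_le_left : stabilizer G a ⊓ Q ≤ stabilizer G a)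
    rw [inf_relIndex_right] at e1
    rw [inf_relIndex_left, hidx] at e2
    exact e1.trans e2.symm
  have hle : ∀ a : Ω, (stabilizer Q a).index ≤ 2 * p ^ 2 := fun a => by
    rw [index_stabilizer, ← hcard]
    exact Set.ncard_le_card _
  have hpw : ∀ a : Ω, ∃ j, (stabilizer Q a).index = p ^ j := fun a => hQ.index _
  have hnt : Nontrivial Q := by
    obtain ⟨a⟩ := ‹Nonempty Ω›
    rw [← not_subsingleton_iff_nontrivial]
    intro hs
    have h := hrel a
    rw [Subsingleton.elim (stabilizer Q a) ⊤, index_top, one_mul] at h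
    exact hco (h ▸ Dvd.intro (Q.relIndex (stabilizer G a) * (2 * p)) (by ring))
  obtain ⟨z, hz, hzo⟩ : ∃ z : Q, z ∈ center Q ∧ orderOf z = p := by
    haveI := hQ.center_nontrivial
    have hc : IsPGroup p (center Q) := hQ.to_subgroup _
    obtain ⟨k, hk, hk'⟩ := hc.nontrivial_iff_card.1 inferInstance
    obtain ⟨z, hz⟩ := exists_prime_orderOf_dvd_card' (G := center Q) p (by rw [hk']; exact dvd_pow_self p hk.ne')
    exact ⟨z, z.2, (Subgroup.orderOf_coe z).trans hz⟩
  have hzc : ∀ q : Q, q * z = z * q := fun q => mem_center_iff.1 hz q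
  have hzG : orderOf (z : G) = p := by rw [← hzo]; simp
  by_contra hno
  push Not at hno
  obtain ⟨a, ha⟩ := hno z (hzG ▸ hp)
  have ha : z • a = a := ha
  have hfix : ∀ (q : Q) (c : Ω), z • q • c = q • c ↔ z • c = c := by
    intro q c
    rw [← mul_smul, ← hzc, mul_smul, smul_left_cancel_iff]
  obtain ⟨b, hb⟩ : ∃ b : Ω, z • b ≠ b := by
    by_contra hc
    push Not at hc
    have : (z : G) = 1 := FaithfulSMul.eq_of_smul_eq_smul (α := Ω) fun c => by rw [one_smul]; exact hc c
    rw [this, orderOf_one] at hzG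
    exact hp.one_lt.ne hzG
  have hdis : Disjoint (orbit Q a) (orbit Q b) := by
    rw [Set.disjoint_left]
    rintro _ ⟨q, rfl⟩ ⟨q', hq'⟩
    exact hb ((hfix q' b).1 (by simp only at hq'; rw [hq']; exact (hfix q a).2 ha))
  have hge : ∀ c : Ω, p ^ 2 ∣ (stabilizer Q c).index := by
    intro c
    have h1 : p ^ 2 ∣ (stabilizer Q c).index * Q.index := by
      rw [hrel]; exact Dvd.intro_left (Q.relIndex (stabilizer G c) * 2) (by ring)
    exact (((Nat.Prime.coprime_iff_not_dvd hp).2 hco).pow_left 2).dvd_of_dvd_mul_right h1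
  have hsum : (orbit Q a).ncard + (orbit Q b).ncard ≤ 2 * p ^ 2 := by
    rw [← Set.ncard_union_eq hdis, ← hcard]
    exact Set.ncard_le_card _
  have hge' : ∀ c : Ω, p ^ 2 ≤ (orbit Q c).ncard := fun c => by
    rw [← index_stabilizer]
    exact Nat.le_of_dvd (Nat.pos_of_ne_zero index_ne_zero_of_finite) (hge c)
  have oa : (orbit Q a).ncard = p ^ 2 := by have := hge' a; have := hge' b; omega
  have ob : (orbit Q b).ncard = p ^ 2 := by have := hge' a; have := hge' b; omega
  have hun : ∀ c, c ∈ orbit Q a ∨ c ∈ orbit Q b := by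
    have : orbit Q a ∪ orbit Q b = Set.univ := by
      apply Set.eq_of_subset_of_ncard_le (Set.subset_univ _)
      rw [Set.ncard_union_eq hdis, oa, ob, Set.ncard_univ, hcard]; omega
    intro c
    have h : c ∈ orbit Q a ∪ orbit Q b := this ▸ Set.mem_univ c
    exact h
  have hi2 : ∀ c : Ω, (stabilizer Q c).index = p ^ 2 := by
    intro c
    rw [index_stabilizer]
    rcases hun c with h | h <;> rw [orbit_eq_iff.2 h]
    exacts [oa, ob]
  have hp2 : p ≠ 2 := by
    rintro rfl
    have h := hrel a
    rw [hi2] at h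
    apply hco
    exact ⟨Q.relIndex (stabilizer G a), by omega⟩
  have hfz : {c | z • c = c} = orbit Q a := by
    ext c
    constructor
    · intro h
      rcases hun c with h1 | ⟨q, rfl⟩
      · exact h1
      · exact absurd ((hfix q b).1 h) hb
    · rintro ⟨q, rfl⟩
      exact (hfix q a).2 ha
  obtain ⟨g, hga, hgQ⟩ : ∃ g : G, g • a = b ∧ g * z * g⁻¹ ∈ Q := by
    obtain ⟨g0, hg0⟩ := exists_smul_eq G a b
    set B := stabilizer G b
    have hR : IsPGroup p (Q.subgroupOf B) := hQ.comap_subtype
    have hRi : ¬ p ∣ (Q.subgroupOf B).index := by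
      intro h
      have e := hrel b
      rw [hi2] at e
      apply hco
      have e2 : Q.index = Q.relIndex B * 2 :=
        Nat.eq_of_mul_eq_mul_left (pow_pos hp.pos 2) (by rw [e]; ring)
      rw [e2]
      exact Dvd.dvd.mul_right h 2
    let y : B := ⟨g0 * z * g0⁻¹, by
      rw [mem_stabilizer_iff, ← hg0, mul_smul, mul_smul, inv_smul_smul]
      exact congrArg (g0 • ·) ha⟩
    have hy : IsPGroup p (zpowers y) := by
      apply IsPGroup.of_card (n := 1)
      rw [Nat.card_zpowers, pow_one, ← hzG, ← Subgroup.orderOf_coe]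
      exact (MulAut.conj g0).orderOf_eq _
    obtain ⟨S, hS⟩ := hy.exists_le_sylow
    obtain ⟨h, hh⟩ := exists_smul_eq B S (hR.toSylow hRi)
    have h1 : h * y * h⁻¹ ∈ ((h • S : Sylow p B) : Subgroup B) := by
      rw [Sylow.coe_subgroup_smul]
      exact smul_mem_pointwise_smul _ (MulAut.conj h) _ (hS (mem_zpowers y))
    rw [hh] at h1
    refine ⟨h * g0, by rw [mul_smul, hg0]; exact h.2, ?_⟩
    have h2 : ((h * y * h⁻¹ : B) : G) ∈ Q := h1
    simpa [y, mul_assoc] using h2
  let w : Q := ⟨_, hgQ⟩
  have hw : ∀ c : Ω, w • g • c = g • c ↔ z • c = c := by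
    intro c
    change (g * z * g⁻¹) • g • c = g • c ↔ (z : G) • c = c
    rw [mul_smul, mul_smul, inv_smul_smul, smul_left_cancel_iff]
  have hwb : w • b = b := by rw [← hga, hw]; exact ha
  have hfw : {c : Ω | w • c = c}.ncard = p ^ 2 := by
    rw [← oa, ← hfz, ← Set.ncard_image_of_injective {c | z • c = c} (MulAction.injective g)]
    congr 1
    ext c
    constructor
    · intro h
      refine ⟨g⁻¹ • c, (hw _).1 ?_, by simp⟩
      simpa using h
    · rintro ⟨d, hd, rfl⟩
      exact (hw d).2 hd
  by_cases h1 : ∃ a' ∈ orbit Q a, w • a' = a'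
  · obtain ⟨a', ha', hwa⟩ := h1
    have hza : z • a' = a' := by
      have : a' ∈ {c | z • c = c} := hfz ▸ ha'
      exact this
    obtain ⟨q0, hq0⟩ : ∃ q0 : Q, w • q0 • a' ≠ q0 • a' := by
      by_contra hc
      push Not at hc
      have hsub : insert b (orbit Q a) ⊆ {c : Ω | w • c = c} := by
        rintro c (rfl | hc')
        · exact hwb
        · rw [← orbit_eq_iff.2 ha'] at hc'
          obtain ⟨q, rfl⟩ := hc'
          exact hc q
      have := Set.ncard_le_ncard hsub
      rw [Set.ncard_insert_of_notMem (fun h => Set.disjoint_left.1 hdis h (mem_orbit_self b)), hfw, oa] at this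
      omega
    let T : Subgroup Q :=
      { carrier := {q | ∃ u ∈ zpowers z, q • b = u • b}
        one_mem' := ⟨1, one_mem _, rfl⟩
        mul_mem' := by
          rintro q q' ⟨u, hu, h⟩ ⟨u', hu', h'⟩
          refine ⟨u' * u, mul_mem hu' hu, ?_⟩
          have hc := mem_center_iff.1 (zpowers_le.2 hz hu') q
          rw [mul_smul, h', ← mul_smul, hc, mul_smul, h, mul_smul]
        inv_mem' := by
          rintro q ⟨u, hu, h⟩
          refine ⟨u⁻¹, inv_mem hu, ?_⟩
          have hc := mem_center_iff.1 (zpowers_le.2 hz hu) q⁻¹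
          rw [eq_inv_smul_iff, ← mul_smul, ← hc, mul_smul, ← h, inv_smul_smul] }
    have hT : T ≠ ⊤ := by
      intro hT
      have hsub : orbit Q b ⊆ orbit (zpowers z) b := by
        rintro _ ⟨q, rfl⟩
        obtain ⟨u, hu, h⟩ : q ∈ T := hT ▸ mem_top q
        exact ⟨⟨u, hu⟩, h.symm⟩
      have h2 := Set.ncard_le_ncard hsub
      rw [ob, ← index_stabilizer] at h2
      have h3 := Nat.le_of_dvd Nat.card_pos (stabilizer (zpowers z) b).index_dvd_card
      rw [Nat.card_zpowers, hzo] at h3
      have := hp.one_lt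
      nlinarith
    obtain ⟨u, hu1, hu2⟩ := closed_fpf hp hcl (M := normalClosure ({z, w} : Set Q)) (fun m => ⟨m, fun _ => rfl⟩)
      (hQ.to_subgroup _) (by
        intro c
        rcases hun c with h | ⟨q, rfl⟩
        · rw [← orbit_eq_iff.2 ha'] at h
          obtain ⟨q, rfl⟩ := h
          refine orb_p hp hQ a' (fun q => hi2 _) _ (stabilizer Q a') ?_ le_rfl ?_ w (by simp) q0 hq0 q
          · intro h
            have := hi2 a'
            rw [h, index_top] at this
            have := hp.one_lt
            nlinarith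
          · rintro _ (rfl | rfl)
            exacts [hza, hwa]
        · refine orb_p hp hQ b (fun q => hi2 _) _ T hT (fun s hs => ⟨1, one_mem _, by rw [one_smul]; exact hs⟩) ?_
            z (by simp) 1 (by simpa using hb) q
          rintro _ (rfl | rfl)
          · exact ⟨_, mem_zpowers _, rfl⟩
          · exact ⟨1, one_mem _, by rw [one_smul]; exact hwb⟩)
    obtain ⟨c, hc⟩ := hno u hu1
    exact hu2 c hc
  · push Not at h1
    have hfw' : {c : Ω | w • c = c} = orbit Q b := by
      apply Set.eq_of_subset_of_ncard_le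
      · intro c hc
        exact (hun c).resolve_left fun h => h1 c h hc
      · rw [hfw, ob]
      · exact Set.toFinite _
    have hfp : ∀ c : Ω, (z * w) • c ≠ c := by
      intro c h
      rcases hun c with h2 | h2
      · have : z • c = c := by
          have : c ∈ {c | z • c = c} := hfz ▸ h2
          exact this
        rw [← hzc, mul_smul, this] at h
        exact h1 c h2 h
      · have : w • c = c := by
          have : c ∈ {c | w • c = c} := hfw' ▸ h2
          exact this
        rw [mul_smul, this] at h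
        have : c ∈ orbit Q a := hfz ▸ h
        exact Set.disjoint_left.1 hdis this h2
    have hpow : (z * w) ^ p = 1 := by
      have hc : Commute z w := (hzc w).symm
      have hwp : w ^ p = 1 := by
        apply Subtype.ext
        change (g * z * g⁻¹) ^ p = 1
        rw [conj_pow, ← hzG, pow_orderOf_eq_one]; simp
      rw [hc.mul_pow, hwp, mul_one, ← hzo, pow_orderOf_eq_one]
    have hne : z * w ≠ 1 := fun h => hfp a (by rw [h, one_smul])
    obtain ⟨c, hc⟩ := hno ((z * w : Q) : G) (by rw [Subgroup.orderOf_coe, orderOf_eq_prime hpow hne]; exact hp)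
    exact hfp c hc

end H29.TC2
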