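import Cfsg.Agent.H14.P24
import Cfsg.Prelude.Def_Transfer

/-! S5572, part X: the tail after S3344. -/

set_option autoImplicit false

namespace H29.X5T
open _root_.Cfsg Subgroup

theorem cb : center (Matrix.SpecialLinearGroup (Fin 3) (ZMod 2)) = ⊥ := by
  refine eq_bot_iff.2 fun A hA => ?_
  obtain ⟨r, hr, e⟩ := Matrix.SpecialLinearGroup.mem_center_iff.1 hA
  have r1 : r = 1 := by
    revert hr
    generalize r = r
    revert r
    decide
  subst r1
  exact mem_bot.2 (Subtype.ext (by rw [← e]; simp))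

theorem ca (n : ℕ) [Nontrivial (Fin n)] : 2 * Nat.card (alternatingGroup (Fin n)) = n.factorial := by
  rw [Nat.card_eq_fintype_card, two_mul_card_alternatingGroup, Fintype.card_perm, Fintype.card_fin]

theorem tl {G : Type*} [Group G] [Finite G] (n9 : ¬ 9 ∣ Nat.card G)
    (h : (∃ (N : Subgroup G) (_ : N.Normal), IsMulCommutative N ∧ (∀ n ∈ N, n ^ 2 = 1) ∧ Nat.card N = 8 ∧
        Nonempty (G ⧸ N ≃* Matrix.ProjectiveSpecialLinearGroup (Fin 3) (ZMod 2))) ∨
      Nonempty (G ≃* alternatingGroup (Fin 8)) ∨ Nonempty (G ≃* alternatingGroup (Fin 9)) ∨ Cfsg.Spor.IsoM12 G) :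
    ∃ (E : Subgroup G) (_ : E.Normal), IsElementaryAbelian 2 E ∧ Nat.card ↥E = 8 ∧
      Nonempty (G ⧸ E ≃* Matrix.SpecialLinearGroup (Fin 3) (ZMod 2)) := by
  rcases h with ⟨N, hN, a, b, c, ⟨e⟩⟩ | ⟨⟨e⟩⟩ | ⟨⟨e⟩⟩ | ⟨⟨e⟩⟩
  · exact ⟨N, hN, ⟨a, b⟩, c, ⟨e.trans ((QuotientGroup.quotientMulEquivOfEq cb).trans QuotientGroup.quotientBot)⟩⟩
  · have := ca 8
    rw [← Nat.card_congr e.toEquiv, show Nat.factorial 8 = 40320 from rfl] at this
    omega
  · have := ca 9
    rw [← Nat.card_congr e.toEquiv, show Nat.factorial 9 = 362880 from rfl] at this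
    omega
  · have := H14.card_M12
    rw [← Nat.card_congr e.toEquiv] at this
    omega

end H29.X5T
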